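import Cfsg.Agent.H751.Dat

/-!
# Tools for the assembly of S5117 (helper751)
-/

set_option autoImplicit false

namespace Cfsg.Agent.H751

open Cfsg Cfsg.FusionSystem

/-- The Sylow subgroups are isomorphic. -/
theorem nonempty_sylow_equiv {G H : Type*} [Group G] [Group H] {S : Subgroup G} {ι : S →* H}
    (hι : Function.Injective ι) {T : Subgroup H} (hT : T = ι.range) : Nonempty (S ≃* T) := by
  subst hT
  exact ⟨MonoidHom.ofInjective hι⟩

/-- No Frobenius group `2³ : 7` acts on a subgroup of the Sylow 2-subgroup. -/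
theorem false_of_frob {G : Type*} [Group G] [Finite G] (S : Sylow 2 G) {H : Type*} [Group H]
    {ι : ↥(S : Subgroup G) →* H} (hι : (groupFusionSystem (S : Subgroup G)).IsRealizedBy ι)
    (hno : ∀ (E : Subgroup H), Nat.card E = 8 → (∀ e ∈ E, e * e = 1) → ∀ x : H, (∀ e ∈ E, x * e * x⁻¹ ∈ E) →
      (∀ e ∈ E, x ^ 7 * e = e * x ^ 7) → ∀ e ∈ E, x * e = e * x)
    (h : ∃ (E : Subgroup G) (x : G), Nat.card E = 8 ∧ (∀ e ∈ E, e * e = 1) ∧ (∀ e ∈ E, x * e * x⁻¹ ∈ E) ∧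
      orderOf x = 7 ∧ ∃ e ∈ E, x * e ≠ e * x) : False := by
  have hp : Fact (Nat.Prime 2) := ⟨Nat.prime_two⟩
  obtain ⟨E, x, hE, hE2, hEx, hx, e0, he0, hne⟩ := h
  -- move `E` into `S`
  have hpE : IsPGroup 2 E := IsPGroup.of_card (n := 3) (by rw [hE]; norm_num)
  obtain ⟨Q, hQ⟩ := hpE.exists_le_sylow
  obtain ⟨g, hg⟩ := MulAction.exists_smul_eq G Q S
  let E' : Subgroup G := E.map (MulAut.conj g).toMonoidHom
  have hE'S : E' ≤ (S : Subgroup G) := by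
    rintro _ ⟨e, he, rfl⟩
    rw [← hg]
    exact ⟨e, hQ he, rfl⟩
  let y : G := g * x * g⁻¹
  have hy : ∀ e ∈ E', y * e * y⁻¹ ∈ E' := by
    rintro _ ⟨e, he, rfl⟩
    refine ⟨x * e * x⁻¹, hEx e he, ?_⟩
    show g * (x * e * x⁻¹) * g⁻¹ = g * x * g⁻¹ * (g * e * g⁻¹) * (g * x * g⁻¹)⁻¹
    group
  have hy7 : y ^ 7 = 1 := by
    show (g * x * g⁻¹) ^ 7 = 1
    rw [conj_pow, ← hx, pow_orderOf_eq_one]
    group
  -- the automorphism
  let φ : E' →* G := conjHom E' y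
  have hφS : ∀ e : E', φ e ∈ (S : Subgroup G) := fun e => hE'S (hy e e.2)
  obtain ⟨k, hk⟩ := (hι.2 E' hE'S φ hφS).1 ⟨hE'S, hφS, y, fun _ => rfl⟩
  have hk' : ∀ (e : G) (he : e ∈ E'), ι ⟨y * e * y⁻¹, hE'S (hy e he)⟩ = k * ι ⟨e, hE'S he⟩ * k⁻¹ :=
    fun e he => hk ⟨e, he⟩
  let E'' : Subgroup H := (E'.subgroupOf (S : Subgroup G)).map ι
  have hmem : ∀ (e : G) (he : e ∈ E'), ι ⟨e, hE'S he⟩ ∈ E'' := fun e he => ⟨⟨e, hE'S he⟩, he, rfl⟩
  have hcard : Nat.card E'' = 8 := by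
    have h1 : Nat.card E'' = Nat.card (E'.subgroupOf (S : Subgroup G)) :=
      (Nat.card_congr ((E'.subgroupOf (S : Subgroup G)).equivMapOfInjective ι hι.1).toEquiv).symm
    have h2 : Nat.card (E'.subgroupOf (S : Subgroup G)) = Nat.card E' :=
      Nat.card_congr (Subgroup.subgroupOfEquivOfLe hE'S).toEquiv
    have h3 : Nat.card E' = Nat.card E :=
      (Nat.card_congr (E.equivMapOfInjective _ (MulAut.conj g).injective).toEquiv).symm
    rw [h1, h2, h3, hE]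
  have hE''2 : ∀ e ∈ E'', e * e = 1 := by
    rintro _ ⟨⟨e, heS⟩, ⟨a, ha, hae⟩, rfl⟩
    rw [← map_mul, ← map_one ι]
    congr 1
    apply Subtype.ext
    have hae' : g * a * g⁻¹ = e := hae
    show e * e = 1
    rw [← hae']
    have h5 : g * a * g⁻¹ * (g * a * g⁻¹) = g * (a * a) * g⁻¹ := by group
    rw [h5, hE2 a ha]
    group
  have hex : ∀ z ∈ E'', ∃ (e : G) (he : e ∈ E'), z = ι ⟨e, hE'S he⟩ := by
    rintro _ ⟨⟨e, heS⟩, he, rfl⟩
    exact ⟨e, he, rfl⟩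
  have hkE : ∀ z ∈ E'', k * z * k⁻¹ ∈ E'' := by
    intro z hz
    obtain ⟨e, he, rfl⟩ := hex z hz
    rw [← hk' e he]
    exact hmem _ (hy e he)
  have hpow : ∀ (m : ℕ) (e : G) (he : e ∈ E'), ∃ he' : y ^ m * e * (y ^ m)⁻¹ ∈ E',
      ι ⟨y ^ m * e * (y ^ m)⁻¹, hE'S he'⟩ = k ^ m * ι ⟨e, hE'S he⟩ * (k ^ m)⁻¹ := by
    intro m
    induction m with
    | zero =>
      intro e he
      have h6 : y ^ 0 * e * (y ^ 0)⁻¹ = e := by simp
      refine ⟨by rw [h6]; exact he, ?_⟩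
      simp
    | succ m ih =>
      intro e he
      obtain ⟨h7, h8⟩ := ih e he
      have h9 : y ^ (m + 1) * e * (y ^ (m + 1))⁻¹ = y * (y ^ m * e * (y ^ m)⁻¹) * y⁻¹ := by
        rw [pow_succ']; group
      refine ⟨by rw [h9]; exact hy _ h7, ?_⟩
      have h10 := hk' _ h7
      rw [h8] at h10
      have h11 : (⟨y ^ (m + 1) * e * (y ^ (m + 1))⁻¹, hE'S (by rw [h9]; exact hy _ h7)⟩ : (S : Subgroup G)) =
          ⟨y * (y ^ m * e * (y ^ m)⁻¹) * y⁻¹, hE'S (hy _ h7)⟩ := Subtype.ext h9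
      rw [h11, h10, pow_succ']
      group
  have hk7 : ∀ z ∈ E'', k ^ 7 * z = z * k ^ 7 := by
    intro z hz
    obtain ⟨e, he, rfl⟩ := hex z hz
    obtain ⟨h7, h8⟩ := hpow 7 e he
    have h9 : y ^ 7 * e * (y ^ 7)⁻¹ = e := by rw [hy7]; simp
    have h11 : (⟨y ^ 7 * e * (y ^ 7)⁻¹, hE'S h7⟩ : (S : Subgroup G)) = ⟨e, hE'S he⟩ := Subtype.ext h9
    rw [h11] at h8
    nth_rewrite 2 [h8]
    group
  have hcom := hno E'' hcard hE''2 k hkE hk7
  -- contradiction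
  have he0' : g * e0 * g⁻¹ ∈ E' := ⟨e0, he0, rfl⟩
  have h12 := hk' _ he0'
  rw [hcom _ (hmem _ he0'), mul_inv_cancel_right] at h12
  have h13 : y * (g * e0 * g⁻¹) * y⁻¹ = g * e0 * g⁻¹ := congrArg Subtype.val (hι.1 h12)
  apply hne
  have h14 : g * x * g⁻¹ * (g * e0 * g⁻¹) * (g * x * g⁻¹)⁻¹ = g * e0 * g⁻¹ := h13
  have h15 : g * (x * e0 * x⁻¹) * g⁻¹ = g * e0 * g⁻¹ := by
    rw [← h14]
    group
  have h16 : x * e0 * x⁻¹ = e0 := mul_left_cancel (mul_right_cancel h15)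
  rw [mul_inv_eq_iff_eq_mul] at h16
  exact h16

/-! ### A prime with given 2-parts -/

theorem val_eq_of_add {a b t k : ℕ} (ha : a ≠ 0) (hb : b ≠ 0) (h : a + b = 2 ^ t * k) (ht : padicValNat 2 b < t) :
    padicValNat 2 a = padicValNat 2 b := by
  have : Fact (Nat.Prime 2) := ⟨Nat.prime_two⟩
  have hd : ∀ e, e ≤ t → (2 ^ e ∣ a ↔ 2 ^ e ∣ b) := by
    intro e he
    have h1 : 2 ^ e ∣ a + b := by
      rw [h]
      exact Dvd.dvd.mul_right (pow_dvd_pow 2 he) k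
    exact ⟨fun h2 => (Nat.dvd_add_right h2).1 h1, fun h2 => (Nat.dvd_add_left h2).1 h1⟩
  apply le_antisymm
  · by_contra hcon
    push Not at hcon
    have h2 : 2 ^ (padicValNat 2 b + 1) ∣ a := (padicValNat_dvd_iff_le ha).2 hcon
    have h3 := (hd _ (by omega)).1 h2
    have h4 := (padicValNat_dvd_iff_le hb).1 h3
    omega
  · exact (padicValNat_dvd_iff_le ha).1 ((hd _ ht.le).2 pow_padicValNat_dvd)

/-- There is a prime `p` such that `p - 1`, `p + 1` have the 2-parts of `r + 1`, `r - 1`. -/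
theorem exists_prime_swap {r : ℕ} (hr : Odd r) (h1 : 1 < r) : ∃ p : ℕ, p.Prime ∧ Odd p ∧
    padicValNat 2 (p - 1) = padicValNat 2 (r + 1) ∧ padicValNat 2 (p + 1) = padicValNat 2 (r - 1) := by
  have hlt : r + 1 < 2 ^ (r + 1) := Nat.lt_two_pow_self
  have hlt1 : ∀ a : ℕ, a ≠ 0 → a ≤ r + 1 → padicValNat 2 a < r + 1 := by
    intro a ha har
    by_contra hcon
    push Not at hcon
    have : Fact (Nat.Prime 2) := ⟨Nat.prime_two⟩
    have h2 : 2 ^ (r + 1) ∣ a := (padicValNat_dvd_iff_le ha).2 hcon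
    have := Nat.le_of_dvd (by omega) h2
    omega
  have hcop : Nat.Coprime (2 ^ (r + 1) - r) (2 ^ (r + 1)) := by
    rw [Nat.coprime_pow_right_iff (by omega)]
    rw [Nat.coprime_two_right]
    have h3 : Even (2 ^ (r + 1)) := ⟨2 ^ r, by rw [pow_succ]; ring⟩
    exact Nat.Even.sub_odd (by omega) h3 hr
  obtain ⟨p, hpn, hpp, hpm⟩ := Nat.forall_exists_prime_gt_and_modEq (2 ^ (r + 1)) (q := 2 ^ (r + 1))
    (a := 2 ^ (r + 1) - r) (by positivity) hcop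
  have h4 : p + r ≡ 0 [MOD 2 ^ (r + 1)] := by
    have h5 := hpm.add_right r
    have h6 : 2 ^ (r + 1) - r + r = 2 ^ (r + 1) := by omega
    rw [h6] at h5
    exact h5.trans (by simp [Nat.ModEq])
  obtain ⟨k, hk⟩ := (Nat.modEq_zero_iff_dvd).1 h4
  have hp2 : p ≠ 2 := by
    rintro rfl
    have : 2 ≤ r := by omega
    omega
  refine ⟨p, hpp, hpp.odd_of_ne_two hp2, ?_, ?_⟩
  · refine val_eq_of_add (t := r + 1) (k := k) (by omega) (by omega) (by omega) (hlt1 _ (by omega) le_rfl)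
  · refine val_eq_of_add (t := r + 1) (k := k) (by omega) (by omega) (by omega) (hlt1 _ (by omega) (by omega))

end Cfsg.Agent.H751
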