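import Cfsg.Agent.H751.RealLin
import Cfsg.Agent.LieClassical.GUOrder

/-!
# The monomial 2-group as a subgroup of `GU_n(q)` (helper751)
-/

set_option autoImplicit false

namespace Cfsg.Agent.H751

open Polynomial Equiv Cfsg.Agent.LieClassical

section Uni

universe u

theorem exists_frob_ne {F : Type*} [Field F] [Fintype F] {q : ℕ} (hF : Fintype.card F = q ^ 2) :
    ∃ a : F, GUOrder.frob hF a ≠ a := by
  by_contra hcon
  push Not at hcon
  have hq := GUOrder.two_le hF
  have hdeg : (X ^ q - X : F[X]).natDegree = q :=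
    FiniteField.X_pow_card_sub_X_natDegree_eq F (by omega)
  have h0 : (X ^ q - X : F[X]) ≠ 0 := FiniteField.X_pow_card_sub_X_ne_zero F (by omega)
  have h1 : Fintype.card F ≤ q := by
    have h3 : (Finset.univ : Finset F).val ≤ (X ^ q - X : F[X]).roots := by
      rw [Multiset.le_iff_subset Finset.univ.nodup]
      intro a _
      rw [mem_roots h0, IsRoot.def, eval_sub, eval_pow, eval_X, sub_eq_zero]
      exact hcon a
    have h4 := Multiset.card_le_card h3
    have h5 := card_roots' (X ^ q - X : F[X])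
    rw [hdeg] at h5
    exact h4.trans h5
  rw [hF] at h1
  nlinarith

variable {O : Type*} [CommRing O] [IsDomain O] {L N : ℕ} {ζ : O} {M : Type*} [CommGroup M] {χ : M →* Oˣ}
  {n : Type*} [Fintype n] [DecidableEq n] {Q : Subgroup (Perm n)} {κ : Perm n}
  {hQ : ∀ σ ∈ Q, Commute σ κ} {r : ℕ}

/-- **The monomial 2-group in the general unitary group.** -/
theorem exists_uni {F : Type u} [Field F] [Fintype F] {q : ℕ} (hF : Fintype.card F = q ^ 2) (h2 : (2 : F) ≠ 0)
    (hζ : IsPrimitiveRoot ζ (2 ^ L))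
    (hO : ∀ (K : Type u) [Field K] (z : K), IsPrimitiveRoot z (2 ^ L) → ∃ φ : O →+* K, φ ζ = z)
    (hNL : N ≤ L) (hχ : Function.Injective χ) (hM : ∀ t : M, t ^ 2 ^ N = 1) (hκ : κ * κ = 1)
    (hr : 2 ^ N ∣ q + r) (hr2 : r * r ≡ 1 [MOD 2 ^ N]) [Nonempty n] :
    ∃ τ : wGp M Q κ hQ r →* Matrix.GeneralLinearGroup n F, IsReal L ζ (wRho χ Q κ hQ r) τ ∧ Function.Injective τ ∧
      (∀ w, adj (GUOrder.frob hF) (τ w : Matrix n n F) * (τ w : Matrix n n F) = 1) ∧
      (∀ d : n → F, (∀ i, d (κ i) = d i) → (∀ σ ∈ Q, ∀ i, d (σ i) = d i) → ∀ w,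
        Commute (Matrix.diagonal d) (τ w : Matrix n n F)) ∧
      ∀ w, (∃ c, (τ w : Matrix n n F) = Matrix.scalar n c) ↔ IsScal (w : MonGp n M) := by
  let K := AlgebraicClosure F
  let i : F →+* K := algebraMap F K
  have h2K : (2 : K) ≠ 0 := by
    rw [← map_ofNat i 2]
    exact (map_ne_zero i).2 h2
  have hne : NeZero ((2 ^ L : ℕ) : K) := ⟨by rw [Nat.cast_pow]; exact pow_ne_zero _ (by exact_mod_cast h2K)⟩
  obtain ⟨z, hz⟩ := HasEnoughRootsOfUnity.exists_primitiveRoot K (2 ^ L)
  obtain ⟨φ, hφz⟩ := hO K z hz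
  have hφ : IsPrimitiveRoot (φ ζ) (2 ^ L) := by rw [hφz]; exact hz
  let χK : M →* Kˣ := (Units.map φ.toMonoidHom).comp χ
  have hχK : Function.Injective χK := mu_map_injective hζ hNL hχ hM hφ
  -- the values lie in `F`
  have hq2 : q ^ 2 ≡ 1 [MOD 2 ^ N] := by
    obtain ⟨s, hs⟩ := hr
    have h1 : q ^ 2 ≡ r * r [MOD 2 ^ N] := by
      rw [← Int.natCast_modEq_iff] at *
      have h3 : (q : ℤ) = 2 ^ N * s - r := by
        have : (q : ℤ) + r = 2 ^ N * s := by exact_mod_cast hs
        linarith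
      rw [Int.modEq_iff_dvd]
      push_cast
      rw [h3]
      exact ⟨2 * r * s - 2 ^ N * s ^ 2, by ring⟩
    exact h1.trans hr2
  have hex : ∀ t : M, ∃ a : Fˣ, i a = ((χK t : Kˣ) : K) := by
    intro t
    obtain ⟨a, ha⟩ := exists_of_pow_card_eq i (x := ((χK t : Kˣ) : K)) (by
      rw [← Units.val_pow_eq_pow_val, ← map_pow, hF]
      congr 2
      have := pow_eq_pow_of_modEq hq2 (hM t)
      rw [this, pow_one])
    have ha0 : a ≠ 0 := by
      rintro rfl
      rw [map_zero] at ha
      exact (Units.ne_zero _) ha.symm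
    exact ⟨Units.mk0 a ha0, ha⟩
  choose f hf using hex
  have hfinj : Function.Injective (fun a : Fˣ => i (a : F)) := fun a b hab => Units.ext (i.injective hab)
  let χF : M →* Fˣ :=
    { toFun := f
      map_one' := hfinj (by
        show i (f 1 : F) = i ((1 : Fˣ) : F)
        rw [hf, map_one, Units.val_one, Units.val_one, map_one])
      map_mul' := fun a b => hfinj (by
        show i (f (a * b) : F) = i ((f a * f b : Fˣ) : F)
        rw [hf, map_mul, Units.val_mul, Units.val_mul, map_mul, hf, hf]) }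
  have hχF : (Units.map i.toMonoidHom).comp χF = χK := by
    ext t
    exact hf t
  have hχFi : Function.Injective χF := by
    intro a b hab
    apply hχK
    rw [← hχF]
    show Units.map i.toMonoidHom (χF a) = Units.map i.toMonoidHom (χF b)
    rw [hab]
  set σ : F →+* F := GUOrder.frob hF with hσdef
  have hσ : ∀ x, σ x = x ^ q := fun x => rfl
  have hσσ : ∀ x, σ (σ x) = x := GUOrder.frob_frob hF
  have hσχ : ∀ t, σ ((χF t : Fˣ) : F) * ((χF (t ^ r) : Fˣ) : F) = 1 := by
    intro t
    obtain ⟨s, hs⟩ := hr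
    rw [hσ, ← Units.val_pow_eq_pow_val, ← map_pow, ← Units.val_mul, ← map_mul, ← pow_add, hs, pow_mul, hM, one_pow,
      map_one, Units.val_one]
  let k0 : MonGp n M := SemidirectProduct.inr κ
  let J : Matrix n n F := monMat χF k0
  have hk0 : k0 * k0 = 1 := by
    show (SemidirectProduct.inr κ * SemidirectProduct.inr κ : MonGp n M) = 1
    rw [← map_mul, hκ, map_one]
  have hJ : J * J = 1 := by
    show monMat χF k0 * monMat χF k0 = 1
    rw [← monMat_mul, hk0, monMat_one]
  have hJapp : ∀ a b, J a b = if κ b = a then 1 else 0 := by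
    intro a b
    show monMat χF k0 a b = _
    rw [monMat_apply]
    show (if κ b = a then ((χF 1 : Fˣ) : F) else 0) = _
    rw [map_one, Units.val_one]
  have hJadj : adj σ J = J := by
    ext a b
    rw [adj_apply, hJapp, hJapp]
    have h1 : (κ a = b) ↔ (κ b = a) := by
      have h3 : ∀ c, κ (κ c) = c := fun c => congrArg (fun g : Perm n => g c) hκ
      constructor
      · rintro rfl; exact h3 a
      · rintro rfl; exact h3 b
    by_cases h : κ a = b
    · rw [if_pos h, if_pos (h1.1 h), map_one]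
    · rw [if_neg h, if_neg (fun h' => h (h1.2 h')), map_zero]
  let τ0 : wGp M Q κ hQ r →* Matrix.GeneralLinearGroup n F := (mono χF).comp (wGp M Q κ hQ r).subtype
  have hτ0 : ∀ w, (τ0 w : Matrix n n F) = monMat χF (w : MonGp n M) := fun w => rfl
  have hform : ∀ w, adj σ (τ0 w : Matrix n n F) * J * (τ0 w : Matrix n n F) = J := by
    intro w
    let w' : MonGp n M := ⟨fun a => (w : MonGp n M).left a ^ r, (w : MonGp n M).right⟩
    have h1 : adj σ (monMat χF (w : MonGp n M)) * monMat χF w' = 1 := by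
      ext a b
      rw [Matrix.mul_apply, Finset.sum_eq_single ((w : MonGp n M).right a)]
      · rw [adj_apply, monMat_apply, if_pos rfl, monMat_apply, Matrix.one_apply]
        by_cases hab : a = b
        · subst hab
          rw [if_pos (show w'.right a = (w : MonGp n M).right a from rfl), if_pos rfl]
          exact hσχ _
        · rw [if_neg, if_neg hab, mul_zero]
          intro h
          exact hab ((w : MonGp n M).right.injective h).symm
      · intro c _ hc
        rw [adj_apply, monMat_apply, if_neg (fun h => hc h.symm), map_zero, zero_mul]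
      · intro h
        exact absurd (Finset.mem_univ _) h
    have h3 : J * monMat χF (w : MonGp n M) = monMat χF w' * J := by
      show monMat χF k0 * monMat χF (w : MonGp n M) = monMat χF w' * monMat χF k0
      rw [← monMat_mul, ← monMat_mul]
      congr 1
      refine SemidirectProduct.ext ?_ ?_
      · funext a
        rw [left_mul_apply, left_mul_apply]
        show 1 * (w : MonGp n M).left (κ⁻¹ a) = (w : MonGp n M).left a ^ r * 1
        have hκi : κ⁻¹ = κ := inv_eq_of_mul_eq_one_left hκ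
        rw [mul_one, one_mul, hκi, w.2.2 a]
      · exact ((hQ _ w.2.1).eq).symm
    rw [hτ0, mul_assoc, h3, ← mul_assoc, h1, one_mul]
  have hJu : IsUnit J := IsUnit.of_mul_eq_one J hJ
  obtain ⟨y0, hy, hyc⟩ := exists_adj_mul σ h2 (exists_frob_ne hF) hσσ hJu hJadj
  have hyu : IsUnit y0 := by
    have h1 : IsUnit (adj σ y0 * y0) := by rw [hy]; exact hJu
    exact isUnit_of_mul_isUnit_right h1
  obtain ⟨y, rfl⟩ := hyu
  let τ : wGp M Q κ hQ r →* Matrix.GeneralLinearGroup n F := (MulAut.conj y).toMonoidHom.comp τ0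
  have hτ : ∀ w, (τ w : Matrix n n F) = (y : Matrix n n F) * (τ0 w : Matrix n n F) * ((y⁻¹ : (Matrix n n F)ˣ) : Matrix n n F) :=
    fun w => rfl
  have hyy : (y : Matrix n n F) * ((y⁻¹ : (Matrix n n F)ˣ) : Matrix n n F) = 1 := Units.mul_inv y
  have hyy' : ((y⁻¹ : (Matrix n n F)ˣ) : Matrix n n F) * (y : Matrix n n F) = 1 := Units.inv_mul y
  refine ⟨τ, ⟨K, inferInstance, i, φ, Matrix.GeneralLinearGroup.map i y, hφ, fun w => ?_⟩, ?_, ?_, ?_, ?_⟩
  · rw [hτ, Matrix.map_mul, Matrix.map_mul, hτ0, monMat_map, hχF, coe_wRho, monMat_map]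
    rfl
  · intro v w hvw
    have h1 : τ0 v = τ0 w := mul_left_cancel (mul_right_cancel hvw)
    exact Subtype.ext (mono_injective hχFi h1)
  · intro w
    rw [hτ, adj_mul, adj_mul]
    calc adj σ ((y⁻¹ : (Matrix n n F)ˣ) : Matrix n n F) * (adj σ (τ0 w : Matrix n n F) * adj σ (y : Matrix n n F)) *
          ((y : Matrix n n F) * (τ0 w : Matrix n n F) * ((y⁻¹ : (Matrix n n F)ˣ) : Matrix n n F))
        = adj σ ((y⁻¹ : (Matrix n n F)ˣ) : Matrix n n F) * (adj σ (τ0 w : Matrix n n F) * (adj σ (y : Matrix n n F) * (y : Matrix n n F)) *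
          (τ0 w : Matrix n n F)) * ((y⁻¹ : (Matrix n n F)ˣ) : Matrix n n F) := by simp only [mul_assoc]
      _ = adj σ ((y⁻¹ : (Matrix n n F)ˣ) : Matrix n n F) * (adj σ (y : Matrix n n F) * (y : Matrix n n F)) *
          ((y⁻¹ : (Matrix n n F)ˣ) : Matrix n n F) := by rw [hy, hform]
      _ = adj σ ((y : Matrix n n F) * ((y⁻¹ : (Matrix n n F)ˣ) : Matrix n n F)) * ((y : Matrix n n F) *
          ((y⁻¹ : (Matrix n n F)ˣ) : Matrix n n F)) := by rw [adj_mul]; simp only [mul_assoc]
      _ = 1 := by rw [hyy, adj_one, one_mul]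
  · intro d hd1 hd2 w
    have hc : ∀ B : Matrix n n F, (∃ σ : Perm n, (∀ a, d (σ a) = d a) ∧ ∀ a b, σ b ≠ a → B a b = 0) →
        Commute (Matrix.diagonal d) B := by
      rintro B ⟨π, hπ, hB⟩
      show Matrix.diagonal d * B = B * Matrix.diagonal d
      ext a b
      rw [Matrix.diagonal_mul, Matrix.mul_diagonal]
      by_cases hab : π b = a
      · rw [← hab, hπ, mul_comm]
      · rw [hB a b hab, mul_zero, zero_mul]
    have hc1 : Commute (Matrix.diagonal d) J := hc J ⟨κ, hd1, fun a b hab => by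
      rw [hJapp, if_neg hab]⟩
    have hc2 : Commute (Matrix.diagonal d) (τ0 w : Matrix n n F) :=
      hc _ ⟨(w : MonGp n M).right, hd2 _ w.2.1, fun a b hab => by rw [hτ0, monMat_apply, if_neg hab]⟩
    have hc3 := hyc _ hc1
    exact (hc3.mul_right hc2).mul_right hc3.units_inv_right
  · intro w
    have hsc : ∀ c : F, (∀ B : Matrix n n F, B * Matrix.scalar n c = Matrix.scalar n c * B) := fun c B =>
      ((Matrix.scalar_commute c (fun r => Commute.all _ _) B).eq).symm
    rw [isScal_iff hχFi]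
    constructor
    · rintro ⟨c, hc⟩
      refine ⟨c, ?_⟩
      have h1 : (τ0 w : Matrix n n F) = ((y⁻¹ : (Matrix n n F)ˣ) : Matrix n n F) * (τ w : Matrix n n F) * (y : Matrix n n F) := by
        rw [hτ, ← mul_assoc, ← mul_assoc, hyy', one_mul, mul_assoc, hyy', mul_one]
      rw [← hτ0, h1, hc, hsc, mul_assoc, hyy', mul_one]
    · rintro ⟨c, hc⟩
      refine ⟨c, ?_⟩
      rw [hτ, hτ0, hc, hsc, mul_assoc, hyy, mul_one]

end Uni

end Cfsg.Agent.H751
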