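import Cfsg.Agent.H751.InstLin
import Cfsg.Agent.H751.RealUni
import Cfsg.Agent.LieClassical.SUBasic

/-!
# The data for `GU_n(q)` (helper751)
-/

set_option autoImplicit false
set_option linter.unusedVariables false

namespace Cfsg.Agent.H751

open Equiv Cfsg.Agent.LieClassical

universe u

/-- Membership in the unitary group. -/
theorem mem_GU_iff_adj {F : Type*} [Field F] [Fintype F] {q m : ℕ} (hF : Fintype.card F = q ^ 2)
    (g : Matrix.GeneralLinearGroup (Fin m) F) :
    g ∈ Cfsg.GU m F q ↔ adj (GUOrder.frob hF) (g : Matrix (Fin m) (Fin m) F) * (g : Matrix (Fin m) (Fin m) F) = 1 := by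
  rw [GUOrder.mem_GU_iff, GUOrder.mul_map_eq_one_iff hF]
  constructor
  · intro h
    have h1 := congrArg Matrix.transpose h
    rwa [Matrix.transpose_mul, Matrix.transpose_transpose, Matrix.transpose_one] at h1
  · intro h
    have h1 := congrArg Matrix.transpose h
    unfold adj at h1
    rwa [Matrix.transpose_mul, Matrix.transpose_transpose, Matrix.transpose_one] at h1

/-- The special unitary group as the kernel of the determinant. -/
noncomputable def suEquiv (m : ℕ) (F : Type*) [Field F] (q : ℕ) :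
    kerDet (Cfsg.GU m F q).subtype ≃* Cfsg.SU m F q :=
  { GUOrder.kerEquiv (F := F) (q := q) m with
    map_mul' := fun x y => Subtype.ext (Subtype.ext rfl) }

theorem mem_center_suEquiv {m q : ℕ} {F : Type*} [Field F] (x : kerDet (Cfsg.GU m F q).subtype) :
    x ∈ Subgroup.center _ ↔ suEquiv m F q x ∈ Subgroup.center (Cfsg.SU m F q) := by
  rw [Subgroup.mem_center_iff, Subgroup.mem_center_iff]
  constructor
  · intro h y
    obtain ⟨z, rfl⟩ := (suEquiv m F q).surjective y
    rw [← map_mul, ← map_mul, h]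
  · intro h y
    apply (suEquiv m F q).injective
    rw [map_mul, map_mul, h]

theorem center_map_suEquiv (m q : ℕ) (F : Type*) [Field F] :
    (Subgroup.center (kerDet (Cfsg.GU m F q).subtype)).map (suEquiv m F q).toMonoidHom =
      Subgroup.center (Cfsg.SU m F q) := by
  ext y
  constructor
  · rintro ⟨x, hx, rfl⟩
    exact (mem_center_suEquiv x).1 hx
  · intro hy
    obtain ⟨z, rfl⟩ := (suEquiv m F q).surjective y
    exact ⟨z, (mem_center_suEquiv z).2 hy, rfl⟩

/-- The projective group. -/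
theorem nonempty_psuEquiv (m q : ℕ) (F : Type*) [Field F] :
    Nonempty (kerDet (Cfsg.GU m F q).subtype ⧸ Subgroup.center (kerDet (Cfsg.GU m F q).subtype) ≃* Cfsg.PSU m F q) :=
  ⟨QuotientGroup.congr _ _ (suEquiv m F q) (center_map_suEquiv m q F)⟩

/-- An element of `SU`. -/
theorem exists_SU {F : Type*} [Field F] [Fintype F] {m q : ℕ} (hF : Fintype.card F = q ^ 2)
    (X : Matrix (Fin m) (Fin m) F) (h1 : X.det = 1) (h2 : X.transpose * X.map (GUOrder.frob hF) = 1) :
    ∃ B : Cfsg.SU m F q, ((B : Matrix.SpecialLinearGroup (Fin m) F) : Matrix (Fin m) (Fin m) F) = X :=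
  ⟨⟨⟨X, h1⟩, (GUOrder.mul_map_eq_one_iff hF X).2 h2⟩, rfl⟩

/-- The centre of `SU_2(q)`, `q` odd. -/
theorem exists_scalar_of_center_SU_two {F : Type*} [Field F] [Fintype F] {q : ℕ} (hF : Fintype.card F = q ^ 2)
    (hq : Odd q) (A : Cfsg.SU 2 F q) (hA : A ∈ Subgroup.center (Cfsg.SU 2 F q)) :
    ∃ (c : F) (hcn : c ^ 2 = 1) (hcq : c ^ (q + 1) = 1), A = SUBasic.suScalar q c hcn hcq := by
  have hq2 := GUOrder.two_le hF
  have hq3 : 3 ≤ q := by
    obtain ⟨k, rfl⟩ := hq
    omega
  have hq0 : q ≠ 0 := by omega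
  -- an element of norm one whose square is not one
  obtain ⟨a, ha1, ha2⟩ : ∃ a : Fˣ, a ^ (q + 1) = 1 ∧ a ^ 2 ≠ 1 := by
    by_contra hcon
    push Not at hcon
    have h1 : (powMonoidHom (q + 1) : Fˣ →* Fˣ).ker ≤ (powMonoidHom 2 : Fˣ →* Fˣ).ker := fun x hx => hcon x hx
    have h2 := Nat.card_le_card_of_injective _ (Subgroup.inclusion_injective h1)
    rw [GUOrder.card_ker_pow hF, IsCyclic.card_powMonoidHom_ker] at h2
    have h3 : (Nat.card Fˣ).gcd 2 ≤ 2 := Nat.gcd_le_right _ (by norm_num)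
    omega
  have hσ : ∀ x : F, GUOrder.frob hF x = x ^ q := fun x => rfl
  have haF : (a : F) ^ (q + 1) = 1 := by rw [← Units.val_pow_eq_pow_val, ha1, Units.val_one]
  have ha0 : (a : F) ≠ 0 := a.ne_zero
  have ha2F : (a : F) ^ 2 ≠ 1 := fun h => ha2 (Units.ext (by rw [Units.val_pow_eq_pow_val, h, Units.val_one]))
  obtain ⟨D, hD⟩ := exists_SU hF !![(a : F), 0; 0, (a : F)⁻¹] (by
    rw [Matrix.det_fin_two_of, mul_inv_cancel₀ ha0]; ring) (by
    ext i j
    fin_cases i <;> fin_cases j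
    · simp [Matrix.mul_apply, Fin.sum_univ_two, hσ]
      rw [← pow_succ', haF]
    · simp [Matrix.mul_apply, Fin.sum_univ_two, hσ, hq0]
    · simp [Matrix.mul_apply, Fin.sum_univ_two, hσ, hq0]
    · simp [Matrix.mul_apply, Fin.sum_univ_two, hσ]
      rw [← mul_inv, ← pow_succ', haF, inv_one])
  obtain ⟨J, hJ⟩ := exists_SU hF !![(0 : F), 1; -1, 0] (by
    rw [Matrix.det_fin_two_of]; ring) (by
    ext i j
    fin_cases i <;> fin_cases j
    · simp [Matrix.mul_apply, Fin.sum_univ_two, hσ, hq.neg_pow]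
    · simp [Matrix.mul_apply, Fin.sum_univ_two, hσ, hq0]
    · simp [Matrix.mul_apply, Fin.sum_univ_two, hσ, hq0]
    · simp [Matrix.mul_apply, Fin.sum_univ_two, hσ])
  set X : Matrix (Fin 2) (Fin 2) F := ((A : Matrix.SpecialLinearGroup (Fin 2) F) : Matrix (Fin 2) (Fin 2) F) with hX
  have hcom : ∀ B : Cfsg.SU 2 F q, ((B : Matrix.SpecialLinearGroup (Fin 2) F) : Matrix (Fin 2) (Fin 2) F) * X =
      X * ((B : Matrix.SpecialLinearGroup (Fin 2) F) : Matrix (Fin 2) (Fin 2) F) := by
    intro B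
    have h := (Subgroup.mem_center_iff.1 hA) B
    exact congrArg (fun Y : Cfsg.SU 2 F q => ((Y : Matrix.SpecialLinearGroup (Fin 2) F) : Matrix (Fin 2) (Fin 2) F)) h
  have hcD := hcom D
  have hcJ := hcom J
  rw [hD] at hcD
  rw [hJ] at hcJ
  have e01 := congrFun (congrFun hcD 0) 1
  have e10 := congrFun (congrFun hcD 1) 0
  have f01 := congrFun (congrFun hcJ 0) 1
  simp [Matrix.mul_apply, Fin.sum_univ_two] at e01 e10 f01
  have h01 : X 0 1 = 0 := by
    have h : ((a : F) ^ 2 - 1) * X 0 1 = 0 := by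
      have h3 : (a : F) * ((a : F) * X 0 1) = (a : F) * (X 0 1 * (a : F)⁻¹) := by rw [e01]
      have h4 : (a : F) * (X 0 1 * (a : F)⁻¹) = X 0 1 := by field_simp
      rw [h4] at h3
      linear_combination h3
    rcases mul_eq_zero.1 h with h | h
    · exact absurd (sub_eq_zero.1 h) ha2F
    · exact h
  have h10 : X 1 0 = 0 := by
    have h : ((a : F) ^ 2 - 1) * X 1 0 = 0 := by
      have h3 : (a : F) * ((a : F)⁻¹ * X 1 0) = (a : F) * (X 1 0 * (a : F)) := by rw [e10]
      have h4 : (a : F) * ((a : F)⁻¹ * X 1 0) = X 1 0 := by field_simp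
      rw [h4] at h3
      linear_combination -h3
    rcases mul_eq_zero.1 h with h | h
    · exact absurd (sub_eq_zero.1 h) ha2F
    · exact h
  have hXs : X = Matrix.scalar (Fin 2) (X 0 0) := by
    ext i j
    rw [Matrix.scalar_apply, Matrix.diagonal_apply]
    fin_cases i <;> fin_cases j
    · rfl
    · exact h01
    · exact h10
    · exact f01
  have hdet : X.det = 1 := (A : Matrix.SpecialLinearGroup (Fin 2) F).2
  have hcn : (X 0 0) ^ 2 = 1 := by
    rw [Matrix.det_fin_two, h01, h10] at hdet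
    have f01' : X 1 1 = X 0 0 := f01
    rw [f01'] at hdet
    linear_combination hdet
  have hcq : (X 0 0) ^ (q + 1) = 1 := by
    obtain ⟨k, hk⟩ := hq
    rw [hk, show 2 * k + 1 + 1 = 2 * (k + 1) by ring, pow_mul, hcn, one_pow]
  refine ⟨X 0 0, hcn, hcq, ?_⟩
  apply Subtype.ext
  apply Subtype.ext
  rw [SUBasic.coe_suScalar]
  exact hXs

/-- The centre of `SU_n(q)`, `n ≥ 2`. -/
theorem mem_center_SU_iff_two_le {F : Type*} [Field F] [Fintype F] {m q : ℕ} (hF : Fintype.card F = q ^ 2)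
    (hm : 2 ≤ m) (hq : Odd q) (A : Cfsg.SU m F q) : A ∈ Subgroup.center (Cfsg.SU m F q) ↔
      ∃ (c : F) (hcn : c ^ m = 1) (hcq : c ^ (q + 1) = 1), A = SUBasic.suScalar q c hcn hcq := by
  rcases Nat.lt_or_ge 2 m with h | h
  · exact SUBasic.mem_center_SU_iff hF h A
  · obtain rfl : m = 2 := le_antisymm h hm
    constructor
    · exact exists_scalar_of_center_SU_two hF hq A
    · rintro ⟨c, hcn, hcq, rfl⟩
      exact SUBasic.suScalar_mem_center q c hcn hcq

variable {O : Type*} [CommRing O] [IsDomain O] {L N : ℕ} {ζ : O} {M : Type*} [CommGroup M] {χ : M →* Oˣ}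
  {m : ℕ} {Q : Subgroup (Perm (Fin m))} {κ : Perm (Fin m)} {hQ : ∀ σ ∈ Q, Commute σ κ} {r : ℕ}

/-- The data for the general unitary group. -/
theorem exists_pk_uni {F : Type u} [Field F] [Fintype F] {q : ℕ} (hF : Fintype.card F = q ^ 2) (h2 : (2 : F) ≠ 0)
    (hζ : IsPrimitiveRoot ζ (2 ^ L))
    (hO : ∀ (K : Type u) [Field K] (z : K), IsPrimitiveRoot z (2 ^ L) → ∃ φ : O →+* K, φ ζ = z)
    (hNL : N ≤ L) (hχ : Function.Injective χ) (hM : ∀ t : M, t ^ 2 ^ N = 1) (hκ : κ * κ = 1)
    (hr : 2 ^ N ∣ q + r) (hr2 : r * r ≡ 1 [MOD 2 ^ N]) (hm2 : 2 ≤ m) (hm : m % 2 = 1 ∨ ∃ e, 1 ≤ e ∧ m = 2 ^ e) (hqo : Odd q)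
    [Finite (wGp M Q κ hQ r)] (hW : IsPGroup 2 (wGp M Q κ hQ r))
    (hcard : 2 ^ padicValNat 2 (Nat.card (Cfsg.GU m F q)) ≤ Nat.card (wGp M Q κ hQ r))
    (hfix : m % 2 = 1 → ∃ l : Fin m, κ l = l ∧ ∀ σ ∈ Q, σ l = l) :
    ∃ σ : wGp M Q κ hQ r →* Cfsg.GU m F q,
      Pk L ζ (wRho χ Q κ hQ r) (fun w => IsScal (w : MonGp (Fin m) M)) (decide (m % 2 = 1))
        (Cfsg.GU m F q).subtype σ := by
  have : Nonempty (Fin m) := ⟨⟨0, by omega⟩⟩
  have hp : Fact (Nat.Prime 2) := ⟨Nat.prime_two⟩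
  have hfinG : Finite (Cfsg.GU m F q) := GUOrder.finite_GU m
  obtain ⟨τ, hreal, hinj, hadj, hdiag, hscal⟩ := exists_uni (Q := Q) (hQ := hQ) hF h2 hζ hO hNL hχ hM hκ hr hr2
  have hτG : ∀ w, τ w ∈ Cfsg.GU m F q := fun w => (mem_GU_iff_adj hF _).2 (hadj w)
  let σ : wGp M Q κ hQ r →* Cfsg.GU m F q := τ.codRestrict _ hτG
  have hσ : ∀ w, ((σ w : Cfsg.GU m F q) : Matrix.GeneralLinearGroup (Fin m) F) = τ w := fun w => rfl
  have hσinj : Function.Injective σ := fun a b hab => hinj (congrArg Subtype.val hab)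
  have hdetq : ∀ k : Cfsg.GU m F q, ((k : Matrix.GeneralLinearGroup (Fin m) F) : Matrix (Fin m) (Fin m) F).det ^ (q + 1) = 1 :=
    fun k => GUOrder.det_mul_frob_det hF _ k.2
  refine ⟨σ, ⟨isSyl_of_card hσinj hW hcard, hreal, ?_, ?_, ?_, ?_⟩⟩
  · intro P a b' hab
    have hP : IsPGroup 2 P := hW.to_subgroup P
    obtain ⟨g, hg⟩ := exists_conj_of_charpoly hP h2 ((Cfsg.GU m F q).subtype.comp a) ((Cfsg.GU m F q).subtype.comp b') hab
    obtain ⟨u, hu, hu'⟩ := exists_unitary_of_conj (GUOrder.frob hF) h2 (exists_frob_ne hF) (GUOrder.frob_frob hF)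
      ((Cfsg.GU m F q).subtype.comp a) ((Cfsg.GU m F q).subtype.comp b')
      (fun x => (mem_GU_iff_adj hF _).1 (a x).2) (fun x => (mem_GU_iff_adj hF _).1 (b' x).2) g hg
    exact ⟨⟨u, (mem_GU_iff_adj hF _).2 hu⟩, fun x => Subtype.ext (hu' x)⟩
  · intro hb k
    have hm4 : m % 2 = 1 := by simpa using hb
    obtain ⟨l, hl1, hl2⟩ := hfix hm4
    let δ : F := (((k : Matrix.GeneralLinearGroup (Fin m) F) : Matrix (Fin m) (Fin m) F).det)⁻¹
    have hk0 : ((k : Matrix.GeneralLinearGroup (Fin m) F) : Matrix (Fin m) (Fin m) F).det ≠ 0 := by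
      have := (Matrix.GeneralLinearGroup.det (k : Matrix.GeneralLinearGroup (Fin m) F)).ne_zero
      exact this
    have hδq : δ ^ (q + 1) = 1 := by
      show (_)⁻¹ ^ (q + 1) = 1
      rw [inv_pow, hdetq, inv_one]
    let d : Fin m → F := fun i => if i = l then δ else 1
    have hd : (Matrix.diagonal d).det = δ := by
      rw [Matrix.det_diagonal]
      show ∏ i, (if i = l then δ else 1) = δ
      rw [Finset.prod_ite_eq' Finset.univ l (fun _ => δ), if_pos (Finset.mem_univ l)]
    let D : Matrix.GeneralLinearGroup (Fin m) F := Matrix.GeneralLinearGroup.mkOfDetNeZero (Matrix.diagonal d) (by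
      rw [hd]; exact inv_ne_zero hk0)
    have hDG : D ∈ Cfsg.GU m F q := by
      rw [mem_GU_iff_adj hF]
      show adj (GUOrder.frob hF) (Matrix.diagonal d) * Matrix.diagonal d = 1
      have h1 : adj (GUOrder.frob hF) (Matrix.diagonal d) = Matrix.diagonal (fun i => d i ^ q) := by
        ext i j
        rw [adj_apply, Matrix.diagonal_apply, Matrix.diagonal_apply]
        by_cases h : i = j
        · subst h
          rw [if_pos rfl, if_pos rfl]
          rfl
        · rw [if_neg h, if_neg (fun h' => h h'.symm), map_zero]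
      rw [h1, Matrix.diagonal_mul_diagonal, ← Matrix.diagonal_one]
      congr 1
      funext i
      show (if i = l then δ else 1) ^ q * (if i = l then δ else 1) = 1
      split_ifs
      · rw [← pow_succ, hδq]
      · rw [one_pow, one_mul]
    refine ⟨⟨D, hDG⟩, fun s => ?_, ?_⟩
    · apply Subtype.ext
      apply Units.ext
      refine hdiag d (fun i => ?_) (fun σ hσ i => ?_) s
      · show (if κ i = l then δ else 1) = (if i = l then δ else 1)
        have h1 : κ i = l ↔ i = l := by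
          constructor
          · intro h
            exact κ.injective (h.trans hl1.symm)
          · rintro rfl; exact hl1
        by_cases h : i = l
        · rw [if_pos h, if_pos (h1.2 h)]
        · rw [if_neg h, if_neg (fun h' => h (h1.1 h'))]
      · show (if σ i = l then δ else 1) = (if i = l then δ else 1)
        have h1 : σ i = l ↔ i = l := by
          constructor
          · intro h
            exact σ.injective (h.trans (hl2 σ hσ).symm)
          · rintro rfl; exact hl2 σ hσ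
        by_cases h : i = l
        · rw [if_pos h, if_pos (h1.2 h)]
        · rw [if_neg h, if_neg (fun h' => h (h1.1 h'))]
    · rw [mem_kerDet]
      show (((k : Matrix.GeneralLinearGroup (Fin m) F) : Matrix (Fin m) (Fin m) F) * Matrix.diagonal d).det = 1
      rw [Matrix.det_mul, hd]
      exact mul_inv_cancel₀ hk0
  · intro hb g hg
    have hm4 : ¬ m % 2 = 1 := by simpa using hb
    obtain ⟨k, -, hmk⟩ := hm.resolve_left hm4
    let g' : Matrix.GeneralLinearGroup (Fin m) F := (g : Matrix.GeneralLinearGroup (Fin m) F)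
    have h1 : Nat.Coprime (orderOf (Matrix.GeneralLinearGroup.det g')) 2 :=
      Nat.Coprime.coprime_dvd_left ((orderOf_map_dvd (Matrix.GeneralLinearGroup.det.comp (Cfsg.GU m F q).subtype) g)) hg
    obtain ⟨e, he⟩ := exists_root_two h1 k
    have hcq : ((((Matrix.GeneralLinearGroup.det g' ^ e)⁻¹ : Fˣ) : F)) ^ (q + 1) = 1 := by
      rw [← Units.val_pow_eq_pow_val, inv_pow, ← pow_mul, mul_comm e, pow_mul]
      have h3 : Matrix.GeneralLinearGroup.det g' ^ (q + 1) = 1 := by
        apply Units.ext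
        rw [Units.val_pow_eq_pow_val]
        exact hdetq g
      rw [h3, one_pow, inv_one, Units.val_one]
    have hs : IsUnit ((Matrix.scalar (Fin m)) (((Matrix.GeneralLinearGroup.det g' ^ e)⁻¹ : Fˣ) : F)) :=
      ((Matrix.GeneralLinearGroup.det g' ^ e)⁻¹).isUnit.map (Matrix.scalar (Fin m))
    obtain ⟨D, hD⟩ := hs
    have hDG : D ∈ Cfsg.GU m F q := by
      rw [mem_GU_iff_adj hF]
      show adj (GUOrder.frob hF) (D : Matrix (Fin m) (Fin m) F) * (D : Matrix (Fin m) (Fin m) F) = 1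
      rw [hD, adj_scalar, ← map_mul]
      have h4 : GUOrder.frob hF ((((Matrix.GeneralLinearGroup.det g' ^ e)⁻¹ : Fˣ) : F)) *
          (((Matrix.GeneralLinearGroup.det g' ^ e)⁻¹ : Fˣ) : F) = 1 := by
        rw [GUOrder.frob_apply, ← pow_succ, hcq]
      rw [h4, map_one]
    refine ⟨⟨D, hDG⟩, ?_, ?_⟩
    · rw [Subgroup.mem_center_iff]
      intro x
      apply Subtype.ext
      apply Units.ext
      show ((x : Matrix.GeneralLinearGroup (Fin m) F) : Matrix (Fin m) (Fin m) F) * (D : Matrix (Fin m) (Fin m) F) =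
        (D : Matrix (Fin m) (Fin m) F) * ((x : Matrix.GeneralLinearGroup (Fin m) F) : Matrix (Fin m) (Fin m) F)
      rw [hD]
      exact ((Matrix.scalar_commute _ (fun r => Commute.all _ _) _).eq).symm
    · rw [mem_kerDet]
      show ((g' : Matrix (Fin m) (Fin m) F) * (D : Matrix (Fin m) (Fin m) F)).det = 1
      have hpow : ∀ x : Fˣ, (x : F) ^ m = ((x ^ 2 ^ k : Fˣ) : F) := by
        intro x
        rw [hmk, Units.val_pow_eq_pow_val]
      rw [hD, Matrix.det_mul, Matrix.scalar_apply, Matrix.det_diagonal, Finset.prod_const, Finset.card_univ,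
        Fintype.card_fin, hpow, inv_pow, he]
      show ((Matrix.GeneralLinearGroup.det g' : Fˣ) : F) * (((Matrix.GeneralLinearGroup.det g')⁻¹ : Fˣ) : F) = 1
      exact Units.mul_inv _
  · intro w h
    have hdet : (τ w : Matrix (Fin m) (Fin m) F).det = 1 := (mem_kerDet _ _).1 h
    rw [mem_center_suEquiv, mem_center_SU_iff_two_le hF hm2 hqo, ← hscal]
    constructor
    · rintro ⟨c, hcn, hcq, hc⟩
      refine ⟨c, ?_⟩
      have h1 := congrArg (fun X : Cfsg.SU m F q => ((X : Matrix.SpecialLinearGroup (Fin m) F) : Matrix (Fin m) (Fin m) F)) hc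
      rw [SUBasic.coe_suScalar] at h1
      exact h1.trans rfl
    · rintro ⟨c, hc⟩
      have hcn : c ^ m = 1 := by
        rw [hc, Matrix.scalar_apply, Matrix.det_diagonal, Finset.prod_const, Finset.card_univ, Fintype.card_fin] at hdet
        exact hdet
      have hcq : c ^ (q + 1) = 1 := by
        have h1 := hadj w
        rw [hc, adj_scalar, ← map_mul] at h1
        have i0 : Fin m := ⟨0, by omega⟩
        have h3 := congrFun (congrFun h1 i0) i0
        rw [Matrix.scalar_apply, Matrix.diagonal_apply, if_pos rfl, Matrix.one_apply, if_pos rfl,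
          GUOrder.frob_apply, ← pow_succ] at h3
        exact h3
      refine ⟨c, hcn, hcq, ?_⟩
      apply Subtype.ext
      apply Subtype.ext
      rw [SUBasic.coe_suScalar]
      exact hc.trans rfl

end Cfsg.Agent.H751
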