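import Cfsg.Agent.H751.Mono

/-!
# A domain with a primitive `2 ^ L`-th root of unity and its reductions (helper751)
-/

set_option autoImplicit false

namespace Cfsg.Agent.H751

open Polynomial

/-- The ring `ℤ[ζ]`. -/
abbrev CycRing (L : ℕ) : Type := AdjoinRoot (cyclotomic (2 ^ L) ℤ)

theorem cycRing_isDomain (L : ℕ) : IsDomain (CycRing L) := by
  have h1 : Irreducible (cyclotomic (2 ^ L) ℤ) := cyclotomic.irreducible (by positivity)
  exact AdjoinRoot.isDomain_of_prime h1.prime

theorem cycRing_cast_ne_zero (L : ℕ) {k : ℕ} (hk : k ≠ 0) : ((k : ℕ) : CycRing L) ≠ 0 := by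
  have h1 : Function.Injective (AdjoinRoot.of (cyclotomic (2 ^ L) ℤ)) :=
    AdjoinRoot.of.injective_of_degree_ne_zero (by
      rw [degree_cyclotomic]
      exact_mod_cast (Nat.totient_pos.2 (by positivity)).ne')
  intro h
  have h2 : (AdjoinRoot.of (cyclotomic (2 ^ L) ℤ)) (k : ℤ) = 0 := by rw [map_natCast, h]
  rw [map_eq_zero_iff _ h1] at h2
  exact hk (by exact_mod_cast h2)

/-- The root of unity. -/
noncomputable def cycRoot (L : ℕ) : CycRing L := AdjoinRoot.root _

theorem cycRoot_spec (L : ℕ) : IsPrimitiveRoot (cycRoot L) (2 ^ L) := by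
  have := cycRing_isDomain L
  have h0 : NeZero ((2 ^ L : ℕ) : CycRing L) := ⟨cycRing_cast_ne_zero L (by positivity)⟩
  have h1 := AdjoinRoot.eval₂_root (cyclotomic (2 ^ L) ℤ)
  rw [show (AdjoinRoot.of (cyclotomic (2 ^ L) ℤ)) = Int.castRingHom (CycRing L) from RingHom.ext_int _ _,
    ← eval_map] at h1
  have h2 : (cyclotomic (2 ^ L) ℤ).map (Int.castRingHom (CycRing L)) = cyclotomic (2 ^ L) (CycRing L) :=
    map_cyclotomic_int _ _
  exact (isRoot_cyclotomic_iff (R := CycRing L)).1 ((congrArg (eval (cycRoot L)) h2).symm.trans h1)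

/-- The reduction. -/
theorem exists_cycRing_hom (L : ℕ) {K : Type*} [Field K] {z : K} (hz : IsPrimitiveRoot z (2 ^ L)) :
    ∃ φ : CycRing L →+* K, φ (cycRoot L) = z := by
  refine ⟨AdjoinRoot.lift (Int.castRingHom K) z ?_, AdjoinRoot.lift_root _⟩
  rw [← eval_map, map_cyclotomic_int]
  exact hz.isRoot_cyclotomic (by positivity)

section Charpoly

variable {n : Type*} [Fintype n] [DecidableEq n] {O : Type*} [CommRing O] [IsDomain O] {L : ℕ} {ζ : O}

/-- The characteristic polynomial of a matrix of 2-power order. -/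
theorem exists_charpoly_eq (hζ : IsPrimitiveRoot ζ (2 ^ L)) {x : Matrix n n O} (hx : x ^ 2 ^ L = 1) :
    ∃ m : Multiset (Fin (2 ^ L)), x.charpoly = (m.map (fun e : Fin (2 ^ L) => X - C (ζ ^ (e : ℕ)))).prod := by
  let K := AlgebraicClosure (FractionRing O)
  let j : O →+* K := (algebraMap (FractionRing O) K).comp (algebraMap O (FractionRing O))
  have hj : Function.Injective j :=
    (algebraMap (FractionRing O) K).injective.comp (IsFractionRing.injective O (FractionRing O))
  have hjz : IsPrimitiveRoot (j ζ) (2 ^ L) := hζ.map_of_injective hj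
  have hsplit : (x.map j).charpoly = ((x.map j).charpoly.roots.map (fun a => X - C a)).prod := by
    have h1 := (IsAlgClosed.splits (x.map j).charpoly).eq_prod_roots
    rwa [(x.map j).charpoly_monic.leadingCoeff, C_1, one_mul] at h1
  have hroot : ∀ a ∈ (x.map j).charpoly.roots, ∃ e : Fin (2 ^ L), (j ζ) ^ (e : ℕ) = a := by
    intro a ha
    have h1 : IsRoot (x.map j).charpoly a := (mem_roots'.1 ha).2
    have h2 : Module.End.HasEigenvalue (Matrix.toLin' (x.map j)) a := by
      rw [Module.End.hasEigenvalue_iff_isRoot_charpoly, ← LinearMap.charpoly_toMatrix _ (Pi.basisFun K n),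
        LinearMap.toMatrix_eq_toMatrix', LinearMap.toMatrix'_toLin']
      exact h1
    obtain ⟨v, hv⟩ := h2.exists_hasEigenvector
    have h3 : (Matrix.toLin' (x.map j)) ^ 2 ^ L = 1 := by
      rw [← Matrix.toLin'_pow, ← Matrix.map_pow, hx, Matrix.map_one _ (map_zero j) (map_one j), Matrix.toLin'_one]
      rfl
    have h4 := hv.pow_apply (2 ^ L)
    rw [h3, Module.End.one_apply] at h4
    have h5 : a ^ 2 ^ L = 1 := by
      have h6 : (a ^ 2 ^ L - 1) • v = 0 := by rw [sub_smul, one_smul, ← h4, sub_self]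
      rcases smul_eq_zero.1 h6 with h | h
      · exact sub_eq_zero.1 h
      · exact absurd h hv.2
    obtain ⟨e, he, hea⟩ := hjz.eq_pow_of_pow_eq_one h5
    exact ⟨⟨e, he⟩, hea⟩
  choose! e he using hroot
  refine ⟨(x.map j).charpoly.roots.map e, ?_⟩
  apply Polynomial.map_injective j hj
  rw [← Matrix.charpoly_map, Polynomial.map_multiset_prod, Multiset.map_map, Multiset.map_map]
  have h7 : (x.map j).charpoly = ((x.map j).charpoly.roots.map (fun a => X - C a)).prod := hsplit
  rw [h7]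
  congr 1
  rw [← h7]
  refine Multiset.map_congr rfl (fun a ha => ?_)
  show X - C a = (X - C (ζ ^ ((e a : Fin (2 ^ L)) : ℕ))).map j
  rw [Polynomial.map_sub, map_X, map_C, map_pow, he a ha]

variable {K : Type*} [Field K]

/-- Characteristic polynomials of matrices of 2-power order are determined by their reductions. -/
theorem charpoly_eq_of_map (hζ : IsPrimitiveRoot ζ (2 ^ L)) {φ : O →+* K} (hφ : IsPrimitiveRoot (φ ζ) (2 ^ L))
    {x y : Matrix n n O} (hx : x ^ 2 ^ L = 1) (hy : y ^ 2 ^ L = 1)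
    (h : (x.map φ).charpoly = (y.map φ).charpoly) : x.charpoly = y.charpoly := by
  obtain ⟨m, hm⟩ := exists_charpoly_eq hζ hx
  obtain ⟨m', hm'⟩ := exists_charpoly_eq hζ hy
  rw [hm, hm']
  congr 2
  have h1 : ∀ {z : Matrix n n O} {m : Multiset (Fin (2 ^ L))},
      z.charpoly = (m.map (fun e : Fin (2 ^ L) => X - C (ζ ^ (e : ℕ)))).prod →
      (z.map φ).charpoly.roots = m.map (fun e : Fin (2 ^ L) => φ ζ ^ (e : ℕ)) := by
    intro z m hz
    rw [Matrix.charpoly_map, hz, Polynomial.map_multiset_prod, Multiset.map_map]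
    have h2 : (m.map (Polynomial.map φ ∘ fun e : Fin (2 ^ L) => X - C (ζ ^ (e : ℕ)))) =
        (m.map (fun e : Fin (2 ^ L) => φ ζ ^ (e : ℕ))).map (fun a => X - C a) := by
      rw [Multiset.map_map]
      refine Multiset.map_congr rfl (fun e _ => ?_)
      show (X - C (ζ ^ (e : ℕ))).map φ = X - C (φ ζ ^ (e : ℕ))
      rw [Polynomial.map_sub, map_X, map_C, map_pow]
    rw [h2, roots_multiset_prod_X_sub_C]
  have h3 : m.map (fun e : Fin (2 ^ L) => φ ζ ^ (e : ℕ)) = m'.map (fun e : Fin (2 ^ L) => φ ζ ^ (e : ℕ)) := by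
    rw [← h1 hm, ← h1 hm', h]
  have h4 : Function.Injective (fun e : Fin (2 ^ L) => φ ζ ^ (e : ℕ)) := by
    intro a b hab
    exact Fin.ext (hφ.pow_inj a.2 b.2 hab)
  exact Multiset.map_injective h4 h3

/-- The determinant of a matrix of 2-power order is one if its reduction is. -/
theorem det_eq_one_iff_of_map (hζ : IsPrimitiveRoot ζ (2 ^ L)) {φ : O →+* K} (hφ : IsPrimitiveRoot (φ ζ) (2 ^ L))
    {x : Matrix n n O} (hx : x ^ 2 ^ L = 1) : (x.map φ).det = 1 ↔ x.det = 1 := by
  have h1 : (x.map φ).det = φ x.det := by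
    rw [RingHom.map_det]
    rfl
  rw [h1]
  constructor
  · intro h
    have h2 : x.det ^ 2 ^ L = 1 := by rw [← Matrix.det_pow, hx, Matrix.det_one]
    obtain ⟨e, he, hea⟩ := hζ.eq_pow_of_pow_eq_one h2
    rw [← hea, map_pow] at h
    have h3 := (hφ.pow_eq_one_iff_dvd e).1 h
    rw [← hea]
    exact (hζ.pow_eq_one_iff_dvd e).2 h3
  · intro h
    rw [h, map_one]

end Charpoly

end Cfsg.Agent.H751
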