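import Cfsg.Agent.H751.Mono

/-!
# The order of the monomial 2-group in degrees 3, 4, 5 (helper751)
-/

set_option autoImplicit false

namespace Cfsg.Agent.H751

open Equiv

section Card

variable {n : Type*} [Fintype n] [DecidableEq n] {M : Type*} [CommGroup M] {Q : Subgroup (Perm n)} {κ : Perm n}
  {hQ : ∀ σ ∈ Q, Commute σ κ} {r : ℕ}

/-- The monomial group as a set of pairs. -/
def wEquiv : wGp M Q κ hQ r ≃ {t : n → M // ∀ i, t (κ i) = t i ^ r} × Q where
  toFun w := (⟨(w : MonGp n M).left, w.2.2⟩, ⟨(w : MonGp n M).right, w.2.1⟩)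
  invFun p := ⟨⟨p.1.1, p.2.1⟩, p.2.2, p.1.2⟩
  left_inv _ := rfl
  right_inv _ := rfl

omit [Fintype n] [DecidableEq n] in
theorem card_wGp : Nat.card (wGp M Q κ hQ r) = Nat.card {t : n → M // ∀ i, t (κ i) = t i ^ r} * Nat.card Q := by
  rw [Nat.card_congr wEquiv, Nat.card_prod]

end Card

/-- The involution. -/
def k2 : Perm (Fin 2) := swap 0 1
/-- The involution. -/
def k3 : Perm (Fin 3) := swap 0 1
/-- The involution. -/
def k4 : Perm (Fin 4) := swap 0 1 * swap 2 3
/-- The involution. -/
def k5 : Perm (Fin 5) := swap 0 1 * swap 2 3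

theorem k2_sq : k2 * k2 = 1 := by decide
theorem k2_four : ∀ σ : Perm (Fin 2), σ * k2 = k2 * σ → σ ^ 4 = 1 := by decide +kernel
theorem k2_card : Fintype.card {σ : Perm (Fin 2) // σ * k2 = k2 * σ} = 2 := by decide +kernel
theorem k3_sq : k3 * k3 = 1 := by decide
theorem k4_sq : k4 * k4 = 1 := by decide
theorem k5_sq : k5 * k5 = 1 := by decide

theorem k3_four : ∀ σ : Perm (Fin 3), σ * k3 = k3 * σ → σ ^ 4 = 1 := by decide +kernel
theorem k4_four : ∀ σ : Perm (Fin 4), σ * k4 = k4 * σ → σ ^ 4 = 1 := by decide +kernel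
theorem k5_four : ∀ σ : Perm (Fin 5), σ * k5 = k5 * σ → σ ^ 4 = 1 := by decide +kernel

theorem k3_last : ∀ σ : Perm (Fin 3), σ * k3 = k3 * σ → σ 2 = 2 := by decide +kernel
theorem k5_last : ∀ σ : Perm (Fin 5), σ * k5 = k5 * σ → σ 4 = 4 := by decide +kernel

theorem k3_card : Fintype.card {σ : Perm (Fin 3) // σ * k3 = k3 * σ} = 2 := by decide +kernel
theorem k4_card : Fintype.card {σ : Perm (Fin 4) // σ * k4 = k4 * σ} = 8 := by decide +kernel
theorem k5_card : Fintype.card {σ : Perm (Fin 5) // σ * k5 = k5 * σ} = 8 := by decide +kernel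

theorem card_centralizer {n : ℕ} (κ : Perm (Fin n)) :
    Nat.card (Subgroup.centralizer ({κ} : Set (Perm (Fin n)))) = Fintype.card {σ : Perm (Fin n) // σ * κ = κ * σ} := by
  rw [← Nat.card_eq_fintype_card]
  refine Nat.card_congr (Equiv.subtypeEquivRight (fun σ => ?_))
  rw [Subgroup.mem_centralizer_iff]
  constructor
  · intro h
    exact (h κ rfl).symm
  · rintro h x rfl
    exact h.symm

theorem commute_of_mem {n : ℕ} {κ σ : Perm (Fin n)} (h : σ ∈ Subgroup.centralizer ({κ} : Set (Perm (Fin n)))) :
    Commute σ κ := (Subgroup.mem_centralizer_iff.1 h κ rfl).symm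

/-- The data of the degrees 3, 4, 5. -/
theorem exists_shape {n : ℕ} (hn : n = 2 ∨ n = 3 ∨ n = 4 ∨ n = 5) : ∃ κ0 : Perm (Fin n), κ0 * κ0 = 1 ∧
    (∀ σ : Perm (Fin n), σ * κ0 = κ0 * σ → σ ^ 4 = 1) ∧
    Nat.card (Subgroup.centralizer ({κ0} : Set (Perm (Fin n)))) = 2 ^ (n / 2 + n / 4) ∧
    (n % 2 = 1 → ∃ l : Fin n, ∀ σ : Perm (Fin n), σ * κ0 = κ0 * σ → σ l = l) ∧
    ∀ (M : Type) [CommGroup M] [Finite M] (e : M) (r : ℕ), e ≠ 1 → e ^ 2 = 1 → Odd r → (∀ a : M, a ^ (r * r) = a) →
      Nat.card M ^ (n / 2) * 2 ^ (n % 2) ≤ Nat.card {t : Fin n → M // ∀ i, t (κ0 i) = t i ^ r} := by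
  have hodd : ∀ {M : Type} [CommGroup M] (e : M) (r : ℕ), e ^ 2 = 1 → Odd r → e ^ r = e := by
    rintro M _ e _ he ⟨k, rfl⟩
    rw [pow_succ, pow_mul, he, one_pow, one_mul]
  rcases hn with rfl | rfl | rfl | rfl
  · refine ⟨k2, k2_sq, k2_four, ?_, fun h => absurd h (by norm_num), ?_⟩
    · rw [card_centralizer, k2_card]
      norm_num
    · intro M _ _ e r he he2 hr ha
      let f : M → {t : Fin 2 → M // ∀ i, t (k2 i) = t i ^ r} := fun p =>
        ⟨![p, p ^ r], by
          intro i
          fin_cases i
          · rfl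
          · show p = (p ^ r) ^ r
            rw [← pow_mul, ha]⟩
      have hf : Function.Injective f := by
        intro a b h
        have h1 := congrArg Subtype.val h
        exact congrFun h1 0
      have h4 := Nat.card_le_card_of_injective f hf
      simpa using h4
  · refine ⟨k3, k3_sq, k3_four, ?_, fun _ => ⟨2, k3_last⟩, ?_⟩
    · rw [card_centralizer, k3_card]
      norm_num
    · intro M _ _ e r he he2 hr ha
      let f : M × Bool → {t : Fin 3 → M // ∀ i, t (k3 i) = t i ^ r} := fun p =>
        ⟨![p.1, p.1 ^ r, if p.2 then e else 1], by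
          intro i
          fin_cases i
          · rfl
          · show p.1 = (p.1 ^ r) ^ r
            rw [← pow_mul, ha]
          · show (if p.2 then e else 1) = (if p.2 then e else 1) ^ r
            split_ifs
            · exact (hodd e r he2 hr).symm
            · exact (one_pow r).symm⟩
      have hf : Function.Injective f := by
        rintro ⟨a, s⟩ ⟨b, s'⟩ h
        have h1 := congrArg Subtype.val h
        have h2 : a = b := congrFun h1 0
        have h3 : (if s then e else 1) = (if s' then e else 1) := congrFun h1 2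
        subst h2
        cases s <;> cases s' <;> simp_all [eq_comm]
      have h4 := Nat.card_le_card_of_injective f hf
      rw [Nat.card_prod] at h4
      simpa using h4
  · refine ⟨k4, k4_sq, k4_four, ?_, fun h => absurd h (by norm_num), ?_⟩
    · rw [card_centralizer, k4_card]
      norm_num
    · intro M _ _ e r he he2 hr ha
      let f : M × M → {t : Fin 4 → M // ∀ i, t (k4 i) = t i ^ r} := fun p =>
        ⟨![p.1, p.1 ^ r, p.2, p.2 ^ r], by
          intro i
          fin_cases i
          · rfl
          · show p.1 = (p.1 ^ r) ^ r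
            rw [← pow_mul, ha]
          · rfl
          · show p.2 = (p.2 ^ r) ^ r
            rw [← pow_mul, ha]⟩
      have hf : Function.Injective f := by
        rintro ⟨a, s⟩ ⟨b, s'⟩ h
        have h1 := congrArg Subtype.val h
        have h2 : a = b := congrFun h1 0
        have h3 : s = s' := congrFun h1 2
        rw [h2, h3]
      have h4 := Nat.card_le_card_of_injective f hf
      rw [Nat.card_prod] at h4
      simpa [sq] using h4
  · refine ⟨k5, k5_sq, k5_four, ?_, fun _ => ⟨4, k5_last⟩, ?_⟩
    · rw [card_centralizer, k5_card]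
      norm_num
    · intro M _ _ e r he he2 hr ha
      let f : (M × M) × Bool → {t : Fin 5 → M // ∀ i, t (k5 i) = t i ^ r} := fun p =>
        ⟨![p.1.1, p.1.1 ^ r, p.1.2, p.1.2 ^ r, if p.2 then e else 1], by
          intro i
          fin_cases i
          · rfl
          · show p.1.1 = (p.1.1 ^ r) ^ r
            rw [← pow_mul, ha]
          · rfl
          · show p.1.2 = (p.1.2 ^ r) ^ r
            rw [← pow_mul, ha]
          · show (if p.2 then e else 1) = (if p.2 then e else 1) ^ r
            split_ifs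
            · exact (hodd e r he2 hr).symm
            · exact (one_pow r).symm⟩
      have hf : Function.Injective f := by
        rintro ⟨⟨a, a'⟩, s⟩ ⟨⟨b, b'⟩, s'⟩ h
        have h1 := congrArg Subtype.val h
        have h2 : a = b := congrFun h1 0
        have h2' : a' = b' := congrFun h1 2
        have h3 : (if s then e else 1) = (if s' then e else 1) := congrFun h1 4
        subst h2
        subst h2'
        cases s <;> cases s' <;> simp_all [eq_comm]
      have h4 := Nat.card_le_card_of_injective f hf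
      rw [Nat.card_prod, Nat.card_prod] at h4
      simpa [sq] using h4

/-- The elements `t` without condition. -/
theorem card_torus_one {n : ℕ} (M : Type) [CommGroup M] [Finite M] :
    Nat.card {t : Fin n → M // ∀ i, t ((1 : Perm (Fin n)) i) = t i ^ 1} = Nat.card M ^ n := by
  have h1 : Nat.card {t : Fin n → M // ∀ i, t ((1 : Perm (Fin n)) i) = t i ^ 1} = Nat.card (Fin n → M) := by
    refine Nat.card_congr (Equiv.subtypeUnivEquiv (fun t i => ?_))
    rw [pow_one]
    rfl
  rw [h1, Nat.card_fun, Nat.card_fin]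

end Cfsg.Agent.H751
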