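import Cfsg.Agent.H751.InstUni
import Cfsg.Agent.H751.Shape
import Cfsg.Agent.H751.Val

/-!
# `PSL_n(q)` and `PSU_n(q)`, `n = 2, 3, 4, 5`, with the same 2-parts have the same 2-fusion (helper751)
-/

set_option autoImplicit false

namespace Cfsg.Agent.H751

open Equiv

universe u v

/-- The roots of unity. -/
abbrev Mu (L N : ℕ) : Type := rootsOfUnity (2 ^ N) (CycRing L)

/-- The data of the common Sylow 2-subgroup. -/
structure Dat (n x y : ℕ) where
  /-- the exponents -/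
  L : ℕ
  /-- the exponent of the entries -/
  N : ℕ
  /-- the twist -/
  r : ℕ
  /-- the permutations -/
  Q : Subgroup (Perm (Fin n))
  /-- the twist -/
  κ : Perm (Fin n)
  hQ : ∀ σ ∈ Q, Commute σ κ
  hL : L = N + 2
  hκ : κ * κ = 1
  hr2 : r * r ≡ 1 [MOD 2 ^ N]
  h4 : ∀ σ ∈ Q, σ ^ 4 = 1
  hlin : ∀ q, Odd q → padicValNat 2 (q - 1) = x → padicValNat 2 (q + 1) = y → q ≡ r [MOD 2 ^ N] ∧ (κ = 1 ∨ q % 4 = 3)
  huni : ∀ q, Odd q → padicValNat 2 (q + 1) = x → padicValNat 2 (q - 1) = y → 2 ^ N ∣ q + r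
  hcard : 2 ^ vv n x y ≤ Nat.card (wGp (Mu L N) Q κ hQ r)
  hfin : Finite (wGp (Mu L N) Q κ hQ r)
  hfix : n % 2 = 1 → ∃ l : Fin n, κ l = l ∧ ∀ σ ∈ Q, σ l = l

theorem card_Mu {L N : ℕ} (h : N ≤ L) : Nat.card (Mu L N) = 2 ^ N := by
  have := cycRing_isDomain L
  obtain ⟨k, rfl⟩ := Nat.exists_eq_add_of_le h
  have h1 : IsPrimitiveRoot (cycRoot (N + k) ^ 2 ^ k) (2 ^ N) :=
    (cycRoot_spec (N + k)).pow (by positivity) (by rw [pow_add, mul_comm])
  have hne : NeZero (2 ^ N) := ⟨by positivity⟩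
  exact h1.card_rootsOfUnity

theorem finite_Mu (L N : ℕ) : Finite (Mu L N) := by
  have := cycRing_isDomain L
  have hne : NeZero (2 ^ N) := ⟨by positivity⟩
  infer_instance

theorem mu_pow {L N : ℕ} (t : Mu L N) : t ^ 2 ^ N = 1 := Subtype.ext ((mem_rootsOfUnity _ _).1 t.2)

theorem exists_mu_neg {L N : ℕ} (hN : 1 ≤ N) : ∃ e : Mu L N, e ≠ 1 ∧ e ^ 2 = 1 := by
  refine ⟨⟨-1, ?_⟩, ?_, ?_⟩
  · rw [mem_rootsOfUnity]
    obtain ⟨k, rfl⟩ := Nat.exists_eq_add_of_le hN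
    rw [pow_add, pow_mul, pow_one, neg_one_sq, one_pow]
  · intro h
    have h1 : ((-1 : (CycRing L)ˣ) : CycRing L) = 1 := congrArg (fun t : Mu L N => ((t : (CycRing L)ˣ) : CycRing L)) h
    have h2 : ((2 : ℕ) : CycRing L) = 0 := by
      rw [Units.val_neg, Units.val_one] at h1
      push_cast
      linear_combination -h1
    exact cycRing_cast_ne_zero L (by norm_num) h2
  · apply Subtype.ext
    show (-1 : (CycRing L)ˣ) ^ 2 = 1
    exact neg_one_sq

theorem dvd_of_val {a k : ℕ} (h : padicValNat 2 a = k) : 2 ^ k ∣ a := by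
  rw [← h]
  exact pow_padicValNat_dvd

theorem exists_odd_of_val {a k : ℕ} (ha : a ≠ 0) (h : padicValNat 2 a = k) : ∃ c, Odd c ∧ a = 2 ^ k * c := by
  obtain ⟨c, hc⟩ := dvd_of_val h
  refine ⟨c, ?_, hc⟩
  by_contra hcon
  rw [Nat.not_odd_iff_even] at hcon
  obtain ⟨d, hd⟩ := hcon
  have h1 : 2 ^ (k + 1) ∣ a := ⟨d, by rw [hc, hd, pow_succ]; ring⟩
  have : Fact (Nat.Prime 2) := ⟨Nat.prime_two⟩
  have h2 := (padicValNat_dvd_iff_le ha).1 h1
  omega

theorem exists_dat {n x y : ℕ} (hn : n = 2 ∨ n = 3 ∨ n = 4 ∨ n = 5) (hxy : (2 ≤ x ∧ y = 1) ∨ (x = 1 ∧ 2 ≤ y)) :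
    Nonempty (Dat n x y) := by
  obtain ⟨κ0, hκ0, h4, hQcard, hfix, hT⟩ := exists_shape hn
  have h4' : ∀ σ ∈ Subgroup.centralizer ({κ0} : Set (Perm (Fin n))), σ ^ 4 = 1 :=
    fun σ hσ => h4 σ (commute_of_mem hσ).eq
  have hfin : ∀ (L N : ℕ) (Q : Subgroup (Perm (Fin n))) (κ : Perm (Fin n)) (hQ : ∀ σ ∈ Q, Commute σ κ) (r : ℕ),
      Finite (wGp (Mu L N) Q κ hQ r) := by
    intro L N Q κ hQ r
    have := finite_Mu L N
    exact Finite.of_equiv _ wEquiv.symm
  rcases hxy with ⟨hx, rfl⟩ | ⟨rfl, hy⟩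
  · -- type I
    refine ⟨{ L := x + 2, N := x, r := 1, Q := Subgroup.centralizer {κ0}, κ := 1
              hQ := fun σ _ => Commute.one_right σ
              hL := rfl, hκ := one_mul 1, hr2 := rfl, h4 := h4', hlin := ?_, huni := ?_
              hcard := ?_, hfin := hfin _ _ _ _ _ _, hfix := ?_ }⟩
    · intro q hq h1 _
      refine ⟨?_, Or.inl rfl⟩
      have h2 := dvd_of_val h1
      have h3 : 1 ≤ q := hq.pos
      exact ((Nat.modEq_iff_dvd' h3).2 h2).symm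
    · intro q hq h1 _
      exact dvd_of_val h1
    · rw [card_wGp, hQcard]
      have := finite_Mu (x + 2) x
      rw [card_torus_one, card_Mu (by omega), ← pow_mul, ← pow_add]
      refine Nat.pow_le_pow_right (by norm_num) ?_
      unfold vv
      rw [mul_comm x n]
      omega
    · intro h
      obtain ⟨l, hl⟩ := hfix h
      exact ⟨l, rfl, fun σ hσ => hl σ (commute_of_mem hσ).eq⟩
  · -- type II
    have h2y : 2 ≤ 2 ^ y := by
      calc 2 = 2 ^ 1 := (pow_one 2).symm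
        _ ≤ 2 ^ y := Nat.pow_le_pow_right (by norm_num) (by omega)
    have hr2 : (2 ^ y - 1) * (2 ^ y - 1) ≡ 1 [MOD 2 ^ (y + 1)] := by
      obtain ⟨k, rfl⟩ := Nat.exists_eq_add_of_le hy
      have e1 : (2 ^ (2 + k) - 1) * (2 ^ (2 + k) - 1) = 1 + 2 ^ (2 + k + 1) * (2 ^ (1 + k) - 1) := by
        have h5 : 1 ≤ 2 ^ (1 + k) := Nat.one_le_two_pow
        obtain ⟨c, hc⟩ := Nat.exists_eq_add_of_le h5
        have h6 : 2 ^ (2 + k) = 2 * (1 + c) := by rw [← hc]; ring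
        have h7 : 2 ^ (2 + k + 1) = 4 * (1 + c) := by rw [pow_succ, h6]; ring
        rw [hc, h6, h7]
        have e2 : 2 * (1 + c) - 1 = 1 + 2 * c := by omega
        have e3 : 1 + c - 1 = c := by omega
        rw [e2, e3]
        ring
      rw [e1]
      exact (Nat.modEq_iff_dvd' (by omega)).2 ⟨2 ^ (1 + k) - 1, by omega⟩ |>.symm
    refine ⟨{ L := y + 3, N := y + 1, r := 2 ^ y - 1, Q := Subgroup.centralizer {κ0}, κ := κ0
              hQ := fun σ hσ => commute_of_mem hσ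
              hL := rfl, hκ := hκ0, hr2 := hr2, h4 := h4', hlin := ?_, huni := ?_
              hcard := ?_, hfin := hfin _ _ _ _ _ _, hfix := ?_ }⟩
    · intro q hq _ h1
      obtain ⟨c, hc, hqc⟩ := exists_odd_of_val (by omega) h1
      obtain ⟨d, rfl⟩ := hc
      constructor
      · have e1 : q = 2 ^ y - 1 + 2 ^ (y + 1) * d := by
          have e2 : 2 ^ y * (2 * d + 1) = 2 ^ (y + 1) * d + 2 ^ y := by ring
          rw [e2] at hqc
          omega
        rw [e1]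
        exact (Nat.modEq_iff_dvd' (by omega)).2 ⟨d, by omega⟩ |>.symm
      · right
        obtain ⟨k, rfl⟩ := Nat.exists_eq_add_of_le hy
        have e2 : 2 ^ (2 + k) * (2 * d + 1) = 4 * (2 ^ k * (2 * d + 1)) := by ring
        rw [e2] at hqc
        omega
    · intro q hq _ h1
      have hq1 : q ≠ 1 := by
        rintro rfl
        rw [Nat.sub_self, padicValNat_zero_right] at h1
        omega
      have hq0 : 1 ≤ q := hq.pos
      obtain ⟨c, hc, hqc⟩ := exists_odd_of_val (by omega) h1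
      obtain ⟨d, rfl⟩ := hc
      refine ⟨d + 1, ?_⟩
      have e2 : 2 ^ y * (2 * d + 1) = 2 ^ (y + 1) * d + 2 ^ y := by ring
      have e3 : 2 ^ (y + 1) * (d + 1) = 2 ^ (y + 1) * d + 2 * 2 ^ y := by ring
      rw [e2] at hqc
      rw [e3]
      omega
    · rw [card_wGp, hQcard]
      have := finite_Mu (y + 3) (y + 1)
      obtain ⟨e, he1, he2⟩ := exists_mu_neg (L := y + 3) (N := y + 1) (by omega)
      have h5 := hT (Mu (y + 3) (y + 1)) e (2 ^ y - 1) he1 he2 (by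
        refine ⟨2 ^ (y - 1) - 1, ?_⟩
        obtain ⟨k, rfl⟩ := Nat.exists_eq_add_of_le hy
        have e1 : 2 + k - 1 = k + 1 := by omega
        have e2 : 2 ^ (2 + k) = 2 * 2 ^ (k + 1) := by ring
        have e3 : 1 ≤ 2 ^ (k + 1) := Nat.one_le_two_pow
        rw [e1, e2]
        omega) (fun a => by
        have := pow_eq_pow_of_modEq hr2 (mu_pow a)
        rwa [pow_one] at this)
      refine le_trans ?_ (Nat.mul_le_mul_right _ h5)
      rw [card_Mu (by omega), ← pow_mul, ← pow_add, ← pow_add]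
      refine Nat.pow_le_pow_right (by norm_num) ?_
      unfold vv
      rcases hn with rfl | rfl | rfl | rfl <;> norm_num <;> omega
    · intro h
      obtain ⟨l, hl⟩ := hfix h
      exact ⟨l, hl κ0 rfl, fun σ hσ => hl σ (commute_of_mem hσ).eq⟩

section Main

variable {n x y : ℕ}

theorem Dat.pow_eq_one (D : Dat n x y) (w : wGp (Mu D.L D.N) D.Q D.κ D.hQ D.r) : w ^ 2 ^ D.L = 1 :=
  wGp_pow_eq_one D.hL (fun t => mu_pow t) D.h4 w

theorem odd_or_pow (hn : n = 2 ∨ n = 3 ∨ n = 4 ∨ n = 5) : n % 2 = 1 ∨ ∃ e, 1 ≤ e ∧ n = 2 ^ e := by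
  rcases hn with rfl | rfl | rfl | rfl
  · exact Or.inr ⟨1, le_rfl, rfl⟩
  · exact Or.inl rfl
  · exact Or.inr ⟨2, by norm_num, rfl⟩
  · exact Or.inl rfl

theorem two_ne_zero_of_odd {F : Type*} [Field F] [Fintype F] (h : Odd (Fintype.card F)) : (2 : F) ≠ 0 := by
  intro h2
  have h3 := FiniteField.even_card_of_char_two (F := F)
    (CharP.ringChar_of_prime_eq_zero Nat.prime_two (by exact_mod_cast h2))
  rw [Nat.odd_iff] at h
  omega

/-- The reference Sylow 2-subgroup in the general linear group. -/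
theorem Dat.exists_pk_lin (D : Dat n x y) (hn : n = 2 ∨ n = 3 ∨ n = 4 ∨ n = 5) {F : Type u} [Field F] [Fintype F]
    (hq : Odd (Fintype.card F)) (hx : padicValNat 2 (Fintype.card F - 1) = x)
    (hy : padicValNat 2 (Fintype.card F + 1) = y) :
    ∃ σ : wGp (Mu D.L D.N) D.Q D.κ D.hQ D.r →* Matrix.GeneralLinearGroup (Fin n) F,
      Pk D.L (cycRoot D.L) (wRho (rootsOfUnity (2 ^ D.N) (CycRing D.L)).subtype D.Q D.κ D.hQ D.r)
        (fun w => IsScal (w : MonGp (Fin n) (Mu D.L D.N))) (decide (n % 2 = 1))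
        (MonoidHom.id (Matrix.GeneralLinearGroup (Fin n) F)) σ := by
  have := cycRing_isDomain D.L
  have := D.hfin
  obtain ⟨h1, h2⟩ := D.hlin _ hq hx hy
  have hL := D.hL
  exact H751.exists_pk_lin (two_ne_zero_of_odd hq) (cycRoot_spec D.L) (fun K _ z hz => exists_cycRing_hom D.L hz)
    (by omega) (by omega) (Subgroup.subtype_injective _) (fun t => mu_pow t) D.hκ h1 h2 (odd_or_pow hn)
    (fun w => ⟨D.L, D.pow_eq_one w⟩) (by rw [val_card_GL hq hn, hx, hy]; exact D.hcard) D.hfix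

/-- The reference Sylow 2-subgroup in the general unitary group. -/
theorem Dat.exists_pk_uni (D : Dat n x y) (hn : n = 2 ∨ n = 3 ∨ n = 4 ∨ n = 5) {F : Type u} [Field F] [Fintype F] {q : ℕ}
    (hF : Fintype.card F = q ^ 2) (hq : Odd q) (hx : padicValNat 2 (q + 1) = x)
    (hy : padicValNat 2 (q - 1) = y) :
    ∃ σ : wGp (Mu D.L D.N) D.Q D.κ D.hQ D.r →* Cfsg.GU n F q,
      Pk D.L (cycRoot D.L) (wRho (rootsOfUnity (2 ^ D.N) (CycRing D.L)).subtype D.Q D.κ D.hQ D.r)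
        (fun w => IsScal (w : MonGp (Fin n) (Mu D.L D.N))) (decide (n % 2 = 1))
        (Cfsg.GU n F q).subtype σ := by
  have := cycRing_isDomain D.L
  have := D.hfin
  have hL := D.hL
  have hqF : Odd (Fintype.card F) := by rw [hF]; exact hq.pow
  exact H751.exists_pk_uni hF (two_ne_zero_of_odd hqF) (cycRoot_spec D.L) (fun K _ z hz => exists_cycRing_hom D.L hz)
    (by omega) (Subgroup.subtype_injective _) (fun t => mu_pow t) D.hκ (D.huni q hq hx hy) D.hr2 (by omega) (odd_or_pow hn) hq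
    (fun w => ⟨D.L, D.pow_eq_one w⟩) (by rw [val_card_GU hF hq hn, hx, hy]; exact D.hcard) D.hfix

theorem val_cases {q : ℕ} (hq : Odd q) (h1 : 1 < q) :
    (2 ≤ padicValNat 2 (q - 1) ∧ padicValNat 2 (q + 1) = 1) ∨ (padicValNat 2 (q - 1) = 1 ∧ 2 ≤ padicValNat 2 (q + 1)) := by
  have : Fact (Nat.Prime 2) := ⟨Nat.prime_two⟩
  have key : ∀ a : ℕ, a ≠ 0 → (a % 4 = 0 → 2 ≤ padicValNat 2 a) ∧ (a % 4 = 2 → padicValNat 2 a = 1) := by
    intro a ha
    constructor
    · intro h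
      have h2 : 2 ^ 2 ∣ a := Nat.dvd_of_mod_eq_zero h
      exact (padicValNat_dvd_iff_le ha).1 h2
    · intro h
      have h2 : 2 ^ 1 ∣ a := Nat.dvd_of_mod_eq_zero (by omega)
      have h3 := (padicValNat_dvd_iff_le ha).1 h2
      have h4 : ¬ 2 ≤ padicValNat 2 a := by
        intro h5
        have h6 := (padicValNat_dvd_iff_le ha).2 h5
        omega
      omega
  have h2 := Nat.odd_iff.1 hq
  have h3 : q % 4 = 1 ∨ q % 4 = 3 := by omega
  rcases h3 with h3 | h3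
  · left
    exact ⟨(key (q - 1) (by omega)).1 (by omega), (key (q + 1) (by omega)).2 (by omega)⟩
  · right
    exact ⟨(key (q - 1) (by omega)).2 (by omega), (key (q + 1) (by omega)).1 (by omega)⟩

/-- `PSL_n(q')` and `PSL_n(q)`. -/
theorem fusTo_lin_lin (hn : n = 2 ∨ n = 3 ∨ n = 4 ∨ n = 5) {F : Type u} [Field F] [Fintype F] {F' : Type v} [Field F'] [Fintype F']
    (hq : Odd (Fintype.card F)) (hq' : Odd (Fintype.card F'))
    (hx : padicValNat 2 (Fintype.card F' - 1) = padicValNat 2 (Fintype.card F - 1))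
    (hy : padicValNat 2 (Fintype.card F' + 1) = padicValNat 2 (Fintype.card F + 1)) {G : Type*} [Group G]
    (g : G ≃* Matrix.ProjectiveSpecialLinearGroup (Fin n) F') :
    FusTo 2 G (Matrix.ProjectiveSpecialLinearGroup (Fin n) F) := by
  obtain ⟨D⟩ := exists_dat hn (val_cases hq Fintype.one_lt_card)
  have := cycRing_isDomain D.L
  have := D.hfin
  obtain ⟨σ, hσ⟩ := D.exists_pk_lin hn hq rfl rfl
  obtain ⟨σ', hσ'⟩ := D.exists_pk_lin hn hq' hx hy
  obtain ⟨e⟩ := nonempty_pslEquiv n F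
  obtain ⟨e'⟩ := nonempty_pslEquiv n F'
  exact fusTo_of_pk (cycRoot_spec D.L) D.pow_eq_one hσ' hσ (e'.trans g.symm) e

/-- `PSU_n(q')` and `PSL_n(q)`. -/
theorem fusTo_uni_lin (hn : n = 2 ∨ n = 3 ∨ n = 4 ∨ n = 5) {F : Type u} [Field F] [Fintype F] {F' : Type v} [Field F'] [Fintype F']
    {q' : ℕ} (hq : Odd (Fintype.card F)) (hF' : Fintype.card F' = q' ^ 2) (hq' : Odd q')
    (hx : padicValNat 2 (q' + 1) = padicValNat 2 (Fintype.card F - 1))
    (hy : padicValNat 2 (q' - 1) = padicValNat 2 (Fintype.card F + 1)) {G : Type*} [Group G]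
    (g : G ≃* Cfsg.PSU n F' q') :
    FusTo 2 G (Matrix.ProjectiveSpecialLinearGroup (Fin n) F) := by
  obtain ⟨D⟩ := exists_dat hn (val_cases hq Fintype.one_lt_card)
  have := cycRing_isDomain D.L
  have := D.hfin
  obtain ⟨σ, hσ⟩ := D.exists_pk_lin hn hq rfl rfl
  obtain ⟨σ', hσ'⟩ := D.exists_pk_uni hn hF' hq' hx hy
  obtain ⟨e⟩ := nonempty_pslEquiv n F
  obtain ⟨e'⟩ := nonempty_psuEquiv n q' F'
  have : Finite (Cfsg.GU n F' q') := Cfsg.Agent.LieClassical.GUOrder.finite_GU n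
  exact fusTo_of_pk (cycRoot_spec D.L) D.pow_eq_one hσ' hσ (e'.trans g.symm) e

end Main

end Cfsg.Agent.H751
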