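import Cfsg.Agent.H751.PIso

/-!
# Semisimple endomorphisms with the same characteristic polynomial are conjugate (helper751)
-/

set_option autoImplicit false

namespace Cfsg.Agent.H751

open Module Polynomial

section Charpoly

variable {n : Type*} [Fintype n] [DecidableEq n]

/-- `det p(A)` only depends on the characteristic polynomial of `A`. -/
theorem det_aeval_eq_of_isAlgClosed {K : Type*} [Field K] [IsAlgClosed K] {A B : Matrix n n K}
    (h : A.charpoly = B.charpoly) (p : K[X]) : (aeval A p).det = (aeval B p).det := by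
  have h1 : ∀ (M : Matrix n n K) (a : K), (aeval M (X - C a)).det = (-1) ^ Fintype.card n * M.charpoly.eval a := by
    intro M a
    rw [Matrix.eval_charpoly, map_sub, aeval_X, aeval_C, ← Matrix.det_neg, neg_sub]
    rfl
  have h2 : p = C p.leadingCoeff * (p.roots.map (fun a => X - C a)).prod :=
    (IsAlgClosed.splits p).eq_prod_roots
  have h3 : ∀ (M : Matrix n n K), (aeval M p).det =
      (aeval M (C p.leadingCoeff)).det * (p.roots.map (fun a => (aeval M (X - C a)).det)).prod := by
    intro M
    conv_lhs => rw [h2]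
    rw [map_mul, Matrix.det_mul]
    congr 1
    have h4 := map_multiset_prod ((Matrix.detMonoidHom).comp (aeval M : K[X] →ₐ[K] Matrix n n K).toRingHom.toMonoidHom)
      (p.roots.map (fun a => X - C a))
    rw [Multiset.map_map] at h4
    exact h4
  rw [h3, h3]
  congr 1
  · rw [aeval_C, aeval_C]
  · congr 1
    refine Multiset.map_congr rfl (fun a _ => ?_)
    rw [h1, h1, h]

/-- The characteristic polynomial of `p(A)` only depends on the characteristic polynomial of `A`. -/
theorem charpoly_aeval_eq {E : Type*} [Field E] {A B : Matrix n n E}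
    (h : A.charpoly = B.charpoly) (p : E[X]) : (aeval A p).charpoly = (aeval B p).charpoly := by
  let K := AlgebraicClosure E
  let f : E →+* K := algebraMap E K
  have hf : Function.Injective f := f.injective
  have hmap : ∀ M : Matrix n n E, (aeval M p).map f = aeval (M.map f) (p.map f) := by
    intro M
    have := Polynomial.map_aeval_eq_aeval_map (φ := f) (ψ := f.mapMatrix) (by
      ext a i j
      rw [RingHom.comp_apply, RingHom.comp_apply, RingHom.mapMatrix_apply, Matrix.map_apply,
        Matrix.algebraMap_matrix_apply, Matrix.algebraMap_matrix_apply]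
      split_ifs <;> simp) p M
    exact this
  apply Polynomial.map_injective f hf
  rw [← Matrix.charpoly_map, ← Matrix.charpoly_map]
  show ((aeval A p).map f).charpoly = ((aeval B p).map f).charpoly
  rw [hmap, hmap]
  have hAB : (A.map f).charpoly = (B.map f).charpoly := by
    have h1 := Matrix.charpoly_map A f
    have h2 := Matrix.charpoly_map B f
    rw [h1, h2, h]
  apply Polynomial.funext
  intro t
  have h3 : ∀ M : Matrix n n K, ((aeval M (p.map f)).charpoly).eval t = (aeval M (C t - p.map f)).det := by
    intro M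
    rw [Matrix.eval_charpoly, map_sub, aeval_C]
    rfl
  rw [h3, h3]
  exact det_aeval_eq_of_isAlgClosed hAB _

end Charpoly

section Cyc

universe u

variable {E : Type*} [Field E] {V : Type u} [AddCommGroup V] [Module E V] [FiniteDimensional E V]

/-- The kernel of a semisimple endomorphism has dimension the multiplicity of `0` as a root of the
characteristic polynomial. -/
theorem finrank_ker_eq {f : Module.End E V} (hf : f.IsSemisimple) :
    finrank E (LinearMap.ker f) = f.charpoly.natTrailingDegree := by
  rw [← LinearMap.finrank_maxGenEigenspace_zero_eq,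
    (Module.End.isFinitelySemisimple_iff_isSemisimple.2 hf).maxGenEigenspace_eq_eigenspace,
    Module.End.eigenspace_zero]

omit [FiniteDimensional E V] in
/-- For a simple `E[X]`-module `X`, the space `Hom(X, V)` is the kernel of a polynomial in the endomorphism. -/
theorem exists_finrank_hom_eq (X : Type*) [AddCommGroup X] [Module E X] [Module E[X] X]
    [IsScalarTower E E[X] X] [IsSimpleModule E[X] X] :
    ∃ p : E[X], ∀ f : Module.End E V, finrank E (X →ₗ[E[X]] AEval' f) = finrank E (LinearMap.ker (aeval f p)) := by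
  obtain ⟨I, hI, ⟨e⟩⟩ := isSimpleModule_iff_quot_maximal.1 ‹IsSimpleModule E[X] X›
  obtain ⟨p, hp⟩ := (IsPrincipalIdealRing.principal I).principal
  refine ⟨p, fun f => ?_⟩
  let x0 : X := e.symm (Ideal.Quotient.mk I 1)
  have hgen : ∀ x : X, ∃ r : E[X], x = r • x0 := by
    intro x
    obtain ⟨r, hr⟩ := Ideal.Quotient.mk_surjective (e x)
    refine ⟨r, ?_⟩
    apply e.injective
    rw [map_smul, LinearEquiv.apply_symm_apply, ← hr]
    show (Ideal.Quotient.mk I) r = r • (Ideal.Quotient.mk I) 1
    rw [← Ideal.Quotient.mk_eq_mk, ← Ideal.Quotient.mk_eq_mk, ← Submodule.Quotient.mk_smul, smul_eq_mul, mul_one]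
  have hpx : p • x0 = 0 := by
    apply e.injective
    rw [map_smul, LinearEquiv.apply_symm_apply, map_zero]
    rw [← Ideal.Quotient.mk_eq_mk, ← Submodule.Quotient.mk_smul, smul_eq_mul, mul_one,
      Submodule.Quotient.mk_eq_zero, hp]
    exact Ideal.mem_span_singleton_self p
  let Φ : (X →ₗ[E[X]] AEval' f) →ₗ[E] V :=
    { toFun := fun φ => (AEval'.of f).symm (φ x0)
      map_add' := fun a b => by rw [LinearMap.add_apply, map_add]
      map_smul' := fun c a => by rw [LinearMap.smul_apply, map_smul, RingHom.id_apply] }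
  have hΦ : Function.Injective Φ := by
    intro a b hab
    have h1 : a x0 = b x0 := (AEval'.of f).symm.injective hab
    ext x
    obtain ⟨r, rfl⟩ := hgen x
    rw [map_smul, map_smul, h1]
  have hr : LinearMap.range Φ = LinearMap.ker (aeval f p) := by
    ext v
    constructor
    · rintro ⟨φ, rfl⟩
      rw [LinearMap.mem_ker]
      show (aeval f p) ((AEval'.of f).symm (φ x0)) = 0
      have h1 := AEval.of_symm_smul (R := E) (a := f) (M := V) p (φ x0)
      rw [← map_smul, hpx, map_zero, map_zero] at h1
      exact h1.symm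
    · intro hv
      rw [LinearMap.mem_ker] at hv
      have hp0 : p • (AEval'.of f v) = 0 := by
        have h1 := AEval.of_aeval_smul (R := E) (a := f) (M := V) p v
        rw [← h1]
        show (AEval'.of f) ((aeval f p) v) = 0
        rw [hv, map_zero]
      let ψ : (E[X] ⧸ I) →ₗ[E[X]] AEval' f := Submodule.liftQ I (LinearMap.toSpanSingleton E[X] _ (AEval'.of f v)) (by
        intro r hr
        rw [hp] at hr
        obtain ⟨a, rfl⟩ := Ideal.mem_span_singleton'.1 hr
        rw [LinearMap.mem_ker, LinearMap.toSpanSingleton_apply, mul_smul, hp0, smul_zero])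
      refine ⟨ψ ∘ₗ e.toLinearMap, ?_⟩
      show (AEval'.of f).symm (ψ (e (e.symm (Ideal.Quotient.mk I 1)))) = v
      rw [LinearEquiv.apply_symm_apply]
      show (AEval'.of f).symm ((1 : E[X]) • (AEval'.of f v)) = v
      rw [one_smul, LinearEquiv.symm_apply_apply]
  rw [← hr, LinearMap.finrank_range_of_inj hΦ]

/-- Semisimple endomorphisms `f` and `g` such that `p(f)` and `p(g)` have kernels of the same dimensions for all the
polynomials `p` are conjugate. -/
theorem exists_equiv_of_finrank_ker {f g : Module.End E V} (hf : f.IsSemisimple) (hg : g.IsSemisimple)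
    (h : ∀ p : E[X], finrank E (LinearMap.ker (aeval f p)) = finrank E (LinearMap.ker (aeval g p))) :
    ∃ e : V ≃ₗ[E] V, ∀ v, e (f v) = g (e v) := by
  have hf' : IsSemisimpleModule E[X] (AEval' f) := hf
  have hg' : IsSemisimpleModule E[X] (AEval' g) := hg
  obtain ⟨e⟩ := nonempty_equiv_of_finrank_hom_simple (E := E) (R := E[X]) _ (AEval' f) (AEval' g) rfl
    (fun X _ _ _ _ _ _ => by
      obtain ⟨p, hp⟩ := exists_finrank_hom_eq (E := E) (V := V) X
      rw [hp, hp, h])
  refine ⟨(AEval'.of f).trans ((e.restrictScalars E).trans (AEval'.of g).symm), fun v => ?_⟩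
  show (AEval'.of g).symm (e (AEval'.of f (f v))) = g ((AEval'.of g).symm (e (AEval'.of f v)))
  rw [← AEval'.X_smul_of, map_smul, AEval'.of_symm_X_smul]

/-- Two endomorphisms `f`, `g` of 2-power order with the same characteristic polynomial are conjugate. -/
theorem exists_equiv_of_charpoly [PerfectField E] (h2 : (2 : E) ≠ 0) {f g : Module.End E V} {N : ℕ}
    (hf : f ^ 2 ^ N = 1) (hg : g ^ 2 ^ N = 1) (h : f.charpoly = g.charpoly) :
    ∃ e : V ≃ₗ[E] V, ∀ v, e (f v) = g (e v) := by
  have hsq : Squarefree (X ^ 2 ^ N - 1 : E[X]) := by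
    have h1 : ((2 ^ N : ℕ) : E) ≠ 0 := by
      rw [Nat.cast_pow]
      exact pow_ne_zero _ (by exact_mod_cast h2)
    exact (X_pow_sub_one_separable_iff.2 h1).squarefree
  have hss : ∀ k : Module.End E V, k ^ 2 ^ N = 1 → k.IsSemisimple := fun k hk =>
    Module.End.isSemisimple_of_squarefree_aeval_eq_zero hsq (by
      rw [map_sub, map_pow, aeval_X, map_one, hk, sub_self])
  refine exists_equiv_of_finrank_ker (hss f hf) (hss g hg) (fun p => ?_)
  rw [finrank_ker_eq ((hss f hf).aeval p), finrank_ker_eq ((hss g hg).aeval p)]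
  congr 1
  let b := Module.finBasis E V
  have h3 : ∀ k : Module.End E V, (aeval k p).charpoly = (aeval (LinearMap.toMatrix b b k) p).charpoly := by
    intro k
    rw [← LinearMap.charpoly_toMatrix _ b]
    congr 1
    exact (Polynomial.aeval_algHom_apply (LinearMap.toMatrixAlgEquiv b) k p).symm
  rw [h3, h3]
  refine charpoly_aeval_eq ?_ p
  rw [LinearMap.charpoly_toMatrix, LinearMap.charpoly_toMatrix, h]

/-- Two actions of a finite 2-group on the same space such that every element has the same characteristic polynomial in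
both are isomorphic. -/
theorem exists_equiv_of_charpoly_all [PerfectField E] {P : Type*} [Group P] [Finite P] (hP : IsPGroup 2 P)
    (h2 : (2 : E) ≠ 0) (τ τ' : P →* Module.End E V) (h : ∀ x, (τ x).charpoly = (τ' x).charpoly) :
    ∃ e : V ≃ₗ[E] V, ∀ (x : P) v, e (τ x v) = τ' x (e v) := by
  refine exists_equiv_of_cyclic hP h2 τ τ' (fun x => ?_)
  obtain ⟨N, hN⟩ := hP x
  exact exists_equiv_of_charpoly (N := N) h2 (by rw [← map_pow, hN, map_one]) (by rw [← map_pow, hN, map_one]) (h x)

/-- Two homomorphisms of a finite 2-group into `GL_n(E)` such that every element has the same characteristic polynomial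
in both are conjugate. -/
theorem exists_conj_of_charpoly [PerfectField E] {P : Type*} [Group P] [Finite P] (hP : IsPGroup 2 P)
    (h2 : (2 : E) ≠ 0) {n : Type u} [Fintype n] [DecidableEq n] (τ τ' : P →* Matrix.GeneralLinearGroup n E)
    (h : ∀ x, (τ x : Matrix n n E).charpoly = (τ' x : Matrix n n E).charpoly) :
    ∃ g : Matrix.GeneralLinearGroup n E, ∀ x : P, τ' x = g * τ x * g⁻¹ := by
  let T : (Matrix.GeneralLinearGroup n E) →* Module.End E (n → E) :=
    (Matrix.toLinAlgEquiv' : Matrix n n E ≃ₐ[E] _).toAlgHom.toRingHom.toMonoidHom.comp (Units.coeHom _)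
  have hT : ∀ A : Matrix.GeneralLinearGroup n E, T A = Matrix.toLin' (A : Matrix n n E) := fun A => rfl
  obtain ⟨e, he⟩ := exists_equiv_of_charpoly_all hP h2 (T.comp τ) (T.comp τ') (fun x => by
    show (Matrix.toLin' (τ x : Matrix n n E)).charpoly = (Matrix.toLin' (τ' x : Matrix n n E)).charpoly
    rw [← LinearMap.charpoly_toMatrix _ (Pi.basisFun E n), ← LinearMap.charpoly_toMatrix (Matrix.toLin' _) (Pi.basisFun E n),
      LinearMap.toMatrix_eq_toMatrix', LinearMap.toMatrix'_toLin', LinearMap.toMatrix'_toLin', h])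
  let M : Matrix n n E := LinearMap.toMatrix' e.toLinearMap
  let M' : Matrix n n E := LinearMap.toMatrix' e.symm.toLinearMap
  have hMM' : M * M' = 1 := by
    rw [← LinearMap.toMatrix'_mul]
    have : (e.toLinearMap * e.symm.toLinearMap : Module.End E (n → E)) = 1 := by ext v; simp
    rw [this, LinearMap.toMatrix'_one]
  have hM'M : M' * M = 1 := by
    rw [← LinearMap.toMatrix'_mul]
    have : (e.symm.toLinearMap * e.toLinearMap : Module.End E (n → E)) = 1 := by ext v; simp
    rw [this, LinearMap.toMatrix'_one]
  refine ⟨⟨M, M', hMM', hM'M⟩, fun x => ?_⟩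
  rw [eq_mul_inv_iff_mul_eq]
  apply Units.ext
  show (τ' x : Matrix n n E) * M = M * (τ x : Matrix n n E)
  have h1 : Matrix.toLin' (τ' x : Matrix n n E) ∘ₗ e.toLinearMap = e.toLinearMap ∘ₗ Matrix.toLin' (τ x : Matrix n n E) :=
    LinearMap.ext (fun v => (he x v).symm)
  have h4 := congrArg LinearMap.toMatrix' h1
  rwa [LinearMap.toMatrix'_comp, LinearMap.toMatrix'_comp, LinearMap.toMatrix'_toLin',
    LinearMap.toMatrix'_toLin'] at h4

end Cyc

end Cfsg.Agent.H751
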