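import Mathlib

/-!
# Dimensions of fixed spaces of 2-groups (helper751)

For a finite 2-group acting linearly on two spaces over a field of characteristic different from two: if all cyclic
subgroups have fixed spaces of the same dimensions, then all subgroups do.
-/

set_option autoImplicit false

namespace Cfsg.Agent.H751

open Subgroup Module

section Fix

variable {E : Type*} [Field E] {P : Type*} [Group P] {U : Type*} [AddCommGroup U] [Module E U]

/-- Fixed space of a subgroup. -/
def fix (τ : P →* Module.End E U) (H : Subgroup P) : Submodule E U where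
  carrier := {u | ∀ h ∈ H, τ h u = u}
  add_mem' := by
    intro a b ha hb h hh
    rw [map_add, ha h hh, hb h hh]
  zero_mem' := by
    intro h _
    rw [map_zero]
  smul_mem' := by
    intro c a ha h hh
    rw [map_smul, ha h hh]

variable (τ : P →* Module.End E U)

theorem mem_fix {H : Subgroup P} {u : U} : u ∈ fix τ H ↔ ∀ h ∈ H, τ h u = u := Iff.rfl

theorem fix_sup (A B : Subgroup P) : fix τ (A ⊔ B) = fix τ A ⊓ fix τ B := by
  ext u
  constructor
  · intro h
    exact ⟨fun x hx => h x (le_sup_left (b := B) hx), fun x hx => h x (le_sup_right (a := A) hx)⟩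
  · rintro ⟨h1, h2⟩
    let K : Subgroup P :=
      { carrier := {x | τ x u = u}
        mul_mem' := by
          intro a b ha hb
          show τ (a * b) u = u
          rw [map_mul, Module.End.mul_apply, hb, ha]
        one_mem' := by
          show τ 1 u = u
          rw [map_one]; rfl
        inv_mem' := by
          intro a ha
          show τ a⁻¹ u = u
          have h3 : τ a u = u := ha
          conv_lhs => rw [← h3]
          rw [← Module.End.mul_apply, ← map_mul, inv_mul_cancel, map_one]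
          rfl }
    have h3 : A ⊔ B ≤ K := sup_le h1 h2
    exact fun x hx => h3 hx

theorem mem_fix_zpowers {x : P} {u : U} : u ∈ fix τ (zpowers x) ↔ τ x u = u := by
  constructor
  · intro h
    exact h x (mem_zpowers x)
  · intro h
    let K : Subgroup P :=
      { carrier := {x | τ x u = u}
        mul_mem' := by
          intro a b ha hb
          show τ (a * b) u = u
          rw [map_mul, Module.End.mul_apply, hb, ha]
        one_mem' := by
          show τ 1 u = u
          rw [map_one]; rfl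
        inv_mem' := by
          intro a ha
          show τ a⁻¹ u = u
          have h3 : τ a u = u := ha
          conv_lhs => rw [← h3]
          rw [← Module.End.mul_apply, ← map_mul, inv_mul_cancel, map_one]
          rfl }
    have h3 : zpowers x ≤ K := by
      rw [zpowers_le]
      exact h
    exact fun y hy => h3 hy

theorem fix_mono {A B : Subgroup P} (h : A ≤ B) : fix τ B ≤ fix τ A := fun _ hu x hx => hu x (h hx)

end Fix

section Invol

variable {E : Type*} [Field E] {U : Type*} [AddCommGroup U] [Module E U] [FiniteDimensional E U]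

/-- The eigenspace decomposition of an involution on an invariant subspace. -/
theorem finrank_split (h2 : (2 : E) ≠ 0) (T : Module.End E U) (X : Submodule E U)
    (hX : ∀ x ∈ X, T x ∈ X) (hT : ∀ x ∈ X, T (T x) = x) :
    finrank E X = finrank E (X ⊓ LinearMap.ker (T - 1) : Submodule E U) +
      finrank E (X ⊓ LinearMap.ker (T + 1) : Submodule E U) := by
  have hsup : (X ⊓ LinearMap.ker (T - 1)) ⊔ (X ⊓ LinearMap.ker (T + 1)) = X := by
    apply le_antisymm (sup_le inf_le_left inf_le_left)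
    intro x hx
    rw [Submodule.mem_sup]
    refine ⟨(2 : E)⁻¹ • (x + T x), ⟨X.smul_mem _ (X.add_mem hx (hX x hx)), ?_⟩,
      (2 : E)⁻¹ • (x - T x), ⟨X.smul_mem _ (X.sub_mem hx (hX x hx)), ?_⟩, ?_⟩
    · show (T - 1) _ = 0
      simp only [LinearMap.sub_apply, Module.End.one_apply, map_smul, map_add, hT x hx]
      have : T x - x + (x - T x) = 0 := by abel
      rw [this, smul_zero]
    · show (T + 1) _ = 0
      simp only [LinearMap.add_apply, Module.End.one_apply, map_smul, map_sub, hT x hx]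
      have : T x + x - (x + T x) = 0 := by abel
      rw [this, smul_zero]
    · rw [← smul_add]
      have : x + T x + (x - T x) = (2 : E) • x := by rw [two_smul]; abel
      rw [this, smul_smul, inv_mul_cancel₀ h2, one_smul]
  have hinf : (X ⊓ LinearMap.ker (T - 1)) ⊓ (X ⊓ LinearMap.ker (T + 1)) = ⊥ := by
    rw [eq_bot_iff]
    rintro x ⟨⟨-, h1⟩, -, h3⟩
    have h1' : (T - 1) x = 0 := h1
    have h3' : (T + 1) x = 0 := h3
    simp only [LinearMap.sub_apply, Module.End.one_apply, LinearMap.add_apply] at h1' h3'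
    have h4 : T x = x := sub_eq_zero.1 h1'
    rw [h4, ← two_smul E x] at h3'
    exact (smul_eq_zero.1 h3').resolve_left h2
  have h := Submodule.finrank_sup_add_finrank_inf_eq (X ⊓ LinearMap.ker (T - 1))
    (X ⊓ LinearMap.ker (T + 1))
  rw [hsup, hinf, finrank_bot, add_zero] at h
  exact h

/-- Two commuting involutions on a subspace: the four eigenspaces. -/
theorem finrank_four (h2 : (2 : E) ≠ 0) (A B : Module.End E U) (X : Submodule E U)
    (hXA : ∀ x ∈ X, A x ∈ X) (hXB : ∀ x ∈ X, B x ∈ X) (hA : ∀ x ∈ X, A (A x) = x)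
    (hB : ∀ x ∈ X, B (B x) = x) (hAB : ∀ x ∈ X, A (B x) = B (A x)) :
    2 * finrank E (X ⊓ LinearMap.ker (A - 1) ⊓ LinearMap.ker (B - 1) : Submodule E U) +
        finrank E X =
      finrank E (X ⊓ LinearMap.ker (A - 1) : Submodule E U) +
        finrank E (X ⊓ LinearMap.ker (B - 1) : Submodule E U) +
        finrank E (X ⊓ LinearMap.ker (A * B - 1) : Submodule E U) := by
  have eA : ∀ x, x ∈ LinearMap.ker (A - 1) ↔ A x = x := fun x => by
    rw [LinearMap.mem_ker, LinearMap.sub_apply, Module.End.one_apply, sub_eq_zero]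
  have eB : ∀ x, x ∈ LinearMap.ker (B - 1) ↔ B x = x := fun x => by
    rw [LinearMap.mem_ker, LinearMap.sub_apply, Module.End.one_apply, sub_eq_zero]
  have eA' : ∀ x, x ∈ LinearMap.ker (A + 1) ↔ A x = -x := fun x => by
    rw [LinearMap.mem_ker, LinearMap.add_apply, Module.End.one_apply, add_eq_zero_iff_eq_neg]
  have eB' : ∀ x, x ∈ LinearMap.ker (B + 1) ↔ B x = -x := fun x => by
    rw [LinearMap.mem_ker, LinearMap.add_apply, Module.End.one_apply, add_eq_zero_iff_eq_neg]
  have eAB : ∀ x, x ∈ LinearMap.ker (A * B - 1) ↔ A (B x) = x := fun x => by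
    rw [LinearMap.mem_ker, LinearMap.sub_apply, Module.End.one_apply, sub_eq_zero]; rfl
  have h1 := finrank_split h2 A X hXA hA
  have h3 := finrank_split h2 B (X ⊓ LinearMap.ker (A - 1))
    (fun x hx => ⟨hXB x hx.1, (eA _).2 (by rw [hAB x hx.1, (eA x).1 hx.2])⟩) (fun x hx => hB x hx.1)
  have h4 := finrank_split h2 B (X ⊓ LinearMap.ker (A + 1))
    (fun x hx => ⟨hXB x hx.1, (eA' _).2 (by rw [hAB x hx.1, (eA' x).1 hx.2, map_neg])⟩)
    (fun x hx => hB x hx.1)
  have h5 := finrank_split h2 A (X ⊓ LinearMap.ker (B - 1))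
    (fun x hx => ⟨hXA x hx.1, (eB _).2 (by rw [← hAB x hx.1, (eB x).1 hx.2])⟩) (fun x hx => hA x hx.1)
  have h6 := finrank_split h2 A (X ⊓ LinearMap.ker (A * B - 1))
    (fun x hx => ⟨hXA x hx.1, (eAB _).2 (by
      rw [← hAB x hx.1, (eAB x).1 hx.2])⟩) (fun x hx => hA x hx.1)
  have e1 : X ⊓ LinearMap.ker (B - 1) ⊓ LinearMap.ker (A - 1) =
      X ⊓ LinearMap.ker (A - 1) ⊓ LinearMap.ker (B - 1) := by
    rw [inf_right_comm]
  have e2 : X ⊓ LinearMap.ker (B - 1) ⊓ LinearMap.ker (A + 1) =
      X ⊓ LinearMap.ker (A + 1) ⊓ LinearMap.ker (B - 1) := by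
    rw [inf_right_comm]
  have e3 : X ⊓ LinearMap.ker (A * B - 1) ⊓ LinearMap.ker (A - 1) =
      X ⊓ LinearMap.ker (A - 1) ⊓ LinearMap.ker (B - 1) := by
    ext x
    simp only [Submodule.mem_inf, eAB, eA, eB]
    constructor
    · rintro ⟨⟨hx, h⟩, h'⟩
      refine ⟨⟨hx, h'⟩, ?_⟩
      rw [← hA (B x) (hXB x hx), h, h']
    · rintro ⟨⟨hx, h⟩, h'⟩
      exact ⟨⟨hx, by rw [h', h]⟩, h⟩
  have e4 : X ⊓ LinearMap.ker (A * B - 1) ⊓ LinearMap.ker (A + 1) =
      X ⊓ LinearMap.ker (A + 1) ⊓ LinearMap.ker (B + 1) := by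
    ext x
    simp only [Submodule.mem_inf, eAB, eA', eB']
    constructor
    · rintro ⟨⟨hx, h⟩, h'⟩
      refine ⟨⟨hx, h'⟩, ?_⟩
      rw [← hA (B x) (hXB x hx), h, h']
    · rintro ⟨⟨hx, h⟩, h'⟩
      exact ⟨⟨hx, by rw [h', map_neg, h, neg_neg]⟩, h⟩
  rw [e1, e2] at h5
  rw [e3, e4] at h6
  omega

end Invol

section Group

/-- A noncyclic finite 2-group has two different maximal subgroups, of index two. -/
theorem exists_two_index_two {H : Type*} [Group H] [Finite H] (hH : IsPGroup 2 H) (hnc : ¬ IsCyclic H) :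
    ∃ M₁ M₂ : Subgroup H, M₁.index = 2 ∧ M₂.index = 2 ∧ M₁ ≠ M₂ := by
  have : Fact (Nat.Prime 2) := ⟨Nat.prime_two⟩
  have hnil : Group.IsNilpotent H := hH.isNilpotent
  have hidx : ∀ M : Subgroup H, IsCoatom M → M.index = 2 := by
    intro M hM
    have hMn : M.Normal := Subgroup.NormalizerCondition.normal_of_coatom M
      Group.normalizerCondition_of_isNilpotent hM
    have hq : IsPGroup 2 (H ⧸ M) := hH.to_quotient M
    obtain ⟨k, hk⟩ := IsPGroup.iff_card.1 hq
    have hne : Nontrivial (H ⧸ M) := by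
      rw [QuotientGroup.nontrivial_iff]
      exact hM.1
    have hk0 : k ≠ 0 := by
      rintro rfl
      rw [pow_zero] at hk
      have := Finite.one_lt_card (α := H ⧸ M)
      omega
    have h2 : 2 ∣ Nat.card (H ⧸ M) := by rw [hk]; exact dvd_pow_self 2 hk0
    obtain ⟨x, hx⟩ := exists_prime_orderOf_dvd_card' 2 h2
    have hz : (Subgroup.zpowers x).comap (QuotientGroup.mk' M) = ⊤ := by
      refine hM.2 _ (lt_of_le_of_ne ?_ ?_)
      · intro m hm
        rw [Subgroup.mem_comap]
        have : (QuotientGroup.mk' M) m = 1 := (QuotientGroup.eq_one_iff m).2 hm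
        rw [this]
        exact one_mem _
      · intro h
        obtain ⟨y, rfl⟩ := QuotientGroup.mk'_surjective M x
        have hy : y ∈ (Subgroup.zpowers (QuotientGroup.mk' M y)).comap (QuotientGroup.mk' M) :=
          Subgroup.mem_comap.2 (mem_zpowers _)
        rw [← h] at hy
        have h1 : (QuotientGroup.mk' M) y = 1 := (QuotientGroup.eq_one_iff y).2 hy
        rw [h1, orderOf_one] at hx
        omega
    have hz' : Subgroup.zpowers x = ⊤ := by
      apply Subgroup.comap_injective (QuotientGroup.mk'_surjective M)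
      rw [hz, Subgroup.comap_top]
    rw [Subgroup.index_eq_card, ← hx, ← Nat.card_zpowers, hz', Subgroup.card_top]
  have hnt : Nontrivial (Subgroup H) := by
    by_contra h
    rw [not_nontrivial_iff_subsingleton] at h
    exact hnc (by
      have hs : Subsingleton H := by
        refine ⟨fun a b => ?_⟩
        have h1 : (⊤ : Subgroup H) = ⊥ := Subsingleton.elim _ _
        have ha : a ∈ (⊥ : Subgroup H) := h1 ▸ Subgroup.mem_top a
        have hb : b ∈ (⊥ : Subgroup H) := h1 ▸ Subgroup.mem_top b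
        rw [Subgroup.mem_bot] at ha hb
        rw [ha, hb]
      exact isCyclic_of_subsingleton)
  obtain ⟨M₁, hM₁, -⟩ := (eq_top_or_exists_le_coatom (⊥ : Subgroup H)).resolve_left
    (fun h => by
      obtain ⟨a, b, hab⟩ := hnt
      refine hab ?_
      have : ∀ K : Subgroup H, K = ⊥ := fun K => le_bot_iff.1 (le_trans le_top h.ge)
      rw [this a, this b])
  have hx : ∃ x, x ∉ M₁ := by
    by_contra h
    push Not at h
    exact hM₁.1 (top_unique fun x _ => h x)
  obtain ⟨x, hx⟩ := hx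
  obtain ⟨M₂, hM₂, hxM⟩ := (eq_top_or_exists_le_coatom (Subgroup.zpowers x)).resolve_left
    (fun h => hnc ⟨x, fun y => by
      have hy : y ∈ Subgroup.zpowers x := h ▸ Subgroup.mem_top y
      exact hy⟩)
  refine ⟨M₁, M₂, hidx _ hM₁, hidx _ hM₂, ?_⟩
  rintro rfl
  exact hx (hxM (mem_zpowers x))

end Group

section Main

variable {E : Type*} [Field E] {P : Type*} [Group P] {U : Type*} [AddCommGroup U] [Module E U]
  [FiniteDimensional E U]

/-- The dimension formula for a noncyclic 2-group. -/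
theorem finrank_fix_formula (h2 : (2 : E) ≠ 0) (τ : P →* Module.End E U) {H N : Subgroup P} {a b : P}
    (hH : H = N ⊔ zpowers a ⊔ zpowers b) (ha : ∀ n ∈ N, a⁻¹ * n * a ∈ N) (hb : ∀ n ∈ N, b⁻¹ * n * b ∈ N)
    (ha2 : a * a ∈ N) (hb2 : b * b ∈ N) (hab : (b * a)⁻¹ * (a * b) ∈ N) :
    2 * finrank E (fix τ H) + finrank E (fix τ N) =
      finrank E (fix τ (N ⊔ zpowers a)) + finrank E (fix τ (N ⊔ zpowers b)) +
        finrank E (fix τ (N ⊔ zpowers (a * b))) := by
  have hk : ∀ x : P, fix τ (zpowers x) = LinearMap.ker (τ x - 1) := by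
    intro x
    ext u
    rw [mem_fix_zpowers, LinearMap.mem_ker, LinearMap.sub_apply, Module.End.one_apply, sub_eq_zero]
  have hst : ∀ c : P, (∀ n ∈ N, c⁻¹ * n * c ∈ N) → ∀ u ∈ fix τ N, τ c u ∈ fix τ N := by
    intro c hc u hu n hn
    have h1 := hu _ (hc n hn)
    rw [← Module.End.mul_apply, ← map_mul]
    have h3 : n * c = c * (c⁻¹ * n * c) := by group
    rw [h3, map_mul, Module.End.mul_apply, h1]
  have h := finrank_four h2 (τ a) (τ b) (fix τ N) (hst a ha) (hst b hb)
    (fun u hu => by rw [← Module.End.mul_apply, ← map_mul]; exact hu _ ha2)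
    (fun u hu => by rw [← Module.End.mul_apply, ← map_mul]; exact hu _ hb2)
    (fun u hu => by
      rw [← Module.End.mul_apply, ← Module.End.mul_apply, ← map_mul, ← map_mul]
      have h3 : a * b = (b * a) * ((b * a)⁻¹ * (a * b)) := by group
      rw [h3, map_mul, Module.End.mul_apply, hu _ hab])
  rw [← map_mul, ← hk, ← hk, ← hk, ← fix_sup, ← fix_sup, ← fix_sup, ← fix_sup, ← hH] at h
  exact h

variable {U' : Type*} [AddCommGroup U'] [Module E U'] [FiniteDimensional E U']

/-- **Fixed space dimensions of a 2-group are determined by those of the cyclic subgroups.** -/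
theorem finrank_fix_eq [Finite P] (hP : IsPGroup 2 P) (h2 : (2 : E) ≠ 0) (τ : P →* Module.End E U)
    (τ' : P →* Module.End E U')
    (h : ∀ x : P, finrank E (fix τ (zpowers x)) = finrank E (fix τ' (zpowers x))) (H : Subgroup P) :
    finrank E (fix τ H) = finrank E (fix τ' H) := by
  induction hn : Nat.card H using Nat.strong_induction_on generalizing H with
  | _ n ih =>
  subst hn
  by_cases hc : IsCyclic H
  · obtain ⟨⟨x, hx⟩, hg⟩ := hc
    have : H = zpowers x := by
      apply le_antisymm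
      · intro y hy
        obtain ⟨k, hk⟩ := hg ⟨y, hy⟩
        exact ⟨k, congrArg Subtype.val hk⟩
      · rw [zpowers_le]; exact hx
    rw [this]
    exact h x
  · obtain ⟨M₁, M₂, h1, h3, hne⟩ := exists_two_index_two (hP.to_subgroup H) hc
    have hnot12 : ¬ M₁ ≤ M₂ := by
      intro hle
      refine hne (Subgroup.eq_of_le_of_card_ge hle ?_)
      have e1 := M₁.card_mul_index
      have e2 := M₂.card_mul_index
      rw [h1] at e1; rw [h3] at e2
      omega
    have hnot21 : ¬ M₂ ≤ M₁ := by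
      intro hle
      refine hne (Subgroup.eq_of_le_of_card_ge hle ?_).symm
      have e1 := M₁.card_mul_index
      have e2 := M₂.card_mul_index
      rw [h1] at e1; rw [h3] at e2
      omega
    obtain ⟨a, ha1, ha2⟩ := SetLike.not_le_iff_exists.1 hnot12
    obtain ⟨b, hb1, hb2⟩ := SetLike.not_le_iff_exists.1 hnot21
    have hM₁n : M₁.Normal := Subgroup.normal_of_index_eq_two h1
    have hM₂n : M₂.Normal := Subgroup.normal_of_index_eq_two h3
    have hm1 : ∀ x y : H, x * y ∈ M₁ ↔ (x ∈ M₁ ↔ y ∈ M₁) := fun x y =>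
      Subgroup.mul_mem_iff_of_index_two h1
    have hm2 : ∀ x y : H, x * y ∈ M₂ ↔ (x ∈ M₂ ↔ y ∈ M₂) := fun x y =>
      Subgroup.mul_mem_iff_of_index_two h3
    have hi1 : ∀ x : H, x⁻¹ ∈ M₁ ↔ x ∈ M₁ := fun x => inv_mem_iff
    have hi2 : ∀ x : H, x⁻¹ ∈ M₂ ↔ x ∈ M₂ := fun x => inv_mem_iff
    let N₀ : Subgroup H := M₁ ⊓ M₂
    have hN₀n : N₀.Normal := inferInstance
    let N : Subgroup P := N₀.map H.subtype
    -- decomposition
    have hdec : ∀ (c : H) (y : H), (c⁻¹ * y ∈ N₀) → (y : P) ∈ N ⊔ zpowers (c : P) := by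
      intro c y hy
      have e : (y : P) = c * ((c⁻¹ * y : H) : P) := by
        push_cast
        group
      rw [e]
      exact mul_mem ((le_sup_right : _ ≤ N ⊔ zpowers (c : P)) (mem_zpowers _))
        ((le_sup_left : _ ≤ N ⊔ zpowers (c : P)) ⟨_, hy, rfl⟩)
    have hNH : N ≤ H := Subgroup.map_subtype_le _
    have hHeq : H = N ⊔ zpowers (a : P) ⊔ zpowers (b : P) := by
      apply le_antisymm
      · intro y hy
        by_cases hy1 : (⟨y, hy⟩ : H) ∈ M₁
        · by_cases hy2 : (⟨y, hy⟩ : H) ∈ M₂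
          · exact (le_sup_left : _ ≤ _ ⊔ zpowers (b : P)) ((le_sup_left : N ≤ _) ⟨_, ⟨hy1, hy2⟩, rfl⟩)
          · refine (le_sup_left : _ ≤ _ ⊔ zpowers (b : P)) (hdec a ⟨y, hy⟩ ⟨?_, ?_⟩)
            · exact (hm1 _ _).2 (by rw [hi1]; exact ⟨fun _ => hy1, fun _ => ha1⟩)
            · exact (hm2 _ _).2 (by rw [hi2]; exact ⟨fun h => absurd h ha2, fun h => absurd h hy2⟩)
        · by_cases hy2 : (⟨y, hy⟩ : H) ∈ M₂
          · have h4 := hdec b ⟨y, hy⟩ ⟨(hm1 _ _).2 (by
              rw [hi1]; exact ⟨fun h => absurd h hb2, fun h => absurd h hy1⟩), (hm2 _ _).2 (by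
              rw [hi2]; exact ⟨fun _ => hy2, fun _ => hb1⟩)⟩
            exact (sup_le_sup_right (le_sup_left : N ≤ N ⊔ zpowers (a : P)) _) h4
          · have hab1 : a * b ∉ M₁ := fun h => hb2 (((hm1 _ _).1 h).1 ha1)
            have hab2 : a * b ∉ M₂ := fun h => ha2 (((hm2 _ _).1 h).2 hb1)
            have h4 := hdec (a * b) ⟨y, hy⟩ ⟨(hm1 _ _).2 (by
              rw [hi1]; exact ⟨fun h => absurd h hab1, fun h => absurd h hy1⟩), (hm2 _ _).2 (by
              rw [hi2]; exact ⟨fun h => absurd h hab2, fun h => absurd h hy2⟩)⟩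
            refine (sup_le ?_ ?_ : N ⊔ zpowers ((a * b : H) : P) ≤ _) h4
            · exact le_sup_left.trans le_sup_left
            · rw [zpowers_le]
              push_cast
              exact mul_mem ((le_sup_left : _ ≤ _ ⊔ zpowers (b : P))
                ((le_sup_right : _ ≤ N ⊔ zpowers (a : P)) (mem_zpowers _)))
                ((le_sup_right : _ ≤ _ ⊔ zpowers (b : P)) (mem_zpowers _))
      · refine sup_le (sup_le hNH ?_) ?_
        · rw [zpowers_le]; exact a.2
        · rw [zpowers_le]; exact b.2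
    have hconj : ∀ c : H, ∀ n ∈ N, (c : P)⁻¹ * n * (c : P) ∈ N := by
      rintro c _ ⟨n, hn, rfl⟩
      refine ⟨c⁻¹ * n * c, ?_, by simp⟩
      have := hN₀n.conj_mem n hn c⁻¹
      simpa using this
    have hf1 := finrank_fix_formula h2 τ (a := (a : P)) (b := (b : P)) hHeq (hconj a) (hconj b)
      ⟨a * a, ⟨(hm1 _ _).2 Iff.rfl, (hm2 _ _).2 Iff.rfl⟩, by simp⟩
      ⟨b * b, ⟨(hm1 _ _).2 Iff.rfl, (hm2 _ _).2 Iff.rfl⟩, by simp⟩
      ⟨(b * a)⁻¹ * (a * b), ⟨(hm1 _ _).2 (by rw [hi1, hm1, hm1]; tauto),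
        (hm2 _ _).2 (by rw [hi2, hm2, hm2]; tauto)⟩, by simp⟩
    have hf2 := finrank_fix_formula h2 τ' (a := (a : P)) (b := (b : P)) hHeq (hconj a) (hconj b)
      ⟨a * a, ⟨(hm1 _ _).2 Iff.rfl, (hm2 _ _).2 Iff.rfl⟩, by simp⟩
      ⟨b * b, ⟨(hm1 _ _).2 Iff.rfl, (hm2 _ _).2 Iff.rfl⟩, by simp⟩
      ⟨(b * a)⁻¹ * (a * b), ⟨(hm1 _ _).2 (by rw [hi1, hm1, hm1]; tauto),
        (hm2 _ _).2 (by rw [hi2, hm2, hm2]; tauto)⟩, by simp⟩
    -- the four smaller subgroups
    have hlt : ∀ K : Subgroup P, ∀ M : Subgroup H, M ≠ ⊤ → K ≤ M.map H.subtype →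
        finrank E (fix τ K) = finrank E (fix τ' K) := by
      intro K M hM hKM
      refine ih (Nat.card K) ?_ K rfl
      have hKH : K ≤ H := hKM.trans (Subgroup.map_subtype_le _)
      refine lt_of_le_of_ne (Subgroup.card_le_of_le hKH) (fun heq => hM ?_)
      have hKe : K = H := Subgroup.eq_of_le_of_card_ge hKH heq.ge
      refine top_unique fun x _ => ?_
      have hx : (x : P) ∈ K := by rw [hKe]; exact x.2
      obtain ⟨y, hy, hxy⟩ := hKM hx
      have : y = x := Subtype.ext hxy
      rw [← this]; exact hy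
    have hM1t : M₁ ≠ ⊤ := fun h => by rw [h, Subgroup.index_top] at h1; omega
    have hM2t : M₂ ≠ ⊤ := fun h => by rw [h, Subgroup.index_top] at h3; omega
    have g0 := hlt N M₁ hM1t (Subgroup.map_mono inf_le_left)
    have g1 := hlt (N ⊔ zpowers (a : P)) M₁ hM1t (sup_le (Subgroup.map_mono inf_le_left) (by
      rw [zpowers_le]; exact ⟨a, ha1, rfl⟩))
    have g2 := hlt (N ⊔ zpowers (b : P)) M₂ hM2t (sup_le (Subgroup.map_mono inf_le_right) (by
      rw [zpowers_le]; exact ⟨b, hb1, rfl⟩))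
    let M₃ : Subgroup H :=
      { carrier := {x | x ∈ M₁ ↔ x ∈ M₂}
        mul_mem' := by
          intro x y hx hy
          show x * y ∈ M₁ ↔ x * y ∈ M₂
          have hx' : x ∈ M₁ ↔ x ∈ M₂ := hx
          have hy' : y ∈ M₁ ↔ y ∈ M₂ := hy
          rw [hm1, hm2, hx', hy']
        one_mem' := ⟨fun _ => one_mem _, fun _ => one_mem _⟩
        inv_mem' := by
          intro x hx
          show x⁻¹ ∈ M₁ ↔ x⁻¹ ∈ M₂
          rw [hi1, hi2]; exact hx }
    have g3 := hlt (N ⊔ zpowers ((a : P) * (b : P))) M₃ (fun h => by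
        have : a ∈ M₃ := h ▸ Subgroup.mem_top a
        exact ha2 (this.1 ha1)) (sup_le (Subgroup.map_mono fun x hx => ⟨fun _ => hx.2, fun _ => hx.1⟩) (by
      rw [zpowers_le]
      refine ⟨a * b, ?_, by simp⟩
      have hab1 : a * b ∉ M₁ := fun h => hb2 (((hm1 _ _).1 h).1 ha1)
      have hab2 : a * b ∉ M₂ := fun h => ha2 (((hm2 _ _).1 h).2 hb1)
      exact ⟨fun h => absurd h hab1, fun h => absurd h hab2⟩))
    omega

end Main

end Cfsg.Agent.H751
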