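import Mathlib

/-!
# Symmetric units of matrix algebras are of the form `y* y` (helper751)
-/

set_option autoImplicit false
set_option linter.unusedSectionVars false

namespace Cfsg.Agent.H751

open Polynomial

/-- In a finite field of odd order `u ^ 2 - d v ^ 2` represents everything (`d ≠ 0`). -/
theorem exists_sq_sub_field {K : Type*} [Field K] [Finite K] (h2 : (2 : K) ≠ 0) {d : K} (hd : d ≠ 0) (c : K) :
    ∃ u v : K, u ^ 2 - d * v ^ 2 = c := by
  have : Fintype K := Fintype.ofFinite K
  have hK : Fintype.card K % 2 = 1 := by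
    have h1 := FiniteField.odd_card_of_char_ne_two (F := K) (fun h => h2 (by
      have := ringChar.spec K 2
      rw [h] at this
      exact_mod_cast (this.2 (dvd_refl 2))))
    exact h1
  obtain ⟨a, b, hab⟩ := FiniteField.exists_root_sum_quadratic (R := K) (f := X ^ 2 - C c) (g := C (-d) * X ^ 2)
    (degree_X_pow_sub_C (by norm_num) c) (by
      rw [degree_C_mul_X_pow 2 (neg_ne_zero.2 hd)]; rfl) hK
  refine ⟨a, b, ?_⟩
  simp only [eval_sub, eval_pow, eval_X, eval_C, eval_mul] at hab
  linear_combination hab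

/-- The same for finite reduced commutative rings. -/
theorem exists_sq_sub {R : Type*} [CommRing R] [Finite R] [IsReduced R] (h2 : IsUnit (2 : R)) {d : R}
    (hd : IsUnit d) (c : R) : ∃ u v : R, u ^ 2 - d * v ^ 2 = c := by
  have hx : ∀ m : MaximalSpectrum R, ∃ u v : R ⧸ m.asIdeal,
      u ^ 2 - (Ideal.Quotient.mk m.asIdeal d) * v ^ 2 = Ideal.Quotient.mk m.asIdeal c := by
    intro m
    have hm := m.isMaximal
    let _ : Field (R ⧸ m.asIdeal) := Ideal.Quotient.field m.asIdeal
    have hf : Finite (R ⧸ m.asIdeal) := Quotient.finite _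
    refine exists_sq_sub_field ?_ ?_ _
    · have := h2.map (Ideal.Quotient.mk m.asIdeal)
      rw [map_ofNat] at this
      exact this.ne_zero
    · exact (hd.map (Ideal.Quotient.mk m.asIdeal)).ne_zero
  choose u v huv using hx
  have := isArtinian_of_finite (R := R) (M := R)
  have hA : IsArtinianRing R := inferInstance
  let e := IsArtinianRing.equivPi R
  refine ⟨e.symm u, e.symm v, ?_⟩
  apply e.injective
  rw [map_sub, map_mul, map_pow, map_pow, AlgEquiv.apply_symm_apply, AlgEquiv.apply_symm_apply]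
  ext m
  exact huv m

section Adj

variable {n : Type*} [Fintype n] [DecidableEq n] {F : Type*} [Field F] (σ : F →+* F)

/-- The adjoint matrix `(A^σ)ᵀ`. -/
def adj (A : Matrix n n F) : Matrix n n F := (A.map σ).transpose

theorem adj_apply (A : Matrix n n F) (i j : n) : adj σ A i j = σ (A j i) := rfl

theorem adj_mul (A B : Matrix n n F) : adj σ (A * B) = adj σ B * adj σ A := by
  unfold adj
  rw [Matrix.map_mul, Matrix.transpose_mul]

theorem adj_add (A B : Matrix n n F) : adj σ (A + B) = adj σ A + adj σ B := by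
  ext i j; simp [adj]

theorem adj_neg (A : Matrix n n F) : adj σ (-A) = -adj σ A := by
  ext i j; simp [adj]

theorem adj_sub (A B : Matrix n n F) : adj σ (A - B) = adj σ A - adj σ B := by
  ext i j; simp [adj]

theorem adj_zero : adj σ (0 : Matrix n n F) = 0 := by
  ext i j; simp [adj]

theorem adj_one : adj σ (1 : Matrix n n F) = 1 := by
  unfold adj
  rw [Matrix.map_one _ (map_zero σ) (map_one σ), Matrix.transpose_one]

theorem adj_smul (a : F) (A : Matrix n n F) : adj σ (a • A) = σ a • adj σ A := by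
  ext i j; simp [adj]

theorem adj_adj (hσ : ∀ x, σ (σ x) = x) (A : Matrix n n F) : adj σ (adj σ A) = A := by
  ext i j
  rw [adj_apply, adj_apply, hσ]

theorem adj_pow (A : Matrix n n F) (k : ℕ) : adj σ (A ^ k) = adj σ A ^ k := by
  induction k with
  | zero => rw [pow_zero, pow_zero, adj_one]
  | succ k ih => rw [pow_succ, adj_mul, ih, ← pow_succ']

theorem adj_scalar (a : F) : adj σ (Matrix.scalar n a) = Matrix.scalar n (σ a) := by
  ext i j
  rw [adj_apply, Matrix.scalar_apply, Matrix.scalar_apply, Matrix.diagonal_apply, Matrix.diagonal_apply]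
  by_cases h : i = j
  · rw [if_pos h, if_pos h.symm]
  · rw [if_neg h, if_neg (fun h' => h h'.symm), map_zero]

/-- A symmetric matrix of 2-power order is `y* y` for some `y` that commutes with everything it commutes with. -/
theorem exists_adj_mul_two [Finite F] (h2 : (2 : F) ≠ 0) (hne : ∃ a, σ a ≠ a) (hσ : ∀ x, σ (σ x) = x)
    {c : Matrix n n F} {k : ℕ} (hc : c ^ 2 ^ k = 1) (hadj : adj σ c = c) :
    ∃ y : Matrix n n F, adj σ y * y = c ∧ ∀ x, Commute x c → Commute x y := by
  obtain ⟨a, ha⟩ := hne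
  let δ : F := a - σ a
  have hδ : δ ≠ 0 := sub_ne_zero.2 (fun h => ha h.symm)
  have hσδ : σ δ = -δ := by
    show σ (a - σ a) = -(a - σ a)
    rw [map_sub, hσ]
    ring
  let D : Matrix n n F := Matrix.scalar n (δ ^ 2)
  have hD : adj σ D = D := by
    rw [adj_scalar, map_pow, hσδ, neg_sq]
  have hDc : ∀ x, Commute D x := fun x => Matrix.scalar_commute _ (fun r => Commute.all _ _) x
  let s : Set (Matrix n n F) := {c, D}
  have hcomm : ∀ x ∈ s, ∀ y ∈ s, x * y = y * x := by
    rintro x (rfl | rfl) y (rfl | rfl)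
    · rfl
    · exact (hDc _).symm.eq
    · exact (hDc _).eq
    · rfl
  have hmc := Subring.isMulCommutative_closure hcomm
  let _ : CommRing (Subring.closure s) :=
    { (inferInstance : Ring (Subring.closure s)) with mul_comm := fun a b => hmc.is_comm.comm a b }
  have hcs : c ∈ Subring.closure s := Subring.subset_closure (Set.mem_insert _ _)
  have hDs : D ∈ Subring.closure s := Subring.subset_closure (Set.mem_insert_of_mem _ rfl)
  have hfin : Finite (Matrix n n F) := inferInstance
  -- elements of the ring are symmetric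
  have hsym : ∀ x ∈ Subring.closure s, adj σ x = x := by
    intro x hx
    induction hx using Subring.closure_induction with
    | mem x hx =>
      rcases hx with rfl | rfl
      · exact hadj
      · exact hD
    | zero => exact adj_zero σ
    | one => exact adj_one σ
    | add x y hx hy ihx ihy => rw [adj_add, ihx, ihy]
    | neg x hx ihx => rw [adj_neg, ihx]
    | mul x y hx hy ihx ihy =>
      rw [adj_mul, ihx, ihy]
      have := mul_comm (⟨x, hx⟩ : Subring.closure s) ⟨y, hy⟩
      exact (congrArg Subtype.val this).symm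
  -- they commute with everything that commutes with `c`
  have hcom : ∀ z, Commute z c → ∀ x ∈ Subring.closure s, Commute z x := by
    intro z hz x hx
    induction hx using Subring.closure_induction with
    | mem x hx =>
      rcases hx with rfl | rfl
      · exact hz
      · exact (hDc z).symm
    | zero => exact Commute.zero_right _
    | one => exact Commute.one_right _
    | add x y hx hy ihx ihy => exact ihx.add_right ihy
    | neg x hx ihx => exact ihx.neg_right
    | mul x y hx hy ihx ihy => exact ihx.mul_right ihy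
  -- the ring is reduced
  obtain ⟨p, hp⟩ := CharP.exists F
  have hpp : p.Prime := (CharP.char_is_prime_or_zero F p).resolve_right (fun h => by
    subst h
    have := CharP.charP_to_charZero F
    exact not_finite F)
  have hpf : Fact p.Prime := ⟨hpp⟩
  have hodd : Odd (Nat.card F) := by
    have : Fintype F := Fintype.ofFinite F
    rw [Nat.card_eq_fintype_card, Nat.odd_iff]
    exact FiniteField.odd_card_of_char_ne_two (F := F) (fun h => h2 (by
      have := ringChar.spec F 2
      rw [h] at this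
      exact_mod_cast (this.2 (dvd_refl 2))))
  rcases isEmpty_or_nonempty n with hn | hn
  · exact ⟨1, Subsingleton.elim _ _, fun x _ => Commute.one_right x⟩
  let Q : ℕ := Nat.card F ^ 2 ^ k
  have hQodd : Odd Q := hodd.pow
  obtain ⟨j, hj⟩ : ∃ j, Q = p ^ j := by
    have : Fintype F := Fintype.ofFinite F
    obtain ⟨j, hjp, hj⟩ := FiniteField.card F p
    refine ⟨j * 2 ^ k, ?_⟩
    show Nat.card F ^ 2 ^ k = _
    rw [Nat.card_eq_fintype_card, hj, ← pow_mul]
  have hQ1 : Q ≡ 1 [MOD 2 ^ k] := by
    have h1 : (Nat.card F).Coprime (2 ^ k) := Nat.Coprime.pow_right k (Nat.coprime_two_right.2 hodd)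
    have h3 : Nat.totient (2 ^ k) ∣ 2 ^ k := by
      rcases Nat.eq_zero_or_pos k with rfl | hk
      · simp
      · rw [Nat.totient_prime_pow Nat.prime_two hk]
        exact ⟨2, by
          rw [show (2 - 1 : ℕ) = 1 from rfl, mul_one, ← pow_succ]
          congr 1; omega⟩
    obtain ⟨t, ht⟩ := h3
    have h4 := (Nat.ModEq.pow_totient h1).pow t
    rw [one_pow, ← pow_mul, ← ht] at h4
    exact h4
  have hcQ : c ^ Q = c := by
    have h1 : 1 ≤ Q := hQodd.pos
    obtain ⟨t, ht⟩ := (Nat.modEq_iff_dvd' h1).1 hQ1.symm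
    have h5 : Q = 2 ^ k * t + 1 := by omega
    rw [h5, pow_succ, pow_mul, hc, one_pow, one_mul]
  have hDQ : D ^ Q = D := by
    have : Fintype F := Fintype.ofFinite F
    show (Matrix.scalar n (δ ^ 2)) ^ Q = _
    rw [← map_pow]
    congr 1
    show (δ ^ 2) ^ (Nat.card F ^ 2 ^ k) = δ ^ 2
    rw [Nat.card_eq_fintype_card]
    exact FiniteField.pow_card_pow _ _
  have hxQ : ∀ x ∈ Subring.closure s, x ^ Q = x := by
    intro x hx
    induction hx using Subring.closure_induction with
    | mem x hx =>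
      rcases hx with rfl | rfl
      · exact hcQ
      · exact hDQ
    | zero => exact zero_pow hQodd.pos.ne'
    | one => exact one_pow _
    | add x y hx hy ihx ihy =>
      have hxy : Commute x y := congrArg Subtype.val (mul_comm (⟨x, hx⟩ : Subring.closure s) ⟨y, hy⟩)
      rw [hj, add_pow_char_pow_of_commute p j hxy, ← hj, ihx, ihy]
    | neg x hx ihx => rw [hQodd.neg_pow, ihx]
    | mul x y hx hy ihx ihy =>
      have hxy : Commute x y := congrArg Subtype.val (mul_comm (⟨x, hx⟩ : Subring.closure s) ⟨y, hy⟩)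
      rw [hxy.mul_pow, ihx, ihy]
  have hQ2 : 2 ≤ Q := by
    rcases Nat.lt_or_ge Q 2 with h | h
    · exfalso
      have h1 : Q = 1 := by have := hQodd.pos; omega
      have h3 : Nat.card F = 1 := by
        have := (Nat.pow_eq_one.1 h1)
        rcases this with h | h
        · exact h
        · exact absurd h (by positivity)
      have : 1 < Nat.card F := Finite.one_lt_card
      omega
    · exact h
  have hred : IsReduced (Subring.closure s) := by
    refine ⟨fun x hx => ?_⟩
    obtain ⟨m, hm⟩ := hx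
    have h1 : ∀ i, x ^ Q ^ i = x := by
      intro i
      induction i with
      | zero => rw [pow_zero, pow_one]
      | succ i ih =>
        rw [pow_succ, pow_mul, ih]
        exact Subtype.ext (hxQ _ x.2)
    have h3 : m ≤ Q ^ m := (Nat.lt_pow_self (by omega)).le
    rw [← h1 m, ← Nat.sub_add_cancel h3, pow_add, hm, mul_zero]
  have h2R : IsUnit (2 : Subring.closure s) := by
    have hp2 : p ≠ 2 := by
      rintro rfl
      exact h2 (CharP.cast_eq_zero F 2)
    have hpo : Odd p := hpp.odd_of_ne_two hp2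
    obtain ⟨t, ht⟩ := hpo
    refine IsUnit.of_mul_eq_one ((t + 1 : ℕ) : Subring.closure s) ?_
    have h5 : ((p : ℕ) : Subring.closure s) = 0 := CharP.cast_eq_zero _ p
    rw [ht] at h5
    push_cast at h5 ⊢
    linear_combination h5
  have hDu : IsUnit (⟨D, hDs⟩ : Subring.closure s) := by
    refine IsUnit.of_mul_eq_one (⟨D, hDs⟩ ^ (Q - 2)) ?_
    rw [← pow_succ']
    apply Subtype.ext
    show D ^ (Q - 2 + 1) = 1
    have h6 : D * D ^ (Q - 2 + 1) = D * 1 := by
      rw [← pow_succ', mul_one]
      have : Q - 2 + 1 + 1 = Q := by omega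
      rw [this, hDQ]
    have h7 : IsUnit D := (IsUnit.mk0 (δ ^ 2) (pow_ne_zero _ hδ)).map (Matrix.scalar n)
    exact h7.mul_left_cancel h6
  obtain ⟨u, v, huv⟩ := exists_sq_sub h2R hDu ⟨c, hcs⟩
  have huv' : (u : Matrix n n F) ^ 2 - D * (v : Matrix n n F) ^ 2 = c := congrArg Subtype.val huv
  have huvc : Commute (u : Matrix n n F) v := congrArg Subtype.val (mul_comm u v)
  refine ⟨u + δ • (v : Matrix n n F), ?_, fun x hx => ?_⟩
  · rw [adj_add, adj_smul, hsym _ u.2, hsym _ v.2, hσδ, ← huv']
    have h8 : D = δ ^ 2 • (1 : Matrix n n F) := by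
      ext i j
      simp [D, Matrix.diagonal_apply, Matrix.one_apply]
    rw [h8, smul_mul_assoc, one_mul, mul_add, add_mul, add_mul, neg_smul, neg_mul, neg_mul,
      mul_smul_comm, smul_mul_assoc, smul_mul_assoc, mul_smul_comm, smul_smul, huvc.eq, sq, sq, sq]
    abel
  · exact (hcom x hx u u.2).add_right ((hcom x hx v v.2).smul_right δ)

/-- A symmetric invertible matrix is `y* y` for some `y` that commutes with everything it commutes with. -/
theorem exists_adj_mul [Finite F] (h2 : (2 : F) ≠ 0) (hne : ∃ a, σ a ≠ a) (hσ : ∀ x, σ (σ x) = x)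
    {c : Matrix n n F} (hc : IsUnit c) (hadj : adj σ c = c) :
    ∃ y : Matrix n n F, adj σ y * y = c ∧ ∀ x, Commute x c → Commute x y := by
  obtain ⟨w, rfl⟩ := hc
  have hfin : Finite (Matrix n n F) := inferInstance
  have hfin' : Finite (Matrix n n F)ˣ := inferInstance
  have ho : orderOf w ≠ 0 := (orderOf_pos w).ne'
  obtain ⟨k, m, hm, hkm⟩ := Nat.exists_eq_two_pow_mul_odd ho
  have hc2 : ((w : Matrix n n F) ^ m) ^ 2 ^ k = 1 := by
    rw [← pow_mul, mul_comm m, ← hkm, ← Units.val_pow_eq_pow_val, pow_orderOf_eq_one, Units.val_one]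
  have hadj2 : adj σ ((w : Matrix n n F) ^ m) = (w : Matrix n n F) ^ m := by rw [adj_pow, hadj]
  obtain ⟨y, hy, hyc⟩ := exists_adj_mul_two σ h2 hne hσ hc2 hadj2
  obtain ⟨t, ht⟩ := hm
  have hinv : adj σ ((w⁻¹ : (Matrix n n F)ˣ) : Matrix n n F) = ((w⁻¹ : (Matrix n n F)ˣ) : Matrix n n F) := by
    have h1 : adj σ ((w⁻¹ : (Matrix n n F)ˣ) : Matrix n n F) * (w : Matrix n n F) = 1 :=
      calc adj σ ((w⁻¹ : (Matrix n n F)ˣ) : Matrix n n F) * (w : Matrix n n F)
          = adj σ ((w⁻¹ : (Matrix n n F)ˣ) : Matrix n n F) * adj σ (w : Matrix n n F) := by rw [hadj]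
        _ = 1 := by rw [← adj_mul, Units.mul_inv, adj_one]
    exact (Units.inv_eq_of_mul_eq_one_left h1).symm
  refine ⟨(((w⁻¹ : (Matrix n n F)ˣ) : Matrix n n F)) ^ t * y, ?_, fun x hx => ?_⟩
  · rw [adj_mul, adj_pow, hinv]
    have h3 : Commute (((w⁻¹ : (Matrix n n F)ˣ) : Matrix n n F)) y := by
      apply hyc
      apply Commute.pow_right
      exact (Units.inv_mul w).trans (Units.mul_inv w).symm
    have h4 := h3.pow_left t
    have h5 : adj σ y * (((w⁻¹ : (Matrix n n F)ˣ) : Matrix n n F)) ^ t *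
        ((((w⁻¹ : (Matrix n n F)ˣ) : Matrix n n F)) ^ t * y) =
        (adj σ y * y) * (((w⁻¹ : (Matrix n n F)ˣ) : Matrix n n F) ^ t * ((w⁻¹ : (Matrix n n F)ˣ) : Matrix n n F) ^ t) := by
      rw [h4.eq, ← mul_assoc (adj σ y * _), mul_assoc (adj σ y), h4.eq, mul_assoc, mul_assoc, mul_assoc]
    rw [h5, hy, ← pow_add, ← Units.val_pow_eq_pow_val, ← Units.val_pow_eq_pow_val, ← Units.val_mul]
    congr 1
    rw [ht, ← two_mul, inv_pow, mul_inv_eq_iff_eq_mul, pow_succ']
  · refine Commute.mul_right (Commute.pow_right ?_ t) (hyc x (hx.pow_right m))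
    exact hx.units_inv_right

/-- Two homomorphisms into the unitary group that are conjugate in `GL_n` are conjugate in the unitary group. -/
theorem exists_unitary_of_conj [Finite F] (h2 : (2 : F) ≠ 0) (hne : ∃ a, σ a ≠ a) (hσ : ∀ x, σ (σ x) = x)
    {P : Type*} [Group P] (τ τ' : P →* Matrix.GeneralLinearGroup n F)
    (hτ : ∀ x, adj σ (τ x : Matrix n n F) * (τ x : Matrix n n F) = 1)
    (hτ' : ∀ x, adj σ (τ' x : Matrix n n F) * (τ' x : Matrix n n F) = 1)
    (g : Matrix.GeneralLinearGroup n F) (hg : ∀ x, τ' x = g * τ x * g⁻¹) :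
    ∃ u : Matrix.GeneralLinearGroup n F, adj σ (u : Matrix n n F) * (u : Matrix n n F) = 1 ∧
      ∀ x, τ' x = u * τ x * u⁻¹ := by
  have hgx : ∀ x, (g : Matrix n n F) * (τ x : Matrix n n F) = (τ' x : Matrix n n F) * (g : Matrix n n F) := by
    intro x
    have h1 : g * τ x = τ' x * g := by rw [hg x]; group
    exact congrArg Units.val h1
  have hcu : IsUnit (adj σ (g : Matrix n n F) * (g : Matrix n n F)) := by
    refine IsUnit.mul ?_ g.isUnit
    refine IsUnit.of_mul_eq_one (adj σ ((g⁻¹ : Matrix.GeneralLinearGroup n F) : Matrix n n F)) ?_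
    rw [← adj_mul, Units.inv_mul, adj_one]
  have hca : adj σ (adj σ (g : Matrix n n F) * (g : Matrix n n F)) = adj σ (g : Matrix n n F) * (g : Matrix n n F) := by
    rw [adj_mul, adj_adj σ hσ]
  obtain ⟨y, hy, hyc⟩ := exists_adj_mul σ h2 hne hσ hcu hca
  have hcx : ∀ x, Commute (τ x : Matrix n n F) (adj σ (g : Matrix n n F) * (g : Matrix n n F)) := by
    intro x
    have h1 : adj σ (τ x : Matrix n n F) * (adj σ (g : Matrix n n F) * (g : Matrix n n F)) * (τ x : Matrix n n F) =
        adj σ (g : Matrix n n F) * (g : Matrix n n F) := by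
      calc adj σ (τ x : Matrix n n F) * (adj σ (g : Matrix n n F) * (g : Matrix n n F)) * (τ x : Matrix n n F)
          = adj σ ((g : Matrix n n F) * (τ x : Matrix n n F)) * ((g : Matrix n n F) * (τ x : Matrix n n F)) := by
            rw [adj_mul]; simp only [mul_assoc]
        _ = adj σ (g : Matrix n n F) * (adj σ (τ' x : Matrix n n F) * (τ' x : Matrix n n F)) * (g : Matrix n n F) := by
            rw [hgx, adj_mul]; simp only [mul_assoc]
        _ = _ := by rw [hτ', mul_one]
    have h2 : (τ x : Matrix n n F) * adj σ (τ x : Matrix n n F) = 1 := mul_eq_one_comm.1 (hτ x)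
    calc (τ x : Matrix n n F) * (adj σ (g : Matrix n n F) * (g : Matrix n n F))
        = (τ x : Matrix n n F) * (adj σ (τ x : Matrix n n F) * (adj σ (g : Matrix n n F) * (g : Matrix n n F)) * (τ x : Matrix n n F)) := by
          rw [h1]
      _ = ((τ x : Matrix n n F) * adj σ (τ x : Matrix n n F)) * (adj σ (g : Matrix n n F) * (g : Matrix n n F)) * (τ x : Matrix n n F) := by
          simp only [mul_assoc]
      _ = _ := by rw [h2, one_mul]
  have hyu : IsUnit y := by
    have h1 : IsUnit (adj σ y * y) := by rw [hy]; exact hcu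
    exact isUnit_of_mul_isUnit_right h1
  obtain ⟨w, rfl⟩ := hyu
  refine ⟨g * w⁻¹, ?_, fun x => ?_⟩
  · show adj σ ((g : Matrix n n F) * ((w⁻¹ : (Matrix n n F)ˣ) : Matrix n n F)) *
      ((g : Matrix n n F) * ((w⁻¹ : (Matrix n n F)ˣ) : Matrix n n F)) = 1
    rw [adj_mul]
    calc adj σ ((w⁻¹ : (Matrix n n F)ˣ) : Matrix n n F) * adj σ (g : Matrix n n F) * ((g : Matrix n n F) * ((w⁻¹ : (Matrix n n F)ˣ) : Matrix n n F))
        = adj σ ((w⁻¹ : (Matrix n n F)ˣ) : Matrix n n F) * (adj σ (g : Matrix n n F) * (g : Matrix n n F)) * ((w⁻¹ : (Matrix n n F)ˣ) : Matrix n n F) := by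
          simp only [mul_assoc]
      _ = (adj σ ((w⁻¹ : (Matrix n n F)ˣ) : Matrix n n F) * adj σ (w : Matrix n n F)) * ((w : Matrix n n F) * ((w⁻¹ : (Matrix n n F)ˣ) : Matrix n n F)) := by
          rw [← hy]; simp only [mul_assoc]
      _ = 1 := by rw [← adj_mul, Units.mul_inv, adj_one, one_mul]
  · have h1 : w * τ x = τ x * w := Units.ext ((hyc _ (hcx x)).symm.eq)
    have h2 : w⁻¹ * τ x * w = τ x := by rw [mul_assoc, ← h1]; group
    rw [hg x]
    nth_rewrite 1 [← h2]
    group

end Adj

end Cfsg.Agent.H751
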