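import Cfsg.Agent.H751.FixDim

/-!
# Semisimple modules with the same dimensions of `Hom` spaces are isomorphic (helper751)
-/

set_option autoImplicit false

namespace Cfsg.Agent.H751

open Module

universe u

section Iso

variable {E : Type*} [Field E] {R : Type*} [Ring R] [Algebra E R]

/-- Precomposition / postcomposition equivalence on `Hom` spaces. -/
noncomputable def homCongr {X A B : Type*} [AddCommGroup X] [Module R X] [AddCommGroup A] [Module E A]
    [Module R A] [IsScalarTower E R A] [AddCommGroup B] [Module E B] [Module R B] [IsScalarTower E R B]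
    (e : A ≃ₗ[R] B) : (X →ₗ[R] A) ≃ₗ[E] (X →ₗ[R] B) where
  toFun f := e.toLinearMap ∘ₗ f
  invFun f := e.symm.toLinearMap ∘ₗ f
  map_add' f g := by ext x; simp
  map_smul' c f := by
    ext x
    show e (c • f x) = c • e (f x)
    rw [← algebraMap_smul R c (f x), map_smul, algebraMap_smul]
  left_inv f := by ext x; simp
  right_inv f := by ext x; simp

noncomputable def homProd {X A B : Type*} [AddCommGroup X] [Module R X] [AddCommGroup A] [Module E A]
    [Module R A] [IsScalarTower E R A] [AddCommGroup B] [Module E B] [Module R B] [IsScalarTower E R B] :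
    (X →ₗ[R] A × B) ≃ₗ[E] (X →ₗ[R] A) × (X →ₗ[R] B) where
  toFun f := (LinearMap.fst R A B ∘ₗ f, LinearMap.snd R A B ∘ₗ f)
  invFun f := f.1.prod f.2
  map_add' f g := by ext x <;> simp
  map_smul' c f := by ext x <;> simp
  left_inv f := by ext x <;> simp
  right_inv f := by ext x <;> simp

/-- `Hom_R(X, A)` is finite-dimensional. -/
theorem finite_hom (X A : Type*) [AddCommGroup X] [Module E X] [Module R X] [IsScalarTower E R X]
    [AddCommGroup A] [Module E A] [Module R A] [IsScalarTower E R A] [FiniteDimensional E X]
    [FiniteDimensional E A] : FiniteDimensional E (X →ₗ[R] A) := by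
  let f : (X →ₗ[R] A) →ₗ[E] (X →ₗ[E] A) :=
    { toFun := fun g => g.restrictScalars E
      map_add' := fun _ _ => rfl
      map_smul' := fun _ _ => rfl }
  exact FiniteDimensional.of_injective f (fun a b h => by
    ext x
    exact congrArg (fun g : X →ₗ[E] A => g x) h)

theorem finrank_hom_prod {X A B : Type*} [AddCommGroup X] [Module E X] [Module R X] [IsScalarTower E R X]
    [AddCommGroup A] [Module E A]
    [Module R A] [IsScalarTower E R A] [AddCommGroup B] [Module E B] [Module R B] [IsScalarTower E R B]
    [FiniteDimensional E X] [FiniteDimensional E A] [FiniteDimensional E B] :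
    finrank E (X →ₗ[R] A × B) = finrank E (X →ₗ[R] A) + finrank E (X →ₗ[R] B) := by
  have := finite_hom (E := E) (R := R) X A
  have := finite_hom (E := E) (R := R) X B
  rw [(homProd (E := E)).finrank_eq, Module.finrank_prod]

theorem finite_submodule {V : Type*} [AddCommGroup V] [Module E V] [Module R V] [IsScalarTower E R V]
    [FiniteDimensional E V] (S : Submodule R V) : FiniteDimensional E S :=
  inferInstanceAs (FiniteDimensional E (S.restrictScalars E))

/-- Two finite-dimensional semisimple modules with `Hom` spaces of the same dimensions are isomorphic. -/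
theorem nonempty_equiv_of_finrank_hom_simple (n : ℕ) : ∀ (V W : Type u) [AddCommGroup V] [Module E V]
    [Module R V] [IsScalarTower E R V] [AddCommGroup W] [Module E W] [Module R W] [IsScalarTower E R W]
    [FiniteDimensional E V] [FiniteDimensional E W] [IsSemisimpleModule R V] [IsSemisimpleModule R W],
    finrank E V = n →
    (∀ (X : Type u) [AddCommGroup X] [Module E X] [Module R X] [IsScalarTower E R X]
      [FiniteDimensional E X] [IsSimpleModule R X], finrank E (X →ₗ[R] V) = finrank E (X →ₗ[R] W)) →
    Nonempty (V ≃ₗ[R] W) := by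
  induction n using Nat.strong_induction_on with
  | _ n ih =>
  intro V W _ _ _ _ _ _ _ _ _ _ _ _ hn hX
  by_cases hV : Subsingleton V
  · -- then `W` is zero
    have h4 : Subsingleton W := by
      by_contra hW
      rw [not_subsingleton_iff_nontrivial] at hW
      obtain ⟨S, hS⟩ := IsSemisimpleModule.exists_simple_submodule R W
      have hfS := finite_submodule (E := E) S
      have hSn : Nontrivial S := IsSimpleModule.nontrivial R S
      have h1 := hX S
      have h2 : finrank E (S →ₗ[R] V) = 0 := by
        have : Subsingleton (S →ₗ[R] V) := ⟨fun a b => by ext x; exact Subsingleton.elim _ _⟩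
        exact finrank_zero_of_subsingleton
      have hf := finite_hom (E := E) (R := R) S W
      have h3 : Subsingleton (S →ₗ[R] W) := finrank_zero_iff.1 (h1.symm.trans h2)
      obtain ⟨x, hx⟩ := exists_ne (0 : S)
      have h5 : (S.subtype : S →ₗ[R] W) = 0 := Subsingleton.elim _ _
      have := congrArg (fun g : S →ₗ[R] W => g x) h5
      exact hx (Subtype.ext this)
    exact ⟨LinearEquiv.ofSubsingleton V W⟩
  · rw [not_subsingleton_iff_nontrivial] at hV
    obtain ⟨S, hS⟩ := IsSemisimpleModule.exists_simple_submodule R V
    obtain ⟨V', hV'⟩ := exists_isCompl S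
    have hfS := finite_submodule (E := E) S
    have hfV' := finite_submodule (E := E) V'
    have hSn : Nontrivial S := IsSimpleModule.nontrivial R S
    have h1 := hX S
    have hfV := finite_hom (E := E) (R := R) S V
    have hfW := finite_hom (E := E) (R := R) S W
    have hne : Nontrivial (S →ₗ[R] V) := by
      refine ⟨S.subtype, 0, fun h => ?_⟩
      obtain ⟨x, hx⟩ := exists_ne (0 : S)
      have := congrArg (fun g : S →ₗ[R] V => g x) h
      exact hx (Subtype.ext this)
    have hpos : 0 < finrank E (S →ₗ[R] V) := finrank_pos
    rw [h1] at hpos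
    have hne' : Nontrivial (S →ₗ[R] W) := nontrivial_of_finrank_pos hpos
    obtain ⟨f, hf⟩ := exists_ne (0 : S →ₗ[R] W)
    have hinj : Function.Injective f := LinearMap.injective_of_ne_zero hf
    obtain ⟨W', hW'⟩ := exists_isCompl (LinearMap.range f)
    have hfR := finite_submodule (E := E) (LinearMap.range f)
    have hfW' := finite_submodule (E := E) W'
    let eS : S ≃ₗ[R] LinearMap.range f := LinearEquiv.ofInjective f hinj
    let eV : (S × V') ≃ₗ[R] V := Submodule.prodEquivOfIsCompl S V' hV'
    let eW : (LinearMap.range f × W') ≃ₗ[R] W := Submodule.prodEquivOfIsCompl _ W' hW'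
    have hdim : finrank E V' < n := by
      have h2 : finrank E (S × V') = finrank E V :=
        (eV.restrictScalars E).finrank_eq
      rw [Module.finrank_prod] at h2
      have h3 : 0 < finrank E S := finrank_pos
      omega
    have key := ih (finrank E V') hdim V' W' rfl (fun X _ _ _ _ _ _ => by
      have e1 : finrank E (X →ₗ[R] V) = finrank E (X →ₗ[R] S) + finrank E (X →ₗ[R] V') := by
        rw [← finrank_hom_prod]
        exact ((homCongr (E := E) (X := X) eV).finrank_eq).symm
      have e2 : finrank E (X →ₗ[R] W) = finrank E (X →ₗ[R] S) + finrank E (X →ₗ[R] W') := by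
        have e3 : finrank E (X →ₗ[R] S) = finrank E (X →ₗ[R] LinearMap.range f) :=
          (homCongr (E := E) (X := X) eS).finrank_eq
        rw [e3, ← finrank_hom_prod]
        exact ((homCongr (E := E) (X := X) eW).finrank_eq).symm
      have e4 := hX X
      omega)
    obtain ⟨e⟩ := key
    exact ⟨eV.symm.trans ((LinearEquiv.prodCongr eS e).trans eW)⟩

theorem nonempty_equiv_of_finrank_hom (n : ℕ) (V W : Type u) [AddCommGroup V] [Module E V]
    [Module R V] [IsScalarTower E R V] [AddCommGroup W] [Module E W] [Module R W] [IsScalarTower E R W]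
    [FiniteDimensional E V] [FiniteDimensional E W] [IsSemisimpleModule R V] [IsSemisimpleModule R W]
    (hn : finrank E V = n)
    (h : ∀ (X : Type u) [AddCommGroup X] [Module E X] [Module R X] [IsScalarTower E R X]
      [FiniteDimensional E X], finrank E (X →ₗ[R] V) = finrank E (X →ₗ[R] W)) :
    Nonempty (V ≃ₗ[R] W) :=
  nonempty_equiv_of_finrank_hom_simple n V W hn (fun X _ _ _ _ _ _ => h X)

end Iso

end Cfsg.Agent.H751
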