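import Cfsg.Agent.H751.Real

/-!
# The monomial 2-group as a subgroup of `GL_n(F)` (helper751)
-/

set_option autoImplicit false

namespace Cfsg.Agent.H751

open Polynomial Equiv

/-- The fixed points of the Frobenius map. -/
theorem exists_of_pow_card_eq {F K : Type*} [Field F] [Fintype F] [Field K] (i : F →+* K) {x : K}
    (hx : x ^ Fintype.card F = x) : ∃ a : F, i a = x := by
  have hdeg : (X ^ Fintype.card F - X : F[X]).natDegree = Fintype.card F :=
    FiniteField.X_pow_card_sub_X_natDegree_eq F Fintype.one_lt_card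
  have hmon : (X ^ Fintype.card F - X : F[X]).Monic :=
    monic_X_pow_sub (by rw [degree_X]; exact_mod_cast Fintype.one_lt_card)
  have h1 : (X ^ Fintype.card F - X : F[X]) = ∏ a : F, (X - C a) := by
    have h3 := prod_multiset_X_sub_C_of_monic_of_roots_card_eq hmon (by
      rw [FiniteField.roots_X_pow_card_sub_X, hdeg]
      rfl)
    rw [FiniteField.roots_X_pow_card_sub_X] at h3
    exact h3.symm
  have h2 : eval₂ i x (X ^ Fintype.card F - X) = 0 := by
    rw [eval₂_sub, eval₂_pow, eval₂_X, hx, sub_self]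
  rw [h1, eval₂_finsetProd, Finset.prod_eq_zero_iff] at h2
  obtain ⟨a, -, ha⟩ := h2
  rw [eval₂_sub, eval₂_X, eval₂_C, sub_eq_zero] at ha
  exact ⟨a, ha.symm⟩

section Base

variable {O : Type*} [CommRing O] [IsDomain O] {L N : ℕ} {ζ : O} {M : Type*} [CommGroup M]

theorem mu_map_injective (hζ : IsPrimitiveRoot ζ (2 ^ L)) (hNL : N ≤ L) {χ : M →* Oˣ} (hχ : Function.Injective χ)
    (hM : ∀ t : M, t ^ 2 ^ N = 1) {K : Type*} [Field K] {φ : O →+* K}
    (hφ : IsPrimitiveRoot (φ ζ) (2 ^ L)) : Function.Injective ((Units.map φ.toMonoidHom).comp χ) := by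
  rw [injective_iff_map_eq_one]
  intro t ht
  have h1 : φ ((χ t : Oˣ) : O) = 1 := congrArg Units.val ht
  have h2 : ((χ t : Oˣ) : O) ^ 2 ^ L = 1 := by
    obtain ⟨k, rfl⟩ := Nat.exists_eq_add_of_le hNL
    rw [← Units.val_pow_eq_pow_val, ← map_pow, pow_add, pow_mul, hM, one_pow, map_one, Units.val_one]
  obtain ⟨e, he, hea⟩ := hζ.eq_pow_of_pow_eq_one h2
  rw [← hea, map_pow, hφ.pow_eq_one_iff_dvd] at h1
  have h3 : ((χ t : Oˣ) : O) = 1 := by
    rw [← hea]
    exact (hζ.pow_eq_one_iff_dvd e).2 h1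
  exact hχ (by rw [map_one]; exact Units.ext h3)

variable {n : Type*} [Fintype n] [DecidableEq n] {Q : Subgroup (Perm n)} {κ : Perm n}
  {hQ : ∀ σ ∈ Q, Commute σ κ} {r : ℕ}

omit [IsDomain O] in
/-- The representation over `ℤ[ζ]`. -/
def wRho (χ : M →* Oˣ) (Q : Subgroup (Perm n)) (κ : Perm n) (hQ : ∀ σ ∈ Q, Commute σ κ) (r : ℕ) :
    wGp M Q κ hQ r →* Matrix.GeneralLinearGroup n O :=
  (mono χ).comp (wGp M Q κ hQ r).subtype

omit [IsDomain O] in
theorem coe_wRho (χ : M →* Oˣ) (w : wGp M Q κ hQ r) :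
    (wRho χ Q κ hQ r w : Matrix n n O) = monMat χ (w : MonGp n M) := rfl

omit [Fintype n] [DecidableEq n] in
theorem monGp_pow_of_right {y : MonGp n M} (hy : y.right = 1) (k : ℕ) : (y ^ k).right = 1 ∧ (y ^ k).left = y.left ^ k := by
  induction k with
  | zero => rw [pow_zero, pow_zero]; exact ⟨rfl, rfl⟩
  | succ k ih =>
    rw [pow_succ]
    refine ⟨?_, ?_⟩
    · rw [SemidirectProduct.mul_right, ih.1, hy, one_mul]
    · rw [SemidirectProduct.mul_left, ih.1, ih.2, pow_succ, map_one]
      rfl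

omit [Fintype n] [DecidableEq n] in
theorem wGp_pow_eq_one (hL : L = N + 2) (hM : ∀ t : M, t ^ 2 ^ N = 1) (h4 : ∀ σ ∈ Q, σ ^ 4 = 1)
    (w : wGp M Q κ hQ r) : w ^ 2 ^ L = 1 := by
  apply Subtype.ext
  have h1 : ((w : MonGp n M) ^ 4).right = 1 := by
    have h2 : ((w : MonGp n M) ^ 4).right = (w : MonGp n M).right ^ 4 := by
      rw [← SemidirectProduct.rightHom_eq_right, map_pow]
    rw [h2, h4 _ w.2.1]
  show (w : MonGp n M) ^ 2 ^ L = 1
  rw [hL, pow_add, mul_comm, pow_mul, show (2 ^ 2 : ℕ) = 4 from rfl]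
  obtain ⟨h5, h6⟩ := monGp_pow_of_right h1 (2 ^ N)
  refine SemidirectProduct.ext ?_ h5
  rw [h6]
  funext i
  exact hM _

end Base

section Lin

universe u

variable {O : Type*} [CommRing O] [IsDomain O] {L N : ℕ} {ζ : O} {M : Type*} [CommGroup M] {χ : M →* Oˣ}
  {n : Type*} [Fintype n] [DecidableEq n] {Q : Subgroup (Perm n)} {κ : Perm n}
  {hQ : ∀ σ ∈ Q, Commute σ κ} {r : ℕ}

/-- The twisting matrix. -/
theorem exists_twist {K : Type*} [Field K] (h2 : (2 : K) ≠ 0) (Fr : K →+* K) {J : Matrix n n K} (hJ : J * J = 1)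
    (hFJ : J.map Fr = J) (hε : J = 1 ∨ ∃ ε : K, ε ≠ 0 ∧ Fr ε = -ε) :
    ∃ g : Matrix.GeneralLinearGroup n K, (g : Matrix n n K).map Fr = (g : Matrix n n K) * J ∧
      ∀ A : Matrix n n K, Commute A J → Commute A (g : Matrix n n K) := by
  rcases hε with rfl | ⟨ε, hε0, hε⟩
  · refine ⟨1, ?_, fun A _ => Commute.one_right A⟩
    rw [Units.val_one, Matrix.map_one _ (map_zero Fr) (map_one Fr), one_mul]
  · have h4 : (4 : K) ≠ 0 := by
      have : (4 : K) = 2 * 2 := by norm_num
      rw [this]
      exact mul_ne_zero h2 h2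
    have e1 : (1 + J) * (1 + J) = (2 : K) • (1 + J) := by
      rw [mul_add, add_mul, add_mul, hJ, two_smul]
      simp only [one_mul, mul_one]
      abel
    have e2 : (1 - J) * (1 - J) = (2 : K) • (1 - J) := by
      rw [mul_sub, sub_mul, sub_mul, hJ, two_smul]
      simp only [one_mul, mul_one]
      abel
    have e3 : (1 + J) * (1 - J) = 0 := by
      rw [mul_sub, add_mul, add_mul, hJ]
      simp only [one_mul, mul_one]
      abel
    have e4 : (1 - J) * (1 + J) = 0 := by
      rw [mul_add, sub_mul, sub_mul, hJ]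
      simp only [one_mul, mul_one]
      abel
    have key : ∀ a b : K, a * b = 1 → ((1 + J) + a • (1 - J)) * ((1 + J) + b • (1 - J)) = (4 : K) • (1 : Matrix n n K) := by
      intro a b hab
      have e5 : (1 + J) + (1 - J) = (2 : K) • (1 : Matrix n n K) := by rw [two_smul]; abel
      generalize 1 + J = U at *
      generalize 1 - J = V at *
      rw [mul_add, add_mul, add_mul, e1, smul_mul_assoc, e4, smul_zero, add_zero, mul_smul_comm, e3, smul_zero,
        zero_add, smul_mul_smul_comm, hab, one_smul, e2, ← smul_add, e5, smul_smul]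
      norm_num
    let g : Matrix.GeneralLinearGroup n K :=
      { val := (1 + J) + ε • (1 - J)
        inv := (4 : K)⁻¹ • ((1 + J) + ε⁻¹ • (1 - J))
        val_inv := by
          rw [mul_smul_comm, key _ _ (mul_inv_cancel₀ hε0), smul_smul, inv_mul_cancel₀ h4, one_smul]
        inv_val := by
          rw [smul_mul_assoc, key _ _ (inv_mul_cancel₀ hε0), smul_smul, inv_mul_cancel₀ h4, one_smul] }
    refine ⟨g, ?_, fun A hA => ?_⟩
    · show ((1 + J) + ε • (1 - J)).map Fr = ((1 + J) + ε • (1 - J)) * J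
      have h5 : ((1 + J) + ε • (1 - J)).map Fr = (1 + J.map Fr) + Fr ε • (1 - J.map Fr) := by
        ext i j
        simp only [Matrix.map_apply, Matrix.add_apply, Matrix.smul_apply, Matrix.sub_apply, smul_eq_mul, map_add,
          map_mul, map_sub]
        rw [Matrix.one_apply]
        split_ifs <;> simp
      rw [h5, hFJ, hε, add_mul, smul_mul_assoc, add_mul, sub_mul, hJ, one_mul, neg_smul, ← smul_neg, neg_sub,
        add_comm J 1]
    · show Commute A ((1 + J) + ε • (1 - J))
      exact ((Commute.one_right A).add_right hA).add_right (((Commute.one_right A).sub_right hA).smul_right ε)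

/-- **The monomial 2-group in the general linear group.** -/
theorem exists_lin {F : Type u} [Field F] [Fintype F] (h2 : (2 : F) ≠ 0) (hζ : IsPrimitiveRoot ζ (2 ^ L))
    (hO : ∀ (K : Type u) [Field K] (z : K), IsPrimitiveRoot z (2 ^ L) → ∃ φ : O →+* K, φ ζ = z)
    (hNL : N ≤ L) (hL : 2 ≤ L) (hχ : Function.Injective χ) (hM : ∀ t : M, t ^ 2 ^ N = 1) (hκ : κ * κ = 1)
    (hr : Fintype.card F ≡ r [MOD 2 ^ N]) (hε : κ = 1 ∨ Fintype.card F % 4 = 3) [Nonempty n] :
    ∃ τ : wGp M Q κ hQ r →* Matrix.GeneralLinearGroup n F, IsReal L ζ (wRho χ Q κ hQ r) τ ∧ Function.Injective τ ∧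
      (∀ d : n → F, (∀ i, d (κ i) = d i) → (∀ σ ∈ Q, ∀ i, d (σ i) = d i) → ∀ w,
        Commute (Matrix.diagonal d) (τ w : Matrix n n F)) ∧
      ∀ w, (∃ c, (τ w : Matrix n n F) = Matrix.scalar n c) ↔ IsScal (w : MonGp n M) := by
  let K := AlgebraicClosure F
  let i : F →+* K := algebraMap F K
  have h2K : (2 : K) ≠ 0 := by
    rw [← map_ofNat i 2]
    exact (map_ne_zero i).2 h2
  have hne : NeZero ((2 ^ L : ℕ) : K) := ⟨by rw [Nat.cast_pow]; exact pow_ne_zero _ (by exact_mod_cast h2K)⟩
  obtain ⟨z, hz⟩ := HasEnoughRootsOfUnity.exists_primitiveRoot K (2 ^ L)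
  obtain ⟨φ, hφz⟩ := hO K z hz
  have hφ : IsPrimitiveRoot (φ ζ) (2 ^ L) := by rw [hφz]; exact hz
  let Fr : K →+* K := (FiniteField.frobeniusAlgHom F K : K →ₐ[F] K).toRingHom
  have hFr : ∀ x : K, Fr x = x ^ Fintype.card F := fun x => rfl
  let χK : M →* Kˣ := (Units.map φ.toMonoidHom).comp χ
  have hχK : Function.Injective χK := mu_map_injective hζ hNL hχ hM hφ
  let k0 : MonGp n M := SemidirectProduct.inr κ
  let J : Matrix n n K := monMat χK k0
  have hk0 : k0 * k0 = 1 := by
    show (SemidirectProduct.inr κ * SemidirectProduct.inr κ : MonGp n M) = 1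
    rw [← map_mul, hκ, map_one]
  have hJ : J * J = 1 := by
    show monMat χK k0 * monMat χK k0 = 1
    rw [← monMat_mul, hk0, monMat_one]
  have hJapp : ∀ a b, J a b = if κ b = a then 1 else 0 := by
    intro a b
    show monMat χK k0 a b = _
    rw [monMat_apply]
    show (if κ b = a then ((χK 1 : Kˣ) : K) else 0) = _
    rw [map_one, Units.val_one]
  have hFJ : J.map Fr = J := by
    ext a b
    rw [Matrix.map_apply, hJapp]
    split_ifs
    · exact map_one Fr
    · exact map_zero Fr
  have hε' : J = 1 ∨ ∃ ε : K, ε ≠ 0 ∧ Fr ε = -ε := by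
    rcases hε with h | h
    · left
      ext a b
      rw [hJapp, h, Matrix.one_apply]
      by_cases hab : a = b
      · rw [if_pos hab, if_pos (show (1 : Perm n) b = a from hab.symm)]
      · rw [if_neg hab, if_neg (show ¬ (1 : Perm n) b = a from fun h' => hab h'.symm)]
    · right
      obtain ⟨l, rfl⟩ := Nat.exists_eq_add_of_le hL
      have h4 : IsPrimitiveRoot (z ^ 2 ^ l) (2 ^ 2) := hz.pow (by positivity) (by rw [pow_add]; ring)
      refine ⟨z ^ 2 ^ l, h4.ne_zero (by norm_num), ?_⟩
      have h5 : (z ^ 2 ^ l) ^ 2 = -1 := by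
        have h6 : IsPrimitiveRoot ((z ^ 2 ^ l) ^ 2) 2 := h4.pow (by norm_num) (by norm_num)
        exact h6.eq_neg_one_of_two_right
      rw [hFr]
      obtain ⟨t, ht⟩ : ∃ t, Fintype.card F = 4 * t + 3 := ⟨Fintype.card F / 4, by omega⟩
      rw [ht, pow_add, pow_mul, show (z ^ 2 ^ l) ^ 4 = ((z ^ 2 ^ l) ^ 2) ^ 2 by rw [← pow_mul (z ^ 2 ^ l)], h5, neg_one_sq, one_pow,
        one_mul, pow_succ, h5, neg_one_mul]
  obtain ⟨g, hg, hgc⟩ := exists_twist h2K Fr hJ hFJ hε'
  -- the Frobenius map on monomial matrices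
  have hmon : ∀ w : wGp M Q κ hQ r, (monMat χK (w : MonGp n M)).map Fr * J = J * monMat χK (w : MonGp n M) := by
    intro w
    let w' : MonGp n M := ⟨fun a => (w : MonGp n M).left a ^ r, (w : MonGp n M).right⟩
    have h1 : (monMat χK (w : MonGp n M)).map Fr = monMat χK w' := by
      ext a b
      rw [Matrix.map_apply, monMat_apply, monMat_apply]
      show Fr (if (w : MonGp n M).right b = a then ((χK ((w : MonGp n M).left a) : Kˣ) : K) else 0) =
        if (w : MonGp n M).right b = a then ((χK ((w : MonGp n M).left a ^ r) : Kˣ) : K) else 0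
      split_ifs
      · rw [hFr, ← Units.val_pow_eq_pow_val, ← map_pow]
        congr 2
        have h5 := hM ((w : MonGp n M).left a)
        exact pow_eq_pow_of_modEq hr h5
      · exact map_zero Fr
    rw [h1]
    show monMat χK w' * monMat χK k0 = monMat χK k0 * monMat χK (w : MonGp n M)
    rw [← monMat_mul, ← monMat_mul]
    congr 1
    refine SemidirectProduct.ext ?_ ?_
    · funext a
      rw [left_mul_apply, left_mul_apply]
      show (w : MonGp n M).left a ^ r * 1 = 1 * (w : MonGp n M).left (κ⁻¹ a)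
      have hκi : κ⁻¹ = κ := inv_eq_of_mul_eq_one_left hκ
      rw [mul_one, one_mul, hκi, w.2.2 a]
    · exact (hQ _ w.2.1).eq
  let T : wGp M Q κ hQ r → Matrix n n K := fun w => (g : Matrix n n K) * monMat χK (w : MonGp n M) *
    ((g⁻¹ : Matrix.GeneralLinearGroup n K) : Matrix n n K)
  have hginv : ((g⁻¹ : Matrix.GeneralLinearGroup n K) : Matrix n n K).map Fr =
      J * ((g⁻¹ : Matrix.GeneralLinearGroup n K) : Matrix n n K) := by
    have h1 : (g : Matrix n n K).map Fr * ((g⁻¹ : Matrix.GeneralLinearGroup n K) : Matrix n n K).map Fr = 1 := by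
      rw [← Matrix.map_mul, ← Units.val_mul, mul_inv_cancel, Units.val_one,
        Matrix.map_one _ (map_zero Fr) (map_one Fr)]
    have h3 : (J * ((g⁻¹ : Matrix.GeneralLinearGroup n K) : Matrix n n K)) * (g : Matrix n n K).map Fr = 1 := by
      rw [hg, mul_assoc, ← mul_assoc _ (g : Matrix n n K) J, ← Units.val_mul, inv_mul_cancel, Units.val_one,
        one_mul, hJ]
    exact (left_inv_eq_right_inv h3 h1).symm
  have hTF : ∀ w, (T w).map Fr = T w := by
    intro w
    show ((g : Matrix n n K) * monMat χK (w : MonGp n M) * ((g⁻¹ : Matrix.GeneralLinearGroup n K) : Matrix n n K)).map Fr = _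
    rw [Matrix.map_mul, Matrix.map_mul, hg, hginv, mul_assoc (g : Matrix n n K), mul_assoc (g : Matrix n n K),
      ← mul_assoc _ J, mul_assoc J, hmon, ← mul_assoc J, hJ, one_mul]
    exact (mul_assoc _ _ _).symm
  have hex : ∀ w, ∃ A : Matrix n n F, A.map i = T w := by
    intro w
    have h1 : ∀ a b, ∃ x : F, i x = T w a b := by
      intro a b
      apply exists_of_pow_card_eq i
      rw [← hFr]
      exact congrFun (congrFun (hTF w) a) b
    choose A hA using h1
    exact ⟨fun a b => A a b, by ext a b; exact hA a b⟩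
  choose A hA using hex
  have hinj : Function.Injective (fun B : Matrix n n F => B.map i) := Matrix.map_injective i.injective
  have hT1 : T 1 = 1 := by
    show (g : Matrix n n K) * monMat χK 1 * ((g⁻¹ : Matrix.GeneralLinearGroup n K) : Matrix n n K) = 1
    rw [monMat_one, mul_one, ← Units.val_mul, mul_inv_cancel, Units.val_one]
  have hTm : ∀ v w, T (v * w) = T v * T w := by
    intro v w
    show (g : Matrix n n K) * monMat χK ((v : MonGp n M) * (w : MonGp n M)) * ((g⁻¹ : Matrix.GeneralLinearGroup n K) : Matrix n n K) =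
      (g : Matrix n n K) * monMat χK (v : MonGp n M) * ((g⁻¹ : Matrix.GeneralLinearGroup n K) : Matrix n n K) *
      ((g : Matrix n n K) * monMat χK (w : MonGp n M) * ((g⁻¹ : Matrix.GeneralLinearGroup n K) : Matrix n n K))
    rw [monMat_mul]
    have h1 : ((g⁻¹ : Matrix.GeneralLinearGroup n K) : Matrix n n K) * (g : Matrix n n K) = 1 := by
      rw [← Units.val_mul, inv_mul_cancel, Units.val_one]
    simp only [mul_assoc]
    rw [← mul_assoc _ (g : Matrix n n K), h1, one_mul]
  let τ : wGp M Q κ hQ r →* Matrix.GeneralLinearGroup n F := MonoidHom.toHomUnits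
    { toFun := A
      map_one' := hinj (by
        show (A 1).map i = (1 : Matrix n n F).map i
        rw [hA, hT1, Matrix.map_one _ (map_zero i) (map_one i)])
      map_mul' := fun v w => hinj (by
        show (A (v * w)).map i = (A v * A w).map i
        rw [hA, hTm, Matrix.map_mul, hA, hA]) }
  have hτ : ∀ w, (τ w : Matrix n n F).map i = T w := hA
  have hTmon : ∀ w : wGp M Q κ hQ r, monMat χK (w : MonGp n M) = ((g⁻¹ : Matrix.GeneralLinearGroup n K) : Matrix n n K) * T w * (g : Matrix n n K) := by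
    intro w
    have h1 : ((g⁻¹ : Matrix.GeneralLinearGroup n K) : Matrix n n K) * (g : Matrix n n K) = 1 := by
      rw [← Units.val_mul, inv_mul_cancel, Units.val_one]
    show _ = ((g⁻¹ : Matrix.GeneralLinearGroup n K) : Matrix n n K) * ((g : Matrix n n K) * monMat χK (w : MonGp n M) *
      ((g⁻¹ : Matrix.GeneralLinearGroup n K) : Matrix n n K)) * (g : Matrix n n K)
    rw [← mul_assoc, ← mul_assoc, h1, one_mul, mul_assoc, h1, mul_one]
  refine ⟨τ, ⟨K, inferInstance, i, φ, g, hφ, fun w => ?_⟩, ?_, ?_, ?_⟩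
  · rw [hτ, coe_wRho, monMat_map]
  · intro v w hvw
    apply Subtype.ext
    apply monMat_injective hχK
    rw [hTmon, hTmon, ← hτ, ← hτ, hvw]
  · intro d hd1 hd2 w
    have hc : ∀ B : Matrix n n K, (∃ σ : Perm n, (∀ a, d (σ a) = d a) ∧ ∀ a b, σ b ≠ a → B a b = 0) →
        Commute ((Matrix.diagonal d).map i) B := by
      rintro B ⟨σ, hσ, hB⟩
      show (Matrix.diagonal d).map i * B = B * (Matrix.diagonal d).map i
      have hdm : (Matrix.diagonal d).map i = Matrix.diagonal (fun a => i (d a)) := by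
        rw [Matrix.diagonal_map (map_zero i)]
      rw [hdm]
      ext a b
      rw [Matrix.diagonal_mul, Matrix.mul_diagonal]
      by_cases hab : σ b = a
      · rw [← hab, hσ, mul_comm]
      · rw [hB a b hab, mul_zero, zero_mul]
    have hc1 : Commute ((Matrix.diagonal d).map i) J := hc J ⟨κ, hd1, fun a b hab => by
      rw [hJapp, if_neg hab]⟩
    have hc2 : Commute ((Matrix.diagonal d).map i) (monMat χK (w : MonGp n M)) :=
      hc _ ⟨(w : MonGp n M).right, hd2 _ w.2.1, fun a b hab => by rw [monMat_apply, if_neg hab]⟩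
    have hc3 := hgc _ hc1
    have hc4 : Commute ((Matrix.diagonal d).map i) ((g⁻¹ : Matrix.GeneralLinearGroup n K) : Matrix n n K) :=
      hc3.units_inv_right
    have hc5 : Commute ((Matrix.diagonal d).map i) (T w) := (hc3.mul_right hc2).mul_right hc4
    apply hinj
    show (Matrix.diagonal d * (τ w : Matrix n n F)).map i = ((τ w : Matrix n n F) * Matrix.diagonal d).map i
    rw [Matrix.map_mul, Matrix.map_mul, hτ]
    exact hc5.eq
  · intro w
    have hsc : ∀ c : K, (∀ B : Matrix n n K, B * Matrix.scalar n c = Matrix.scalar n c * B) := fun c B =>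
      ((Matrix.scalar_commute c (fun r => Commute.all _ _) B).eq).symm
    rw [isScal_iff hχK]
    constructor
    · rintro ⟨c, hc⟩
      refine ⟨i c, ?_⟩
      rw [hTmon, ← hτ, hc]
      have h1 : (Matrix.scalar n c).map i = Matrix.scalar n (i c) := by
        rw [Matrix.scalar_apply, Matrix.scalar_apply, Matrix.diagonal_map (map_zero i)]
      rw [h1, hsc, mul_assoc, ← Units.val_mul, inv_mul_cancel, Units.val_one, mul_one]
    · rintro ⟨c, hc⟩
      have h1 : T w = Matrix.scalar n c := by
        show (g : Matrix n n K) * monMat χK (w : MonGp n M) * ((g⁻¹ : Matrix.GeneralLinearGroup n K) : Matrix n n K) = _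
        rw [hc, hsc, mul_assoc, ← Units.val_mul, mul_inv_cancel, Units.val_one, mul_one]
      obtain ⟨a⟩ := ‹Nonempty n›
      refine ⟨(τ w : Matrix n n F) a a, ?_⟩
      have h3 : i ((τ w : Matrix n n F) a a) = c := by
        have := congrFun (congrFun (hτ w) a) a
        rw [Matrix.map_apply, h1, Matrix.scalar_apply, Matrix.diagonal_apply, if_pos rfl] at this
        exact this
      apply hinj
      show (τ w : Matrix n n F).map i = (Matrix.scalar n ((τ w : Matrix n n F) a a)).map i
      rw [hτ, h1, Matrix.scalar_apply, Matrix.scalar_apply, Matrix.diagonal_map (map_zero i)]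
      congr 1
      funext b
      exact h3.symm

end Lin

end Cfsg.Agent.H751
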