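import Cfsg.Agent.H751.Pack
import Cfsg.Agent.H751.RealLin

/-!
# The data for `GL_n(q)` (helper751)
-/

set_option autoImplicit false
set_option linter.unusedVariables false

namespace Cfsg.Agent.H751

open Equiv

universe u

theorem isSyl_of_card {W G : Type*} [Group W] [Finite W] [Group G] [Finite G] {τ : W →* G}
    (hτ : Function.Injective τ) (hW : IsPGroup 2 W) (hc : 2 ^ padicValNat 2 (Nat.card G) ≤ Nat.card W) :
    IsSyl 2 τ := by
  have hp : Fact (Nat.Prime 2) := ⟨Nat.prime_two⟩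
  obtain ⟨k, hk⟩ := IsPGroup.iff_card.1 hW
  have h1 : Nat.card τ.range = 2 ^ k := by
    rw [← hk]
    exact (Nat.card_congr (MonoidHom.ofInjective hτ).toEquiv).symm
  have h2 : 2 ^ k ∣ Nat.card G := by
    rw [← h1]
    exact Subgroup.card_subgroup_dvd_card _
  have h3 : k ≤ padicValNat 2 (Nat.card G) :=
    (padicValNat_dvd_iff_le Nat.card_pos.ne').1 h2
  rw [hk] at hc
  have h4 : padicValNat 2 (Nat.card G) ≤ k := (Nat.pow_le_pow_iff_right (by norm_num)).1 hc
  have h5 : k = padicValNat 2 (Nat.card G) := le_antisymm h3 h4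
  refine ⟨hτ, Sylow.ofCard τ.range ?_, rfl⟩
  rw [h1, Nat.factorization_def _ Nat.prime_two, ← h5]

/-- A unit of odd order has a root of 2-power degree among its powers. -/
theorem exists_root_two {A : Type*} [CommGroup A] {δ : A} (h : Nat.Coprime (orderOf δ) 2) (e : ℕ) :
    ∃ m : ℕ, (δ ^ m) ^ 2 ^ e = δ := by
  have h1 : Nat.Coprime (2 ^ e : ℕ) (orderOf δ) := (h.symm).pow_left e
  obtain ⟨m, hm⟩ := exists_pow_eq_self_of_coprime h1
  refine ⟨m, ?_⟩
  rw [← pow_mul, mul_comm, pow_mul, hm]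

variable {O : Type*} [CommRing O] [IsDomain O] {L N : ℕ} {ζ : O} {M : Type*} [CommGroup M] {χ : M →* Oˣ}
  {m : ℕ} {Q : Subgroup (Perm (Fin m))} {κ : Perm (Fin m)} {hQ : ∀ σ ∈ Q, Commute σ κ} {r : ℕ}

/-- The special linear group as the kernel of the determinant. -/
def slEquiv (m : ℕ) (F : Type*) [Field F] :
    kerDet (MonoidHom.id (Matrix.GeneralLinearGroup (Fin m) F)) ≃* Matrix.SpecialLinearGroup (Fin m) F where
  toFun x := ⟨((x : Matrix.GeneralLinearGroup (Fin m) F) : Matrix (Fin m) (Fin m) F), (mem_kerDet _ _).1 x.2⟩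
  invFun x := ⟨(x : Matrix.GeneralLinearGroup (Fin m) F), (mem_kerDet _ _).2 x.2⟩
  left_inv x := Subtype.ext (Units.ext rfl)
  right_inv x := Subtype.ext rfl
  map_mul' x y := Subtype.ext rfl

theorem mem_center_slEquiv {m : ℕ} {F : Type*} [Field F] (x : kerDet (MonoidHom.id (Matrix.GeneralLinearGroup (Fin m) F))) :
    x ∈ Subgroup.center _ ↔ slEquiv m F x ∈ Subgroup.center (Matrix.SpecialLinearGroup (Fin m) F) := by
  rw [Subgroup.mem_center_iff, Subgroup.mem_center_iff]
  constructor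
  · intro h y
    obtain ⟨z, rfl⟩ := (slEquiv m F).surjective y
    rw [← map_mul, ← map_mul, h]
  · intro h y
    apply (slEquiv m F).injective
    rw [map_mul, map_mul, h]

theorem center_map_slEquiv (m : ℕ) (F : Type*) [Field F] :
    (Subgroup.center (kerDet (MonoidHom.id (Matrix.GeneralLinearGroup (Fin m) F)))).map (slEquiv m F).toMonoidHom =
      Subgroup.center (Matrix.SpecialLinearGroup (Fin m) F) := by
  ext y
  constructor
  · rintro ⟨x, hx, rfl⟩
    exact (mem_center_slEquiv x).1 hx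
  · intro hy
    obtain ⟨z, rfl⟩ := (slEquiv m F).surjective y
    exact ⟨z, (mem_center_slEquiv z).2 hy, rfl⟩

/-- The projective group. -/
theorem nonempty_pslEquiv (m : ℕ) (F : Type*) [Field F] :
    Nonempty (kerDet (MonoidHom.id (Matrix.GeneralLinearGroup (Fin m) F)) ⧸ Subgroup.center
      (kerDet (MonoidHom.id (Matrix.GeneralLinearGroup (Fin m) F))) ≃* Matrix.ProjectiveSpecialLinearGroup (Fin m) F) :=
  ⟨QuotientGroup.congr _ _ (slEquiv m F) (center_map_slEquiv m F)⟩

/-- The data for the general linear group. -/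
theorem exists_pk_lin {F : Type u} [Field F] [Fintype F] (h2 : (2 : F) ≠ 0) (hζ : IsPrimitiveRoot ζ (2 ^ L))
    (hO : ∀ (K : Type u) [Field K] (z : K), IsPrimitiveRoot z (2 ^ L) → ∃ φ : O →+* K, φ ζ = z)
    (hNL : N ≤ L) (hL : 2 ≤ L) (hχ : Function.Injective χ) (hM : ∀ t : M, t ^ 2 ^ N = 1) (hκ : κ * κ = 1)
    (hr : Fintype.card F ≡ r [MOD 2 ^ N]) (hε : κ = 1 ∨ Fintype.card F % 4 = 3) (hm : m % 2 = 1 ∨ ∃ e, 1 ≤ e ∧ m = 2 ^ e)
    [Finite (wGp M Q κ hQ r)] (hW : IsPGroup 2 (wGp M Q κ hQ r))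
    (hcard : 2 ^ padicValNat 2 (Nat.card (Matrix.GeneralLinearGroup (Fin m) F)) ≤ Nat.card (wGp M Q κ hQ r))
    (hfix : m % 2 = 1 → ∃ l : Fin m, κ l = l ∧ ∀ σ ∈ Q, σ l = l) :
    ∃ σ : wGp M Q κ hQ r →* Matrix.GeneralLinearGroup (Fin m) F,
      Pk L ζ (wRho χ Q κ hQ r) (fun w => IsScal (w : MonGp (Fin m) M)) (decide (m % 2 = 1))
        (MonoidHom.id (Matrix.GeneralLinearGroup (Fin m) F)) σ := by
  have hm1 : 1 ≤ m := by
    rcases hm with h | ⟨e, -, rfl⟩
    · omega
    · exact Nat.one_le_two_pow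
  have : Nonempty (Fin m) := ⟨⟨0, by omega⟩⟩
  have hp : Fact (Nat.Prime 2) := ⟨Nat.prime_two⟩
  obtain ⟨τ, hreal, hinj, hdiag, hscal⟩ := exists_lin (Q := Q) (hQ := hQ) h2 hζ hO hNL hL hχ hM hκ hr hε
  refine ⟨τ, ⟨isSyl_of_card hinj hW hcard, hreal, ?_, ?_, ?_, ?_⟩⟩
  · intro P a b' hab
    have hP : IsPGroup 2 P := hW.to_subgroup P
    exact exists_conj_of_charpoly hP h2 a b' hab
  · intro hb k
    have hm4 : m % 2 = 1 := by simpa using hb
    obtain ⟨l, hl1, hl2⟩ := hfix hm4
    let δ : F := ((k : Matrix (Fin m) (Fin m) F).det)⁻¹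
    have hk0 : (k : Matrix (Fin m) (Fin m) F).det ≠ 0 := by
      have := (Matrix.GeneralLinearGroup.det k).ne_zero
      exact this
    let d : Fin m → F := fun i => if i = l then δ else 1
    have hd : (Matrix.diagonal d).det = δ := by
      rw [Matrix.det_diagonal]
      show ∏ i, (if i = l then δ else 1) = δ
      rw [Finset.prod_ite_eq' Finset.univ l (fun _ => δ), if_pos (Finset.mem_univ l)]
    let D : Matrix.GeneralLinearGroup (Fin m) F := Matrix.GeneralLinearGroup.mkOfDetNeZero (Matrix.diagonal d) (by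
      rw [hd]; exact inv_ne_zero hk0)
    refine ⟨D, fun s => ?_, ?_⟩
    · apply Units.ext
      refine hdiag d (fun i => ?_) (fun σ hσ i => ?_) s
      · show (if κ i = l then δ else 1) = (if i = l then δ else 1)
        have h1 : κ i = l ↔ i = l := by
          constructor
          · intro h
            exact κ.injective (h.trans hl1.symm)
          · rintro rfl; exact hl1
        by_cases h : i = l
        · rw [if_pos h, if_pos (h1.2 h)]
        · rw [if_neg h, if_neg (fun h' => h (h1.1 h'))]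
      · show (if σ i = l then δ else 1) = (if i = l then δ else 1)
        have h1 : σ i = l ↔ i = l := by
          constructor
          · intro h
            exact σ.injective (h.trans (hl2 σ hσ).symm)
          · rintro rfl; exact hl2 σ hσ
        by_cases h : i = l
        · rw [if_pos h, if_pos (h1.2 h)]
        · rw [if_neg h, if_neg (fun h' => h (h1.1 h'))]
    · rw [mem_kerDet]
      show ((k : Matrix (Fin m) (Fin m) F) * Matrix.diagonal d).det = 1
      rw [Matrix.det_mul, hd]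
      exact mul_inv_cancel₀ hk0
  · intro hb g hg
    have hm4 : ¬ m % 2 = 1 := by simpa using hb
    obtain ⟨k, -, hmk⟩ := hm.resolve_left hm4
    have h1 : Nat.Coprime (orderOf (Matrix.GeneralLinearGroup.det g)) 2 :=
      Nat.Coprime.coprime_dvd_left (orderOf_map_dvd _ g) hg
    obtain ⟨e, he⟩ := exists_root_two h1 k
    have hs : IsUnit ((Matrix.scalar (Fin m)) (((Matrix.GeneralLinearGroup.det g ^ e)⁻¹ : Fˣ) : F)) :=
      ((Matrix.GeneralLinearGroup.det g ^ e)⁻¹).isUnit.map (Matrix.scalar (Fin m))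
    obtain ⟨D, hD⟩ := hs
    refine ⟨D, ?_, ?_⟩
    · rw [Subgroup.mem_center_iff]
      intro x
      apply Units.ext
      show (x : Matrix (Fin m) (Fin m) F) * (D : Matrix (Fin m) (Fin m) F) = (D : Matrix (Fin m) (Fin m) F) * x
      rw [hD]
      exact ((Matrix.scalar_commute _ (fun r => Commute.all _ _) _).eq).symm
    · rw [mem_kerDet]
      show ((g : Matrix (Fin m) (Fin m) F) * (D : Matrix (Fin m) (Fin m) F)).det = 1
      have hpow : ∀ x : Fˣ, (x : F) ^ m = ((x ^ 2 ^ k : Fˣ) : F) := by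
        intro x
        rw [hmk, Units.val_pow_eq_pow_val]
      rw [hD, Matrix.det_mul, Matrix.scalar_apply, Matrix.det_diagonal, Finset.prod_const, Finset.card_univ,
        Fintype.card_fin, hpow, inv_pow, he]
      show ((Matrix.GeneralLinearGroup.det g : Fˣ) : F) * (((Matrix.GeneralLinearGroup.det g)⁻¹ : Fˣ) : F) = 1
      exact Units.mul_inv _
  · intro w h
    rw [mem_center_slEquiv, Matrix.SpecialLinearGroup.mem_center_iff, ← hscal]
    constructor
    · rintro ⟨c, -, hc⟩
      exact ⟨c, hc.symm⟩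
    · rintro ⟨c, hc⟩
      refine ⟨c, ?_, hc.symm⟩
      have h1 : (τ w : Matrix (Fin m) (Fin m) F).det = 1 := (mem_kerDet _ _).1 h
      rw [hc, Matrix.scalar_apply, Matrix.det_diagonal, Finset.prod_const, Finset.card_univ] at h1
      exact h1

end Cfsg.Agent.H751
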