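import Cfsg.Agent.H751.HomIso

/-!
# Representations of a 2-group whose restrictions to the cyclic subgroups are isomorphic (helper751)
-/

set_option autoImplicit false

namespace Cfsg.Agent.H751

open Module MonoidAlgebra

universe u

section PIso

variable {E : Type*} [Field E] {P : Type*} [Group P] [Finite P]

/-- The action of `P` on `Hom_E(X, V)` for an `E[P]`-module `X`. -/
noncomputable def homRep {X V : Type*} [AddCommGroup X] [Module E X] [Module E[P] X]
    [IsScalarTower E E[P] X] [AddCommGroup V] [Module E V] (τ : P →* Module.End E V) :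
    P →* Module.End E (X →ₗ[E] V) where
  toFun x :=
    { toFun := fun f =>
        { toFun := fun v => τ x (f (MonoidAlgebra.of E P x⁻¹ • v))
          map_add' := fun a b => by rw [smul_add, map_add, map_add]
          map_smul' := fun c a => by
            rw [RingHom.id_apply, smul_comm, map_smul, map_smul] }
      map_add' := fun f g => by ext v; simp
      map_smul' := fun c f => by ext v; simp }
  map_one' := by
    ext f v
    show τ 1 (f (MonoidAlgebra.of E P (1 : P)⁻¹ • v)) = f v
    rw [inv_one, map_one, map_one, one_smul]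
    rfl
  map_mul' x y := by
    ext f v
    show τ (x * y) (f (MonoidAlgebra.of E P (x * y)⁻¹ • v)) =
      τ x (τ y (f (MonoidAlgebra.of E P y⁻¹ • MonoidAlgebra.of E P x⁻¹ • v)))
    rw [mul_inv_rev, map_mul (MonoidAlgebra.of E P), mul_smul, map_mul τ]
    rfl

omit [Finite P] in
theorem homRep_apply {X V : Type*} [AddCommGroup X] [Module E X] [Module E[P] X]
    [IsScalarTower E E[P] X] [AddCommGroup V] [Module E V] (τ : P →* Module.End E V) (x : P)
    (f : X →ₗ[E] V) (v : X) :
    homRep τ x f v = τ x (f (MonoidAlgebra.of E P x⁻¹ • v)) := rfl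

omit [Finite P] in
theorem smul_eq_of_of {V W : Type*} [AddCommGroup V] [Module E V] [Module E[P] V]
    [IsScalarTower E E[P] V] [AddCommGroup W] [Module E W] [Module E[P] W] [IsScalarTower E E[P] W]
    (f : V →ₗ[E] W) (h : ∀ (x : P) v, f (MonoidAlgebra.of E P x • v) = MonoidAlgebra.of E P x • f v)
    (r : E[P]) (v : V) : f (r • v) = r • f v := by
  induction r using MonoidAlgebra.induction_on with
  | of x => exact h x v
  | add a b ha hb => rw [add_smul, map_add, ha, hb, add_smul]
  | smul c a ha => rw [smul_assoc, map_smul, ha, smul_assoc]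

omit [Finite P] in
theorem of_smul_asModule {V : Type*} [AddCommGroup V] [Module E V] (τ : Representation E P V) (x : P)
    (v : τ.asModule) : MonoidAlgebra.of E P x • v = τ.asModuleEquiv.symm (τ x (τ.asModuleEquiv v)) := by
  rw [MonoidAlgebra.of_apply, Representation.single_smul, one_smul]
  rfl

/-- `Hom_{E[P]}(X, V)` is the fixed space of `P` on `Hom_E(X, V)`. -/
noncomputable def homEquivFix {X V : Type*} [AddCommGroup X] [Module E X] [Module E[P] X]
    [IsScalarTower E E[P] X] [AddCommGroup V] [Module E V] (τ : Representation E P V) :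
    (X →ₗ[E[P]] τ.asModule) ≃ₗ[E] fix (homRep (X := X) τ) ⊤ where
  toFun f := ⟨τ.asModuleEquiv.toLinearMap ∘ₗ f.restrictScalars E, by
    intro x _
    ext v
    rw [homRep_apply]
    show τ x (τ.asModuleEquiv (f (MonoidAlgebra.of E P x⁻¹ • v))) = τ.asModuleEquiv (f v)
    rw [map_smul, of_smul_asModule, LinearEquiv.apply_symm_apply, ← Module.End.mul_apply, ← map_mul,
      mul_inv_cancel, map_one]
    rfl⟩
  invFun f :=
    { toFun := fun v => τ.asModuleEquiv.symm (f.1 v)
      map_add' := fun a b => by rw [map_add, map_add]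
      map_smul' := fun r v => by
        refine smul_eq_of_of (τ.asModuleEquiv.symm.toLinearMap ∘ₗ f.1) (fun x v => ?_) r v
        show τ.asModuleEquiv.symm (f.1 (MonoidAlgebra.of E P x • v)) =
          MonoidAlgebra.of E P x • τ.asModuleEquiv.symm (f.1 v)
        rw [of_smul_asModule, LinearEquiv.apply_symm_apply]
        congr 1
        have h := f.2 x (Subgroup.mem_top x)
        have h2 := congrArg (fun g : X →ₗ[E] V => g (MonoidAlgebra.of E P x • v)) h
        simp only [homRep_apply] at h2
        rw [← h2, ← mul_smul, ← map_mul, inv_mul_cancel, map_one, one_smul] }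
  map_add' f g := by ext v; rfl
  map_smul' c f := by
    apply Subtype.ext
    ext v
    show τ.asModuleEquiv (c • f v) = c • τ.asModuleEquiv (f v)
    rw [map_smul]
  left_inv f := by ext v; simp
  right_inv f := by
    apply Subtype.ext
    ext v
    show τ.asModuleEquiv (τ.asModuleEquiv.symm (f.1 v)) = f.1 v
    rw [LinearEquiv.apply_symm_apply]

omit [Finite P] in
/-- The fixed space of a cyclic group on `Hom_E(X, V)` depends only on the restriction of `V`. -/
theorem finrank_fix_homRep {X V W : Type*} [AddCommGroup X] [Module E X] [Module E[P] X]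
    [IsScalarTower E E[P] X] [AddCommGroup V] [Module E V] [AddCommGroup W] [Module E W]
    (τ : P →* Module.End E V) (τ' : P →* Module.End E W) (x : P) (e : V ≃ₗ[E] W)
    (he : ∀ v, e (τ x v) = τ' x (e v)) :
    finrank E (fix (homRep (X := X) τ) (Subgroup.zpowers x)) =
      finrank E (fix (homRep (X := X) τ') (Subgroup.zpowers x)) := by
  have h1 : ∀ f : X →ₗ[E] V, f ∈ fix (homRep (X := X) τ) (Subgroup.zpowers x) ↔
      (e.toLinearMap ∘ₗ f) ∈ fix (homRep (X := X) τ') (Subgroup.zpowers x) := by
    intro f
    rw [mem_fix_zpowers, mem_fix_zpowers]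
    constructor
    · intro h
      ext v
      rw [homRep_apply]
      show τ' x (e (f _)) = e (f v)
      rw [← he]
      congr 1
      exact congrArg (fun g : X →ₗ[E] V => g v) h
    · intro h
      ext v
      apply e.injective
      have h2 := congrArg (fun g : X →ₗ[E] W => g v) h
      simp only [homRep_apply] at h2
      rw [homRep_apply, he]
      exact h2
  let E1 : (X →ₗ[E] V) ≃ₗ[E] (X →ₗ[E] W) := LinearEquiv.congrRight e
  have h2 : (fix (homRep (X := X) τ) (Subgroup.zpowers x)).map E1.toLinearMap =
      fix (homRep (X := X) τ') (Subgroup.zpowers x) := by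
    ext g
    constructor
    · rintro ⟨f, hf, rfl⟩
      exact (h1 f).1 hf
    · intro hg
      refine ⟨E1.symm g, ?_, E1.apply_symm_apply g⟩
      apply (h1 _).2
      have : e.toLinearMap ∘ₗ (E1.symm g) = g := E1.apply_symm_apply g
      rw [this]
      exact hg
  rw [← h2]
  exact (LinearEquiv.finrank_eq (E1.submoduleMap _))

/-- **Two representations of a 2-group (characteristic not two) whose restrictions to all cyclic subgroups are
isomorphic are isomorphic.** -/
theorem exists_equiv_of_cyclic (hP : IsPGroup 2 P) (h2 : (2 : E) ≠ 0) {V W : Type u} [AddCommGroup V]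
    [Module E V] [FiniteDimensional E V] [AddCommGroup W] [Module E W] [FiniteDimensional E W]
    (τ : P →* Module.End E V) (τ' : P →* Module.End E W)
    (h : ∀ x : P, ∃ e : V ≃ₗ[E] W, ∀ v, e (τ x v) = τ' x (e v)) :
    ∃ e : V ≃ₗ[E] W, ∀ (x : P) v, e (τ x v) = τ' x (e v) := by
  have hcard : (Nat.card P : E) ≠ 0 := by
    have : Fact (Nat.Prime 2) := ⟨Nat.prime_two⟩
    obtain ⟨n, hn⟩ := IsPGroup.iff_card.1 hP
    rw [hn]
    push_cast
    exact pow_ne_zero n h2
  have : NeZero (Nat.card P : E) := ⟨hcard⟩
  let ρ : Representation E P V := τ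
  let ρ' : Representation E P W := τ'
  have hfρ : FiniteDimensional E ρ.asModule := inferInstance
  have hfρ' : FiniteDimensional E ρ'.asModule := inferInstance
  obtain ⟨f⟩ := nonempty_equiv_of_finrank_hom (E := E) (R := E[P]) (finrank E ρ.asModule)
    (ρ.asModule : Type u) (ρ'.asModule : Type u) rfl (fun X _ _ _ _ _ => by
      rw [(homEquivFix (X := X) ρ).finrank_eq, (homEquivFix (X := X) ρ').finrank_eq]
      refine finrank_fix_eq hP h2 _ _ (fun x => ?_) ⊤
      obtain ⟨e, he⟩ := h x
      exact finrank_fix_homRep τ τ' x e he)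
  refine ⟨(ρ.asModuleEquiv.symm.trans (f.restrictScalars E)).trans ρ'.asModuleEquiv, fun x v => ?_⟩
  show ρ'.asModuleEquiv (f (ρ.asModuleEquiv.symm (τ x v))) =
    τ' x (ρ'.asModuleEquiv (f (ρ.asModuleEquiv.symm v)))
  have h3 : ρ.asModuleEquiv.symm (τ x v) = MonoidAlgebra.of E P x • ρ.asModuleEquiv.symm v := by
    rw [of_smul_asModule, LinearEquiv.apply_symm_apply]
  rw [h3, map_smul, of_smul_asModule, LinearEquiv.apply_symm_apply]

end PIso

end Cfsg.Agent.H751
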