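import Cfsg.Agent.H751.Real

/-!
# From the general linear and unitary groups to the projective special groups (helper751)
-/

set_option autoImplicit false

namespace Cfsg.Agent.H751

universe u v

variable {n : Type*} [Fintype n] [DecidableEq n] {O : Type*} [CommRing O]
  {L : ℕ} {ζ : O} {W : Type*} [Group W]

/-- The kernel of the determinant. -/
def kerDet {F : Type*} [Field F] {G : Type*} [Group G] (c : G →* Matrix.GeneralLinearGroup n F) : Subgroup G :=
  (Matrix.GeneralLinearGroup.det.comp c).ker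

theorem mem_kerDet {F : Type*} [Field F] {G : Type*} [Group G] (c : G →* Matrix.GeneralLinearGroup n F) (g : G) :
    g ∈ kerDet c ↔ (c g : Matrix n n F).det = 1 := by
  unfold kerDet
  rw [MonoidHom.mem_ker, MonoidHom.comp_apply, Units.ext_iff]
  rfl

/-- The data of a group of matrices `G` with Sylow 2-subgroup `W`, a reduction of `ρ`. -/
structure Pk (L : ℕ) (ζ : O) (ρ : W →* Matrix.GeneralLinearGroup n O) (scal : W → Prop) (b : Bool)
    {F : Type u} [Field F] {G : Type*} [Group G] (c : G →* Matrix.GeneralLinearGroup n F) (σ : W →* G) : Prop where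
  syl : IsSyl 2 σ
  real : IsReal L ζ ρ (c.comp σ)
  crit : ∀ (P : Subgroup W) (a b : P →* G), (∀ x, (c (a x) : Matrix n n F).charpoly =
      (c (b x) : Matrix n n F).charpoly) → ∃ k : G, ∀ x, b x = k * a x * k⁻¹
  comm : b = true → ∀ k : G, ∃ d : G, (∀ s, Commute d (σ s)) ∧ k * d ∈ kerDet c
  odd : b = false → ∀ g : G, Nat.Coprime (orderOf g) 2 → ∃ d ∈ Subgroup.center G, g * d ∈ kerDet c
  center : ∀ (w : W) (h : σ w ∈ kerDet c), (⟨σ w, h⟩ : kerDet c) ∈ Subgroup.center (kerDet c) ↔ scal w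

variable {ρ : W →* Matrix.GeneralLinearGroup n O} {scal : W → Prop} {b : Bool}

/-- **Two groups with the same data have projective special groups with the same 2-fusion.** -/
theorem fusTo_of_pk [IsDomain O] (hζ : IsPrimitiveRoot ζ (2 ^ L)) (hW : ∀ w : W, w ^ 2 ^ L = 1) [Finite W]
    {F : Type u} [Field F] {F' : Type v} [Field F'] {G G' : Type*} [Group G] [Group G'] [Finite G] [Finite G']
    {c : G →* Matrix.GeneralLinearGroup n F} {c' : G' →* Matrix.GeneralLinearGroup n F'} {σ : W →* G} {σ' : W →* G'}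
    (h : Pk L ζ ρ scal b c σ) (h' : Pk L ζ ρ scal b c' σ') {B B' : Type*} [Group B] [Group B']
    (e : kerDet c ⧸ Subgroup.center (kerDet c) ≃* B) (e' : kerDet c' ⧸ Subgroup.center (kerDet c') ≃* B') :
    FusTo 2 B B' := by
  have hp : Fact (Nat.Prime 2) := ⟨Nat.prime_two⟩
  let T : Subgroup W := (kerDet c).comap σ
  have hT : ∀ s, s ∈ T ↔ σ s ∈ kerDet c := fun s => Iff.rfl
  have hT' : ∀ s, s ∈ T ↔ σ' s ∈ kerDet c' := by
    intro s
    rw [hT, mem_kerDet, mem_kerDet]
    have h1 := h.real.det_iff hζ hW s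
    have h2 := h'.real.det_iff hζ hW s
    exact h1.trans h2.symm
  have hn : (kerDet c).Normal := MonoidHom.normal_ker _
  have hn' : (kerDet c').Normal := MonoidHom.normal_ker _
  have hWp : IsPGroup 2 W := fun w => ⟨L, hW w⟩
  have s1 : SubFus σ σ' := subFus_of_isReal hζ hW h.syl.1 h.real h'.real h'.crit
  have s2 : SubFus σ' σ := subFus_of_isReal hζ hW h'.syl.1 h'.real h.real h.crit
  have y1 : IsSyl 2 (res σ T (kerDet c) (fun s hs => (hT s).1 hs)) := h.syl.res hT
  have y2 : IsSyl 2 (res σ' T (kerDet c') (fun s hs => (hT' s).1 hs)) := h'.syl.res hT'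
  have t1 : SubFus (res σ T (kerDet c) (fun s hs => (hT s).1 hs)) (res σ' T (kerDet c') (fun s hs => (hT' s).1 hs)) := by
    cases hb : b with
    | true => exact s1.res_of_comm _ _ (h'.comm hb)
    | false => exact SubFus.res_of_odd hWp h.syl.1 h'.syl.1 s1 s2 hT hT' (h.odd hb) (h'.odd hb) y1 y2
  have t2 : SubFus (res σ' T (kerDet c') (fun s hs => (hT' s).1 hs)) (res σ T (kerDet c) (fun s hs => (hT s).1 hs)) := by
    cases hb : b with
    | true => exact s2.res_of_comm _ _ (h.comm hb)
    | false => exact SubFus.res_of_odd hWp h'.syl.1 h.syl.1 s2 s1 hT' hT (h'.odd hb) (h.odd hb) y2 y1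
  let K : Subgroup T := (Subgroup.center (kerDet c)).comap (res σ T (kerDet c) (fun s hs => (hT s).1 hs))
  have hK : ∀ s, s ∈ K ↔ res σ T (kerDet c) (fun s hs => (hT s).1 hs) s ∈ Subgroup.center (kerDet c) := fun s => Iff.rfl
  have hK' : ∀ s, s ∈ K ↔ res σ' T (kerDet c') (fun s hs => (hT' s).1 hs) s ∈ Subgroup.center (kerDet c') := by
    intro s
    rw [hK]
    exact (h.center s ((hT s).1 s.2)).trans (h'.center s ((hT' s).1 s.2)).symm
  have hKn : K.Normal := Subgroup.normal_comap _
  have z1 := (y1.quo hK).comp_equiv e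
  have z2 := (y2.quo hK').comp_equiv e'
  have u1 := (t1.quo y1 hK hK' le_rfl).comp_equiv e e'
  have u2 := (t2.quo y2 hK' hK le_rfl).comp_equiv e' e
  have : Finite B := Finite.of_equiv _ e.toEquiv
  exact fusTo_of z1 z2 u1 u2

end Cfsg.Agent.H751
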