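import Cfsg.Agent.H752.Inv
import Cfsg.Agent.H802.FusCentric

/-!
# The subsystem generated by the elements of `p`-power order of the automorphism groups of the centric subgroups
(helper751)

`genSystem F p` is the fusion system generated by the inner system of `S` and the automorphisms of `p`-power order
of the `F`-centric subgroups. It is invariant in `F`, and every map of a saturated `F` is an automorphism of `S`
composed with a map of it.
-/

set_option autoImplicit false

namespace Cfsg.Agent.H751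

open Cfsg Cfsg.FusionSystem Cfsg.Agent.H752

variable {Ω : Type*} [Group Ω] {S : Subgroup Ω}

/-- Generation of maps (as functions on the ambient group). -/
inductive GenRel (F : FusionSystem S) (p : ℕ) : Subgroup Ω → (Ω → Ω) → Prop
  | base (Q : Subgroup Ω) (f : Ω → Ω) (k : ℕ) : F.IsCentric Q → Mp F Q f → (∀ x ∈ Q, f x ∈ Q) →
      (∀ x ∈ Q, f^[p ^ k] x = x) → GenRel F p Q f
  | conj (P : Subgroup Ω) (s : Ω) : P ≤ S → s ∈ S → GenRel F p P (fun x => s * x * s⁻¹)
  | congr (P : Subgroup Ω) (f g : Ω → Ω) : GenRel F p P f → (∀ x ∈ P, g x = f x) → GenRel F p P g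
  | comp (P Q : Subgroup Ω) (f g : Ω → Ω) : GenRel F p P f → GenRel F p Q g → (∀ x ∈ P, f x ∈ Q) →
      GenRel F p P (fun x => g (f x))
  | symm (P R : Subgroup Ω) (f g : Ω → Ω) : GenRel F p P f →
      (∀ y ∈ R, ∃ x ∈ P, f x = y ∧ g y = x) → GenRel F p R g

variable {F : FusionSystem S} {p : ℕ}

/-- Every subsystem `E` containing the automorphisms of `p`-power order of the centric subgroups contains
the generated maps. -/
theorem GenRel.mp {E : FusionSystem S} (hE : ∀ (Q : Subgroup Ω) (f : Ω → Ω) (k : ℕ), F.IsCentric Q →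
    Mp F Q f → (∀ x ∈ Q, f x ∈ Q) → (∀ x ∈ Q, f^[p ^ k] x = x) → Mp E Q f)
    {P : Subgroup Ω} {f : Ω → Ω} (h : GenRel F p P f) : Mp E P f := by
  induction h with
  | base Q f k h1 h2 h3 h4 => exact hE Q f k h1 h2 h3 h4
  | conj P s hP hs => exact mp_conj E hP hs
  | congr P f g _ he ih => exact ih.congr he
  | comp P Q f g _ _ hPQ ih1 ih2 => exact ih1.comp ih2 hPQ
  | symm P R f g _ hg ih => exact ih.symm hg

theorem GenRel.mpF {P : Subgroup Ω} {f : Ω → Ω} (h : GenRel F p P f) : Mp F P f :=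
  h.mp fun _ _ _ _ h2 _ _ => h2

theorem GenRel.res {P R : Subgroup Ω} {f : Ω → Ω} (h : GenRel F p P f) (hR : R ≤ P) :
    GenRel F p R f := by
  have hPS := h.mpF.le
  have h1 : GenRel F p R (fun x => (1 : Ω) * x * (1 : Ω)⁻¹) := .conj R 1 (hR.trans hPS) (one_mem S)
  have h2 := h1.comp _ _ _ _ h fun x hx => by simpa using hR hx
  exact .congr _ _ _ h2 fun x _ => by simp

/-- The generated fusion system. -/
noncomputable def genSystem (F : FusionSystem S) (p : ℕ) : FusionSystem S where
  Hom P := {φ | GenRel F p P (ex φ)}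
  le_of_mem := by
    intro P φ h
    have hm : Mp F P (ex φ) := GenRel.mpF h
    refine ⟨hm.le, fun x => ?_⟩
    have := hm.mem x.2
    rwa [ex_coe] at this
  injective_of_mem := by
    intro P φ h a b hab
    have hm : Mp F P (ex φ) := GenRel.mpF h
    exact Subtype.ext (hm.inj a.2 b.2 (by rw [ex_coe, ex_coe, hab]))
  conj_mem := by
    intro P g hP hg
    exact .congr _ _ _ (.conj P g hP hg) fun x hx => ex_apply _ hx
  comp_mem := by
    intro P Q φ ψ hφ hψ h
    refine .congr _ _ _ (.comp P Q _ _ hφ hψ fun x hx => ?_) fun x hx => ?_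
    · rw [ex_apply _ hx]; exact h _
    · rw [ex_apply _ hx, ex_apply (φ : P → Ω) hx, ex_apply _ (h _)]
      rfl
  inv_mem := by
    intro P φ hφ
    have hm : Mp F P (ex φ) := GenRel.mpF hφ
    have hφF : φ ∈ F.Hom P := hm.mem_hom fun x hx => (ex_apply _ hx).symm
    obtain ⟨ψ, hψ, h1⟩ := F.inv_mem hφF
    refine ⟨ψ, .symm P _ _ _ hφ fun y hy => ?_, h1⟩
    obtain ⟨x, rfl⟩ := hy
    exact ⟨x, x.2, ex_coe _ x, (ex_apply (ψ : φ.range → Ω) (show φ x ∈ φ.range from ⟨x, rfl⟩)).trans (h1 x)⟩

theorem mp_genSystem_iff {P : Subgroup Ω} {f : Ω → Ω} : Mp (genSystem F p) P f ↔ GenRel F p P f := by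
  constructor
  · rintro ⟨φ, hφ, h⟩
    exact .congr _ _ _ hφ fun x hx => by rw [ex_apply _ hx, h x hx]
  · intro h
    obtain ⟨φ, hφ, h1⟩ := h.mpF
    refine ⟨φ, .congr _ _ _ h fun x hx => ?_, h1⟩
    rw [ex_apply _ hx, h1 x hx]

theorem genSystem_le : genSystem F p ≤ F := by
  intro P φ hφ
  have hm : Mp F P (ex φ) := GenRel.mpF hφ
  exact hm.mem_hom fun x hx => (ex_apply _ hx).symm

theorem stronglyClosed_top : F.StronglyClosed S :=
  ⟨le_rfl, fun _ _ _ hφ x => (F.le_of_mem hφ).2 x⟩

/-- Transport of generated maps by an automorphism `a` of `S` (with inverse `b`). -/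
theorem GenRel.transport {P : Subgroup Ω} {f : Ω → Ω} (h : GenRel F p P f) {a b : Ω → Ω}
    (ha : Mp F S a) (hb : Mp F S b) (hba : ∀ x ∈ S, b (a x) = x) (hab : ∀ x ∈ S, a (b x) = x) :
    ∀ R : Subgroup Ω, (∀ y, y ∈ R ↔ ∃ x ∈ P, a x = y) → GenRel F p R (fun y => a (f (b y))) := by
  induction h with
  | base Q f k h1 h2 h3 h4 =>
    intro R hR
    have hQS : Q ≤ S := h1.1
    have hRS : R ≤ S := fun y hy => by
      obtain ⟨x, hx, rfl⟩ := (hR y).1 hy
      exact ha.mem (hQS hx)
    have hbR : ∀ y ∈ R, b y ∈ Q := fun y hy => by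
      obtain ⟨x, hx, rfl⟩ := (hR y).1 hy
      rw [hba x (hQS hx)]; exact hx
    have hconj : F.IsConj Q R := by
      obtain ⟨φ, hφ, hφe⟩ := ha.res hQS
      refine ⟨φ, hφ, ?_⟩
      ext y
      rw [hR y]
      constructor
      · rintro ⟨x, rfl⟩
        exact ⟨x, x.2, (hφe x x.2).symm⟩
      · rintro ⟨x, hx, rfl⟩
        exact ⟨⟨x, hx⟩, hφe x hx⟩
    have hmaps : ∀ y ∈ R, a (f (b y)) ∈ R := fun y hy =>
      (hR _).2 ⟨f (b y), h3 _ (hbR y hy), rfl⟩
    refine .base R _ k (H802.isCentric_of_isConj h1 hconj) ?_ hmaps ?_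
    · exact ((hb.res hRS).comp h2 hbR).comp ha fun y hy => hQS (h3 _ (hbR y hy))
    · have key : ∀ n : ℕ, ∀ y ∈ R, (fun y => a (f (b y)))^[n] y = a (f^[n] (b y)) ∧ f^[n] (b y) ∈ Q := by
        intro n
        induction n with
        | zero => intro y hy; exact ⟨(hab y (hRS hy)).symm, hbR y hy⟩
        | succ n ih =>
          intro y hy
          obtain ⟨e1, e2⟩ := ih y hy
          rw [Function.iterate_succ_apply', Function.iterate_succ_apply', e1]
          refine ⟨?_, h3 _ e2⟩
          show a (f (b (a (f^[n] (b y))))) = _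
          rw [hba _ (hQS e2)]
      intro y hy
      rw [(key _ y hy).1, h4 _ (hbR y hy), hab y (hRS hy)]
  | conj P s hP hs =>
    intro R hR
    have hRS : R ≤ S := fun y hy => by
      obtain ⟨x, hx, rfl⟩ := (hR y).1 hy
      exact ha.mem (hP hx)
    refine .congr _ _ _ (.conj R (a s) hRS (ha.mem hs)) fun y hy => ?_
    have hy' := hb.mem (hRS hy)
    rw [ha.mul (mul_mem hs hy') (inv_mem hs), ha.mul hs hy', ha.inv hs, hab y (hRS hy)]
  | congr P f g hf he ih =>
    intro R hR
    refine .congr _ _ _ (ih R hR) fun y hy => ?_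
    obtain ⟨x, hx, rfl⟩ := (hR y).1 hy
    have hPS := hf.mpF.le
    rw [hba x (hPS hx), he x hx]
  | comp P Q f g hf hg hPQ ih1 ih2 =>
    intro R hR
    have hPS := hf.mpF.le
    have hQS := hg.mpF.le
    obtain ⟨RQ, hRQ, -, -⟩ := ha.exists_image hQS
    refine .congr _ _ _ (.comp R RQ _ _ (ih1 R hR) (ih2 RQ hRQ) fun y hy => ?_) fun y hy => ?_
    · obtain ⟨x, hx, rfl⟩ := (hR y).1 hy
      show a (f (b (a x))) ∈ RQ
      rw [hba x (hPS hx)]
      exact (hRQ _).2 ⟨_, hPQ x hx, rfl⟩
    · obtain ⟨x, hx, rfl⟩ := (hR y).1 hy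
      show a (g (f (b (a x)))) = a (g (b (a (f (b (a x))))))
      rw [hba x (hPS hx), hba _ (hQS (hPQ x hx))]
  | symm P R₀ f g hf hg ih =>
    intro R hR
    have hPS := hf.mpF.le
    obtain ⟨RP, hRP, -, -⟩ := ha.exists_image hPS
    refine .symm RP R _ _ (ih RP hRP) fun y hy => ?_
    obtain ⟨r, hr, rfl⟩ := (hR y).1 hy
    obtain ⟨x, hx, h1, h2⟩ := hg r hr
    have hrS : r ∈ S := by rw [← h1]; exact hf.mpF.mem hx
    refine ⟨a x, (hRP _).2 ⟨x, hx, rfl⟩, ?_, ?_⟩
    · show a (f (b (a x))) = a r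
      rw [hba x (hPS hx), h1]
    · show a (g (b (a r))) = a x
      rw [hba r hrS, h2]

/-- The generated system is invariant under the automorphisms of `S` in `F`. -/
theorem invC_genSystem [Finite S] : InvC (genSystem F p) F := by
  intro P R f a h hf ha hR
  rw [mp_genSystem_iff] at hf ⊢
  obtain ⟨b, hb, h1, h2⟩ := exists_aut_inv stronglyClosed_top ha
  have hPS := hf.mpF.le
  obtain ⟨R', hR', -, -⟩ := ha.exists_image hPS
  have h3 := hf.transport ha hb h1 (fun x hx => (h2 x hx).2) R' hR'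
  have hRR' : R ≤ R' := fun y hy => by
    obtain ⟨x, hx, h4, -⟩ := hR y hy
    exact (hR' y).2 ⟨x, hx, h4⟩
  refine .congr _ _ _ (h3.res hRR') fun y hy => ?_
  obtain ⟨x, hx, h4, h5⟩ := hR y hy
  rw [h5, ← h4, h1 x (hPS hx)]

/-- **Frattini condition for the generated system.** -/
theorem fratC_genSystem [Finite S] [Fact p.Prime] (hS : IsPGroup p S) (hF : F.IsSaturated p) :
    ∀ (P : Subgroup Ω) (f : Ω → Ω), Mp F P f → FratC (genSystem F p) F P f := by
  refine mp_induction F hS hF (fun P f => FratC (genSystem F p) F P f) ?_ ?_ ?_ ?_ ?_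
  · intro P f g _ h he
    exact h.congr he
  · intro P R f _ h hR
    exact h.res hR
  · intro P Q f g hf hg h1 h2 hPQ
    exact h1.comp stronglyClosed_top invC_genSystem h2 hPQ
  · intro P R f g hf h1 hg hinv
    exact h1.symm stronglyClosed_top invC_genSystem hinv
  · intro Q hQa hQr IH α hα f hf
    have hQS : Q ≤ S := hQa.1
    have hfQ : Finite Q := H802.finite_of_le hQS
    have hfm : Mp F Q f := mp_of_autGroup hQS hα hf
    by_cases hQ : Q = S
    · subst hQ
      exact ⟨f, hfm, fun x => x, mp_id _ le_rfl, fun x _ => rfl⟩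
    by_cases hc : F.IsCentric Q
    · -- the subgroup of `Aut_F(Q)` generated by the elements of `p`-power order
      let K : Subgroup (MulAut Q) := Subgroup.closure {κ | κ ∈ F.autGroup Q ∧ ∃ k : ℕ, κ ^ p ^ k = 1}
      have hKA : K ≤ F.autGroup Q := (Subgroup.closure_le _).2 fun κ hκ => hκ.1
      have hKn : ∀ a ∈ F.autGroup Q, ∀ k ∈ K, a * k * a⁻¹ ∈ K := by
        intro a ha k hk
        refine Subgroup.closure_induction (p := fun k _ => a * k * a⁻¹ ∈ K) ?_ ?_ ?_ ?_ hk
        · rintro κ ⟨h1, n, h2⟩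
          refine Subgroup.subset_closure ⟨mul_mem (mul_mem ha h1) (inv_mem ha), n, ?_⟩
          rw [conj_pow, h2, mul_one, mul_inv_cancel]
        · simp
        · intro x y _ _ hx hy
          have : a * (x * y) * a⁻¹ = (a * x * a⁻¹) * (a * y * a⁻¹) := by group
          rw [this]; exact mul_mem hx hy
        · intro x _ hx
          have : a * x⁻¹ * a⁻¹ = (a * x * a⁻¹)⁻¹ := by group
          rw [this]; exact inv_mem hx
      have hαm := (H759.mem_autGroup F hQS).1 hα
      obtain ⟨κ, hκ, ψ, hψ, h⟩ := H759.exists_extension F hS hQa hQr hαm (by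
          ext y
          constructor
          · rintro ⟨x, rfl⟩; exact (α x).2
          · intro hy
            exact ⟨α⁻¹ ⟨y, hy⟩, by
              show ((α (α⁻¹ ⟨y, hy⟩) : Q) : Ω) = y
              rw [MulAut.apply_inv_self]⟩) K hKA hKn
        (normalizerIn S Q) inf_le_left inf_le_right (by
          intro g hg
          have hcg : H759.conjAut Q g hg.2 ∈ K := by
            refine Subgroup.subset_closure
              ⟨H759.autGroup_map F (H759.conj_mem' F hQS hg.1 (fun x => rfl)), ?_⟩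
            obtain ⟨k, hk⟩ := hS ⟨g, hg.1⟩
            refine ⟨k, ?_⟩
            have hgk : g ^ p ^ k = 1 := congrArg Subtype.val hk
            ext x
            have key : ∀ n : ℕ, (((H759.conjAut Q g hg.2) ^ n) x : Ω) = g ^ n * x * (g ^ n)⁻¹ := by
              intro n
              induction n with
              | zero => simp
              | succ n ih =>
                rw [pow_succ', MulAut.mul_apply, H759.coe_conjAut, ih, pow_succ']
                group
            rw [key, hgk]
            simp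
          refine ⟨α * H759.conjAut Q g hg.2 * α⁻¹, hKn α hα _ hcg, 1, one_mem _, one_mem _, ?_⟩
          intro x hx hy
          have h1 : (⟨1 * (Q.subtype.comp α.toMonoidHom) x * 1⁻¹, hy⟩ : Q) = α x :=
            Subtype.ext (by simp)
          rw [h1, MulAut.mul_apply, MulAut.mul_apply, MulAut.inv_apply_self]
          rfl)
      have hle : normalizerIn S Q ≤ Q ⊔ normalizerIn S Q := le_sup_right
      have hlt : Nat.card Q < Nat.card (Q ⊔ normalizerIn S Q : Subgroup Ω) := by
        refine lt_of_lt_of_le (H802.card_lt_card_normalizerIn hS hQS hQ) ?_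
        have : Finite (Q ⊔ normalizerIn S Q : Subgroup Ω) :=
          H802.finite_of_le (sup_le hQS inf_le_left)
        exact Nat.card_mono (Set.toFinite _) hle
      have h1 := IH _ (ex ψ) (mp_ex hψ) hlt
      have h2 := h1.res (R := Q) le_sup_left
      -- elements of `K` are maps of the generated system
      have hKE : ∀ k ∈ K, Mp (genSystem F p) Q (ex fun x => ((k x : Q) : Ω)) := by
        intro k hk
        have hk' : k ∈ (genSystem F p).autGroup Q := by
          refine (Subgroup.closure_le _).2 ?_ hk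
          rintro κ ⟨h1, n, h2⟩
          refine (mp_iff_autGroup hQS κ).2 (mp_genSystem_iff.2 ?_)
          have hm : ∀ x ∈ Q, ex (fun x => ((κ x : Q) : Ω)) x ∈ Q := fun x hx => by
            rw [ex_apply _ hx]; exact (κ _).2
          refine .base Q _ n hc ((mp_iff_autGroup hQS κ).1 h1) hm ?_
          have key : ∀ n : ℕ, ∀ x (hx : x ∈ Q),
              (ex fun x => ((κ x : Q) : Ω))^[n] x = ((κ ^ n) ⟨x, hx⟩ : Q) := by
            intro n
            induction n with
            | zero => intro x hx; rfl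
            | succ n ih =>
              intro x hx
              rw [Function.iterate_succ_apply', ih x hx, ex_coe, pow_succ', MulAut.mul_apply]
          intro x hx
          rw [key _ x hx, h2]
          rfl
        exact (mp_iff_autGroup hQS k).1 hk'
      have h3 : FratC (genSystem F p) F Q (ex fun x => ((κ⁻¹ x : Q) : Ω)) :=
        FratC.of_mp le_rfl (hKE _ (inv_mem hκ))
      have hval : ∀ x (hx : x ∈ Q), ex ψ x = ((κ (α ⟨x, hx⟩) : Q) : Ω) := by
        intro x hx
        have hx' : x ∈ Q ⊔ normalizerIn S Q := (le_sup_left : Q ≤ _) hx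
        rw [ex_apply _ hx']
        exact h ⟨x, hx⟩ (α ⟨x, hx⟩).2 hx'
      have h4 := h2.comp stronglyClosed_top invC_genSystem h3 (fun x hx => by
        rw [hval x hx]
        exact (κ _).2)
      refine h4.congr fun x hx => ?_
      rw [hval x hx, ex_apply _ (κ _).2, hf x hx]
      show _ = (((κ⁻¹ * κ) (α ⟨x, hx⟩) : Q) : Ω)
      rw [inv_mul_cancel]
      rfl
    · obtain ⟨R, hQR, hcard, ψ, hψ, he⟩ := H802.exists_extension_of_not_centric hQr hc hα
      have h1 := IH R (ex ψ) (mp_ex hψ) hcard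
      refine (h1.res hQR).congr fun x hx => ?_
      rw [hf x hx, ex_apply _ (hQR hx), he x hx]

/-- Every element of `p`-power order of every automorphism group of `F` is a map of the generated system. -/
theorem mem_autGroup_genSystem [Finite S] [Fact p.Prime] (hS : IsPGroup p S) (hF : F.IsSaturated p)
    {P : Subgroup Ω} (hP : P ≤ S) {α : MulAut P} (hα : α ∈ F.autGroup P) {k : ℕ}
    (hk : α ^ p ^ k = 1) : α ∈ (genSystem F p).autGroup P := by
  obtain ⟨φ, hφ, g, hg, he⟩ := H802.exists_conj_of_orderOf hF hP hα hk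
  obtain ⟨a, ha, f₀, hf₀, h1⟩ := fratC_genSystem hS hF P (ex φ) (mp_ex hφ)
  obtain ⟨b, hb, hba, hab⟩ := exists_aut_inv stronglyClosed_top ha
  obtain ⟨R, hR, hRS, -⟩ := hf₀.exists_image le_rfl
  obtain ⟨f₁, hf₁, h2, h3⟩ := hf₀.exists_symm le_rfl hR
  have hbg := hb.mem hg
  have key : ∀ x (hx : x ∈ P), f₀ (α ⟨x, hx⟩ : P) = b g * f₀ x * (b g)⁻¹ := by
    intro x hx
    have h4 := h1 _ (α ⟨x, hx⟩).2
    rw [ex_coe, he, ← ex_coe (φ : P → Ω) ⟨x, hx⟩, h1 x hx] at h4
    have h5 := congrArg b h4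
    have hS1 := hf₀.mem hx
    rw [hba _ (hf₀.mem (α ⟨x, hx⟩).2), hb.mul (mul_mem hg (ha.mem hS1)) (inv_mem hg),
      hb.mul hg (ha.mem hS1), hb.inv hg, hba _ hS1] at h5
    exact h5.symm
  have hcomp := (hf₀.comp (mp_conj _ hRS hbg) fun x hx => (hR _).2 ⟨x, hx, rfl⟩).comp hf₁
    (fun x hx => by
      show b g * f₀ x * (b g)⁻¹ ∈ R
      rw [← key x hx]
      exact (hR _).2 ⟨_, (α ⟨x, hx⟩).2, rfl⟩)
  refine hcomp.mem_autGroup fun x hx => ?_
  show f₁ (b g * f₀ x * (b g)⁻¹) = _
  rw [← key x hx, h2 _ (α ⟨x, hx⟩).2]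

end Cfsg.Agent.H751
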