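import Cfsg.Agent.H781.Realized
import Cfsg.Agent.H755.PIndex

/-!
# Comparing the fusion of a `p`-group in two finite groups (helper751)
-/

set_option autoImplicit false

namespace Cfsg.Agent.H751

open Cfsg Cfsg.FusionSystem

section SubFus

variable {S G H : Type*} [Group S] [Group G] [Group H]

/-- The fusion of subgroups of `S` in `G` (through `τ`) is fusion in `H` (through `τ'`). -/
def SubFus (τ : S →* G) (τ' : S →* H) : Prop :=
  ∀ (P : Subgroup S) (f : S → S) (g : G), (∀ x ∈ P, τ (f x) = g * τ x * g⁻¹) →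
    ∃ h : H, ∀ x ∈ P, τ' (f x) = h * τ' x * h⁻¹

/-- `τ` embeds `S` onto a Sylow `p`-subgroup of `G`. -/
def IsSyl (p : ℕ) (τ : S →* G) : Prop :=
  Function.Injective τ ∧ ∃ T : Sylow p G, (T : Subgroup G) = τ.range

/-- Every Sylow `p`-subgroup of `G` embeds onto a Sylow `p`-subgroup of `H` with the same fusion. -/
def FusTo (p : ℕ) (G H : Type*) [Group G] [Group H] : Prop :=
  ∀ S : Sylow p G, ∃ ι : ↥(S : Subgroup G) →* H,
    (groupFusionSystem (S : Subgroup G)).IsRealizedBy ι ∧ ∃ T : Sylow p H, (T : Subgroup H) = ι.range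

/-- The restriction of `τ` to subgroups. -/
def res (τ : S →* G) (T : Subgroup S) (N : Subgroup G) (h : ∀ s ∈ T, τ s ∈ N) : T →* N :=
  (τ.comp T.subtype).codRestrict N (fun s => h s s.2)

theorem res_apply (τ : S →* G) (T : Subgroup S) (N : Subgroup G) (h : ∀ s ∈ T, τ s ∈ N) (s : T) :
    (res τ T N h s : G) = τ s := rfl

theorem res_injective {τ : S →* G} (hτ : Function.Injective τ) (T : Subgroup S) (N : Subgroup G)
    (h : ∀ s ∈ T, τ s ∈ N) : Function.Injective (res τ T N h) := by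
  intro a b hab
  exact Subtype.ext (hτ (congrArg Subtype.val hab))

theorem fusTo_of {p : ℕ} [Fact p.Prime] [Finite G] {τ : S →* G} {τ' : S →* H} (hτ : IsSyl p τ) (hτ' : IsSyl p τ')
    (h1 : SubFus τ τ') (h2 : SubFus τ' τ) : FusTo p G H := by
  intro T
  obtain ⟨hinj, T0, hT0⟩ := hτ
  obtain ⟨hinj', T0', hT0'⟩ := hτ'
  obtain ⟨g, hg⟩ := MulAction.exists_smul_eq G T T0
  -- `t ↦ g t g⁻¹` maps `T` onto the image of `τ`
  have hmem : ∀ t : (T : Subgroup G), g * (t : G) * g⁻¹ ∈ τ.range := by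
    intro t
    rw [← hT0, ← hg]
    exact ⟨t, t.2, rfl⟩
  let e : S ≃* τ.range := MonoidHom.ofInjective hinj
  let k : (T : Subgroup G) →* τ.range := ((MulAut.conj g).toMonoidHom.comp (T : Subgroup G).subtype).codRestrict _ hmem
  let θ : (T : Subgroup G) →* S := e.symm.toMonoidHom.comp k
  have hθ : ∀ t, τ (θ t) = g * (t : G) * g⁻¹ := by
    intro t
    have h3 : e (e.symm (k t)) = k t := e.apply_symm_apply _
    exact congrArg Subtype.val h3
  have hθinj : Function.Injective θ := by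
    intro a b hab
    have h3 := hθ a
    rw [hab, hθ b] at h3
    exact Subtype.ext (mul_left_cancel (mul_right_cancel h3)).symm
  have hθsurj : Function.Surjective θ := by
    intro s
    have h3 : τ s ∈ (T0 : Subgroup G) := by rw [hT0]; exact ⟨s, rfl⟩
    rw [← hg] at h3
    obtain ⟨t, ht, hts⟩ := h3
    refine ⟨⟨t, ht⟩, hinj ?_⟩
    rw [hθ]
    exact hts
  refine ⟨τ'.comp θ, ⟨hinj'.comp hθinj, fun P hP φ hφ => ⟨?_, ?_⟩⟩, T0', ?_⟩
  · rintro ⟨-, -, x, hx⟩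
    -- transport `φ` to `S`
    classical
    let f : S → S := fun s => if hs : ∃ t : P, θ ⟨t, hP t.2⟩ = s then θ ⟨φ hs.choose, hφ _⟩ else 1
    have hf : ∀ t : P, f (θ ⟨t, hP t.2⟩) = θ ⟨φ t, hφ t⟩ := by
      intro t
      have hs : ∃ t' : P, θ ⟨t', hP t'.2⟩ = θ ⟨t, hP t.2⟩ := ⟨t, rfl⟩
      have h3 : hs.choose = t := Subtype.ext (Subtype.mk.inj (hθinj hs.choose_spec))
      show (if hs : ∃ t' : P, θ ⟨t', hP t'.2⟩ = θ ⟨t, hP t.2⟩ then θ ⟨φ hs.choose, hφ _⟩ else 1) = _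
      rw [dif_pos hs]
      congr 2
      rw [h3]
    obtain ⟨h, hh⟩ := h1 ((P.subgroupOf (T : Subgroup G)).map θ) f (g * x * g⁻¹) (by
      rintro _ ⟨t, ht, rfl⟩
      have h4 := hf ⟨t, ht⟩
      rw [show θ t = θ ⟨(⟨t, ht⟩ : P), hP ht⟩ from rfl, h4, hθ, hθ]
      show g * φ ⟨t, ht⟩ * g⁻¹ = _
      rw [hx]
      group)
    refine ⟨h, fun t => ?_⟩
    have h5 := hh (θ ⟨t, hP t.2⟩) ⟨⟨t, hP t.2⟩, t.2, rfl⟩
    rw [hf] at h5
    exact h5
  · rintro ⟨x, hx⟩
    refine ⟨hP, hφ, ?_⟩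
    classical
    let f : S → S := fun s => if hs : ∃ t : P, θ ⟨t, hP t.2⟩ = s then θ ⟨φ hs.choose, hφ _⟩ else 1
    have hf : ∀ t : P, f (θ ⟨t, hP t.2⟩) = θ ⟨φ t, hφ t⟩ := by
      intro t
      have hs : ∃ t' : P, θ ⟨t', hP t'.2⟩ = θ ⟨t, hP t.2⟩ := ⟨t, rfl⟩
      have h3 : hs.choose = t := Subtype.ext (Subtype.mk.inj (hθinj hs.choose_spec))
      show (if hs : ∃ t' : P, θ ⟨t', hP t'.2⟩ = θ ⟨t, hP t.2⟩ then θ ⟨φ hs.choose, hφ _⟩ else 1) = _
      rw [dif_pos hs]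
      congr 2
      rw [h3]
    obtain ⟨h, hh⟩ := h2 ((P.subgroupOf (T : Subgroup G)).map θ) f x (by
      rintro _ ⟨t, ht, rfl⟩
      have h4 := hf ⟨t, ht⟩
      rw [show θ t = θ ⟨(⟨t, ht⟩ : P), hP ht⟩ from rfl, h4]
      exact hx ⟨t, ht⟩)
    refine ⟨g⁻¹ * h * g, fun t => ?_⟩
    have h5 := hh (θ ⟨t, hP t.2⟩) ⟨⟨t, hP t.2⟩, t.2, rfl⟩
    rw [hf, hθ, hθ] at h5
    have h6 : φ t = g⁻¹ * (g * φ t * g⁻¹) * g := by group
    rw [h6, h5]
    group
  · rw [hT0']
    ext y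
    constructor
    · rintro ⟨s, rfl⟩
      obtain ⟨t, rfl⟩ := hθsurj s
      exact ⟨t, rfl⟩
    · rintro ⟨t, rfl⟩
      exact ⟨θ t, rfl⟩

theorem IsSyl.comp_equiv {p : ℕ} [Fact p.Prime] [Finite G] {τ : S →* G} (h : IsSyl p τ) {G' : Type*} [Group G']
    (e : G ≃* G') : IsSyl p (e.toMonoidHom.comp τ) := by
  obtain ⟨hinj, T, hT⟩ := h
  have hs : Function.Surjective e.toMonoidHom := e.surjective
  refine ⟨e.injective.comp hinj, T.mapSurjective hs, ?_⟩
  rw [Sylow.coe_mapSurjective, hT, MonoidHom.range_comp]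

theorem SubFus.comp_equiv {τ : S →* G} {τ' : S →* H} (h : SubFus τ τ') {G' H' : Type*} [Group G'] [Group H']
    (e : G ≃* G') (e' : H ≃* H') : SubFus (e.toMonoidHom.comp τ) (e'.toMonoidHom.comp τ') := by
  intro P f g hg
  obtain ⟨k, hk⟩ := h P f (e.symm g) (fun x hx => by
    apply e.injective
    rw [map_mul, map_mul, map_inv, e.apply_symm_apply]
    exact hg x hx)
  refine ⟨e' k, fun x hx => ?_⟩
  show e' (τ' (f x)) = e' k * e' (τ' x) * (e' k)⁻¹
  rw [hk x hx, map_mul, map_mul, map_inv]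

/-- Restriction to normal subgroups, in the presence of a supplement centralizing the `p`-group. -/
theorem SubFus.res_of_comm {τ : S →* G} {τ' : S →* H} (h : SubFus τ τ') {T : Subgroup S} {N : Subgroup G}
    {N' : Subgroup H} (hN : ∀ s ∈ T, τ s ∈ N) (hN' : ∀ s ∈ T, τ' s ∈ N')
    (hc : ∀ k : H, ∃ c : H, (∀ s, Commute c (τ' s)) ∧ k * c ∈ N') : SubFus (res τ T N hN) (res τ' T N' hN') := by
  intro P f g hg
  classical
  obtain ⟨k, hk⟩ := h (P.map T.subtype) (fun s => if hs : s ∈ T then (f ⟨s, hs⟩ : S) else 1) g (by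
    rintro _ ⟨x, hx, rfl⟩
    have h1 := hg x hx
    show τ (if hs : (x : S) ∈ T then (f ⟨x, hs⟩ : S) else 1) = g * τ x * (g : G)⁻¹
    rw [dif_pos x.2]
    exact congrArg Subtype.val h1)
  obtain ⟨c, hc1, hc2⟩ := hc k
  refine ⟨⟨k * c, hc2⟩, fun x hx => ?_⟩
  apply Subtype.ext
  show τ' (f x) = k * c * τ' x * (k * c)⁻¹
  have h2 := hk x ⟨x, hx, rfl⟩
  have h3 : (if hs : (x : S) ∈ T then (f ⟨x, hs⟩ : S) else 1) = f x := dif_pos x.2
  have h4 : τ' (f x) = k * τ' x * k⁻¹ := by rw [← h2]; exact congrArg τ' h3.symm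
  rw [h4, mul_assoc k c, (hc1 x).eq]
  group

end SubFus

section Odd

variable {S G : Type*} [Group S] [Group G]

/-- The embedding of the top subgroup. -/
def topHom (τ : S →* G) : (⊤ : Subgroup S) →* G := τ.comp (⊤ : Subgroup S).subtype

theorem topHom_injective {τ : S →* G} (hτ : Function.Injective τ) : Function.Injective (topHom τ) := by
  intro a b hab
  exact Subtype.ext (hτ hab)

/-- Automorphisms of odd order are induced by the normal subgroup. -/
theorem exists_mem_of_coprime [Finite G] {p : ℕ} [Fact p.Prime] {τ : S →* G} {N : Subgroup G}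
    (hodd : ∀ g : G, Nat.Coprime (orderOf g) p → ∃ c ∈ Subgroup.center G, g * c ∈ N) {P : Subgroup S} {α : MulAut P}
    {g : G} (hg : ∀ x : P, τ (α x : P) = g * τ x * g⁻¹) (ho : Nat.Coprime (orderOf α) p) :
    ∃ k ∈ N, ∀ x : P, τ (α x : P) = k * τ x * k⁻¹ := by
  obtain ⟨k, hk⟩ := Cfsg.Agent.Transfer.Residual.exists_pow_prime_pow_coprime p g
  have hpow : ∀ (n : ℕ) (x : P), τ ((α ^ n) x : P) = g ^ n * τ x * (g ^ n)⁻¹ := by
    intro n
    induction n with
    | zero => intro x; simp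
    | succ n ih =>
      intro x
      rw [pow_succ, MulAut.mul_apply, ih, hg, pow_succ]
      group
  have hcop : Nat.Coprime (orderOf α) (p ^ k) := ho.pow_right k
  obtain ⟨m, hm⟩ := exists_pow_eq_self_of_coprime hcop.symm
  have h1 : Nat.Coprime (orderOf ((g ^ p ^ k) ^ m)) p := Nat.Coprime.coprime_dvd_left (orderOf_pow_dvd m) hk
  obtain ⟨c, hc, hcN⟩ := hodd _ h1
  refine ⟨(g ^ p ^ k) ^ m * c, hcN, fun x => ?_⟩
  have h2 := hpow (p ^ k * m) x
  rw [pow_mul, hm] at h2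
  have h3 : c * τ x = τ x * c := ((Subgroup.mem_center_iff.1 hc) _).symm
  rw [h2, pow_mul, mul_assoc _ c, h3]
  group

/-- The fusion of a normal subgroup of `p`-power index modulo the centre, as a subsystem of `p`-power index. -/
theorem hasPPowerIndexIn [Finite G] {p : ℕ} [Fact p.Prime] {τ : S →* G} (hτ : Function.Injective τ) {N : Subgroup G}
    [N.Normal] {T : Subgroup S} (hT : ∀ s, s ∈ T ↔ τ s ∈ N)
    (hodd : ∀ g : G, Nat.Coprime (orderOf g) p → ∃ c ∈ Subgroup.center G, g * c ∈ N) :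
    (H781.pullback (res τ T N (fun s hs => (hT s).1 hs)) (res_injective hτ T N _)).HasPPowerIndexIn
      (H781.pullback (topHom τ) (topHom_injective hτ)) p := by
  have hmem : ∀ (P : Subgroup S) (α : MulAut P), α ∈ (H781.pullback (topHom τ) (topHom_injective hτ)).autGroup P ↔
      ∃ g : G, ∀ x : P, τ (α x : P) = g * τ x * g⁻¹ := by
    intro P α
    rw [H802.mem_autGroup_iff _ le_top]
    constructor
    · rintro ⟨_, _, g, hg⟩
      exact ⟨g, hg⟩
    · rintro ⟨g, hg⟩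
      exact ⟨le_top, fun _ => trivial, g, hg⟩
  let A : ∀ P : Subgroup S, Subgroup (MulAut P) := fun P =>
    { carrier := {α | ∃ k ∈ N, ∀ x : P, τ (α x : P) = k * τ x * k⁻¹}
      mul_mem' := by
        rintro α β ⟨k, hk, hα⟩ ⟨l, hl, hβ⟩
        refine ⟨k * l, N.mul_mem hk hl, fun x => ?_⟩
        rw [MulAut.mul_apply, hα, hβ]
        group
      one_mem' := ⟨1, N.one_mem, fun x => by simp⟩
      inv_mem' := by
        rintro α ⟨k, hk, hα⟩
        refine ⟨k⁻¹, N.inv_mem hk, fun x => ?_⟩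
        have h1 := hα (α⁻¹ x)
        rw [← MulAut.mul_apply, mul_inv_cancel, MulAut.one_apply] at h1
        rw [h1]
        group }
  have hA : ∀ P : Subgroup S, (pResidual p ((H781.pullback (topHom τ) (topHom_injective hτ)).autGroup P)).map
      ((H781.pullback (topHom τ) (topHom_injective hτ)).autGroup P).subtype ≤ A P := by
    intro P
    rw [Cfsg.Agent.Transfer.Residual.pResidual_def, MonoidHom.map_closure, Subgroup.closure_le]
    rintro _ ⟨α, hα, rfl⟩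
    obtain ⟨g, hg⟩ := (hmem P α).1 α.2
    have ho : Nat.Coprime (orderOf (α : MulAut P)) p := by rw [Subgroup.orderOf_coe]; exact hα
    exact exists_mem_of_coprime hodd hg ho
  refine ⟨?_, ?_, ?_⟩
  · intro P φ hφ'
    obtain ⟨hP, hφ, g, hg⟩ := hφ'
    exact ⟨le_top, fun _ => trivial, g, fun x => congrArg Subtype.val (hg x)⟩
  · unfold hyperfocalSubgroup
    rw [Subgroup.closure_le]
    rintro _ ⟨P, α, x, -, hα, rfl⟩
    obtain ⟨k, hk, hk'⟩ := hA P ⟨α, hα, rfl⟩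
    have h6 : τ (((α : MulAut P) x : P) : S) = k * τ x * k⁻¹ := hk' x
    rw [SetLike.mem_coe, hT, map_mul, map_inv, h6]
    have h5 : (τ x)⁻¹ * (k * τ x * k⁻¹) = ((τ x)⁻¹ * k * (τ x)⁻¹⁻¹) * k⁻¹ := by group
    rw [h5]
    exact N.mul_mem (Subgroup.Normal.conj_mem inferInstance k hk _) (N.inv_mem hk)
  · intro P hP
    refine (hA P).trans ?_
    rintro α ⟨k, hk, hk'⟩
    rw [H802.mem_autGroup_iff _ hP]
    exact ⟨hP, fun x => hP (α x).2, ⟨k, hk⟩, fun x => Subtype.ext (hk' x)⟩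

variable {H : Type*} [Group H]

theorem SubFus.mem_pullback {σ : S →* G} {σ' : S →* H} (h1 : Function.Injective σ)
    (h2 : Function.Injective σ') (hs : SubFus σ σ') {P : Subgroup S} {φ : P →* S}
    (hφ : φ ∈ (H781.pullback (topHom σ) (topHom_injective h1)).Hom P) :
    φ ∈ (H781.pullback (topHom σ') (topHom_injective h2)).Hom P := by
  obtain ⟨_, _, g, hg⟩ := hφ
  classical
  obtain ⟨k, hk⟩ := hs P (fun s => if hs : s ∈ P then φ ⟨s, hs⟩ else 1) g (fun x hx => by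
    show σ (if hs : x ∈ P then φ ⟨x, hs⟩ else 1) = _
    rw [dif_pos hx]
    exact hg ⟨x, hx⟩)
  refine ⟨le_top, fun _ => trivial, k, fun x => ?_⟩
  have h3 := hk x x.2
  have h4 : (if hs : (x : S) ∈ P then φ ⟨x, hs⟩ else 1) = φ x := dif_pos x.2
  show σ' (φ x) = k * σ' x * k⁻¹
  rw [← h3]
  exact congrArg σ' h4.symm

/-- **Comparison** of the fusion in normal subgroups of `p`-power index modulo the centre. -/
theorem SubFus.res_of_odd [Finite S] [Finite G] [Finite H] {p : ℕ} [Fact p.Prime] {τ : S →* G} {τ' : S →* H}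
    (hS : IsPGroup p S) (hτ : Function.Injective τ) (hτ' : Function.Injective τ') (h : SubFus τ τ')
    (h' : SubFus τ' τ) {T : Subgroup S} {N : Subgroup G} [N.Normal] {N' : Subgroup H} [N'.Normal]
    (hN : ∀ s, s ∈ T ↔ τ s ∈ N) (hN' : ∀ s, s ∈ T ↔ τ' s ∈ N')
    (hodd : ∀ g : G, Nat.Coprime (orderOf g) p → ∃ c ∈ Subgroup.center G, g * c ∈ N)
    (hodd' : ∀ g : H, Nat.Coprime (orderOf g) p → ∃ c ∈ Subgroup.center H, g * c ∈ N')
    (hR : IsSyl p (res τ T N (fun s hs => (hN s).1 hs))) (hR' : IsSyl p (res τ' T N' (fun s hs => (hN' s).1 hs))) :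
    SubFus (res τ T N (fun s hs => (hN s).1 hs)) (res τ' T N' (fun s hs => (hN' s).1 hs)) := by
  have hF : H781.pullback (topHom τ) (topHom_injective hτ) = H781.pullback (topHom τ') (topHom_injective hτ') := by
    refine H802.fusionSystem_ext (fun P => ?_)
    exact Set.Subset.antisymm (fun φ hφ => SubFus.mem_pullback hτ hτ' h hφ)
      (fun φ hφ => SubFus.mem_pullback hτ' hτ h' hφ)
  have h1 := hasPPowerIndexIn hτ hN hodd
  have h2 := hasPPowerIndexIn hτ' hN' hodd'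
  rw [← hF] at h2
  obtain ⟨hRi, R, hR⟩ := hR
  obtain ⟨hRi', R', hR'⟩ := hR'
  have hs1 := H781.isSaturated_of_isRealizedBy (H781.pullback_isRealizedBy _ hRi) R hR
  have hs2 := H781.isSaturated_of_isRealizedBy (H781.pullback_isRealizedBy _ hRi') R' hR'
  have hT : IsPGroup p T := hS.to_subgroup T
  have hE := fun P => H755.hom_eq_of_pPowerIndex hT hs1 hs2 h1 h2 P
  intro P f g hg
  have hinj : ∀ s t : T, s ∈ P → t ∈ P → f (s * t) = f s * f t := by
    intro s t hs ht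
    apply hRi
    rw [map_mul, hg _ (P.mul_mem hs ht), hg _ hs, hg _ ht, map_mul]
    group
  let P' : Subgroup S := P.map T.subtype
  have hP' : ∀ x : P', ∃ hx : (x : S) ∈ T, (⟨x, hx⟩ : T) ∈ P := by
    rintro ⟨_, x, hx, rfl⟩
    exact ⟨x.2, hx⟩
  let φ : P' →* S :=
    { toFun := fun x => (f ⟨x, (hP' x).choose⟩ : S)
      map_one' := by
        have h3 : (⟨(1 : P'), (hP' 1).choose⟩ : T) = 1 := rfl
        rw [h3]
        have h4 := hinj 1 1 P.one_mem P.one_mem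
        rw [mul_one] at h4
        rw [left_eq_mul.1 h4]
        rfl
      map_mul' := fun x y => by
        have h3 := hinj ⟨x, (hP' x).choose⟩ ⟨y, (hP' y).choose⟩ (hP' x).choose_spec (hP' y).choose_spec
        exact congrArg Subtype.val h3 }
  have hφ : φ ∈ (H781.pullback (res τ T N (fun s hs => (hN s).1 hs)) hRi).Hom P' := by
    refine ⟨fun x hx => (hP' ⟨x, hx⟩).choose, fun x => (f ⟨x, (hP' x).choose⟩).2, g, fun x => ?_⟩
    exact hg ⟨x, (hP' x).choose⟩ (hP' x).choose_spec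
  rw [hE] at hφ
  obtain ⟨_, _, k, hk⟩ := hφ
  refine ⟨k, fun x hx => ?_⟩
  exact hk ⟨x, x, hx, rfl⟩

end Odd

section Quot

variable {S G H : Type*} [Group S] [Group G] [Group H]

/-- The restriction to a normal subgroup is again an embedding onto a Sylow subgroup. -/
theorem IsSyl.res {p : ℕ} [Fact p.Prime] [Finite G] {τ : S →* G} (h : IsSyl p τ) {N : Subgroup G} [hNn : N.Normal]
    {T : Subgroup S} (hT : ∀ s, s ∈ T ↔ τ s ∈ N) : IsSyl p (H751.res τ T N (fun s hs => (hT s).1 hs)) := by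
  obtain ⟨hinj, T0, hT0⟩ := h
  refine ⟨res_injective hinj T N _, ?_⟩
  obtain ⟨R, hR⟩ := ((H802.sylIn_top_of_sylow T0).inf_normal le_top
    (fun k _ m hm => hNn.conj_mem m hm k)).exists_sylow
  refine ⟨R, ?_⟩
  rw [hR]
  ext ⟨x, hx⟩
  rw [Subgroup.mem_subgroupOf, hT0]
  constructor
  · rintro ⟨⟨s, rfl⟩, hs⟩
    exact ⟨⟨s, (hT s).2 hs⟩, rfl⟩
  · rintro ⟨s, hs⟩
    refine ⟨⟨s, congrArg Subtype.val hs⟩, hx⟩

/-- The induced map of quotients. -/
def quo (τ : S →* G) {K : Subgroup S} [K.Normal] {Z : Subgroup G} [Z.Normal] (h : ∀ s, s ∈ K ↔ τ s ∈ Z) :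
    S ⧸ K →* G ⧸ Z := QuotientGroup.map K Z τ (fun s hs => (h s).1 hs)

theorem IsSyl.quo {p : ℕ} [Fact p.Prime] [Finite G] {τ : S →* G} (hτ : IsSyl p τ) {K : Subgroup S} [K.Normal]
    {Z : Subgroup G} [Z.Normal] (h : ∀ s, s ∈ K ↔ τ s ∈ Z) : IsSyl p (H751.quo τ h) := by
  obtain ⟨hinj, T0, hT0⟩ := hτ
  refine ⟨?_, ?_⟩
  · rw [injective_iff_map_eq_one]
    intro x hx
    obtain ⟨s, rfl⟩ := QuotientGroup.mk_surjective x
    have h1 : ((τ s : G) : G ⧸ Z) = 1 := hx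
    rw [QuotientGroup.eq_one_iff] at h1
    exact (QuotientGroup.eq_one_iff s).2 ((h s).2 h1)
  · refine ⟨T0.mapSurjective (QuotientGroup.mk'_surjective Z), ?_⟩
    rw [Sylow.coe_mapSurjective, hT0]
    ext y
    constructor
    · rintro ⟨_, ⟨s, rfl⟩, rfl⟩
      exact ⟨s, rfl⟩
    · rintro ⟨x, rfl⟩
      obtain ⟨s, rfl⟩ := QuotientGroup.mk_surjective x
      exact ⟨τ s, ⟨s, rfl⟩, rfl⟩

theorem SubFus.quo {p : ℕ} [Fact p.Prime] [Finite G] {τ : S →* G} {τ' : S →* H} (hf : SubFus τ τ')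
    (hτ : IsSyl p τ) {K : Subgroup S} [K.Normal]
    {Z : Subgroup G} [Z.Normal] {Z' : Subgroup H} [Z'.Normal] (h : ∀ s, s ∈ K ↔ τ s ∈ Z)
    (h' : ∀ s, s ∈ K ↔ τ' s ∈ Z') (hZ : Z ≤ Subgroup.center G) : SubFus (H751.quo τ h) (H751.quo τ' h') := by
  classical
  intro P f g hg
  obtain ⟨hinj, T0, hT0⟩ := hτ
  obtain ⟨g, rfl⟩ := QuotientGroup.mk_surjective g
  have hp : ∀ s : S, ∃ k : ℕ, τ s ^ p ^ k = 1 := by
    intro s
    have h1 : τ s ∈ (T0 : Subgroup G) := by rw [hT0]; exact ⟨s, rfl⟩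
    obtain ⟨k, hk⟩ := T0.isPGroup' ⟨τ s, h1⟩
    exact ⟨k, congrArg Subtype.val hk⟩
  have hex : ∀ x : S, (x : S ⧸ K) ∈ P → ∃ y : S, τ y = g * τ x * g⁻¹ ∧ (y : S ⧸ K) = f (x : S ⧸ K) := by
    intro x hx
    obtain ⟨s, hs⟩ := QuotientGroup.mk_surjective (f (x : S ⧸ K))
    have h1 := hg _ hx
    rw [← hs] at h1
    have h2 : ((τ s : G) : G ⧸ Z) = ((g * τ x * g⁻¹ : G) : G ⧸ Z) := h1
    rw [QuotientGroup.eq] at h2
    have hzc := hZ h2
    set z := (τ s)⁻¹ * (g * τ x * g⁻¹) with hz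
    have hzs : τ s * z = g * τ x * g⁻¹ := by rw [hz]; group
    obtain ⟨k, hk⟩ := hp s
    obtain ⟨l, hl⟩ := hp x
    have hcomm : Commute (τ s) z := (Subgroup.mem_center_iff.1 hzc (τ s))
    have hzp : z ^ p ^ (k + l) = 1 := by
      have h3 : (τ s * z) ^ p ^ (k + l) = 1 := by
        rw [hzs, conj_pow, pow_add, mul_comm (p ^ k), pow_mul, hl, one_pow, mul_one, mul_inv_cancel]
      rw [hcomm.mul_pow, pow_add, pow_mul, hk, one_pow, one_mul, ← pow_add] at h3
      exact h3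
    have hzT : z ∈ τ.range := by
      have hn : (Subgroup.zpowers z).Normal := ⟨fun n hn y => by
        obtain ⟨m, rfl⟩ := hn
        have h4 : y * z ^ m = z ^ m * y := (Subgroup.mem_center_iff.1 (Subgroup.zpow_mem _ hzc m)) y
        show y * z ^ m * y⁻¹ ∈ _
        rw [h4, mul_inv_cancel_right]
        exact ⟨m, rfl⟩⟩
      have hpz : IsPGroup p (Subgroup.zpowers z) := by
        rintro ⟨_, m, rfl⟩
        refine ⟨k + l, Subtype.ext ?_⟩
        show (z ^ m) ^ p ^ (k + l) = 1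
        rw [← zpow_natCast, ← zpow_mul, mul_comm, zpow_mul, zpow_natCast, hzp, one_zpow]
      have h5 := T0.isPGroup'.to_sup_of_normal_right hpz
      have h6 := T0.is_maximal' h5 le_sup_left
      rw [← hT0, ← h6]
      exact (le_sup_right : Subgroup.zpowers z ≤ _) (Subgroup.mem_zpowers z)
    obtain ⟨w, hw⟩ := hzT
    refine ⟨s * w, by rw [map_mul, hw, hzs], ?_⟩
    rw [← hs]
    have h7 : w ∈ K := (h w).2 (by rw [hw]; exact h2)
    rw [QuotientGroup.mk_mul, (QuotientGroup.eq_one_iff w).2 h7, mul_one]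
  choose! y hy1 hy2 using hex
  obtain ⟨k, hk⟩ := hf (P.comap (QuotientGroup.mk' K)) y g (fun x hx => hy1 x hx)
  refine ⟨(k : H ⧸ Z'), fun x hx => ?_⟩
  obtain ⟨s, rfl⟩ := QuotientGroup.mk_surjective x
  rw [← hy2 s hx]
  have h8 := hk s hx
  show ((τ' (y s) : H) : H ⧸ Z') = _
  rw [h8]
  rfl

end Quot

end Cfsg.Agent.H751
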