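import Cfsg.Agent.H751.CycRing
import Cfsg.Agent.H751.Pull
import Cfsg.Agent.H751.Diag
import Cfsg.Agent.H751.Herm

/-!
# Reductions of a representation of a 2-group over `ℤ[ζ]` have the same fusion (helper751)
-/

set_option autoImplicit false

namespace Cfsg.Agent.H751

open Polynomial

universe u v

variable {n : Type*} [Fintype n] [DecidableEq n] {O : Type*} [CommRing O]
  {L : ℕ} {ζ : O} {W : Type*} [Group W]

/-- `τ` is, over a larger field, a reduction of `ρ`. -/
def IsReal (L : ℕ) (ζ : O) (ρ : W →* Matrix.GeneralLinearGroup n O) {F : Type u} [Field F]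
    (τ : W →* Matrix.GeneralLinearGroup n F) : Prop :=
  ∃ (K : Type u) (_ : Field K) (i : F →+* K) (φ : O →+* K) (g : Matrix.GeneralLinearGroup n K),
    IsPrimitiveRoot (φ ζ) (2 ^ L) ∧ ∀ w, (τ w : Matrix n n F).map i =
      (g : Matrix n n K) * ((ρ w : Matrix n n O).map φ) * ((g⁻¹ : Matrix.GeneralLinearGroup n K) : Matrix n n K)

variable {ρ : W →* Matrix.GeneralLinearGroup n O} {F : Type u} [Field F] {τ : W →* Matrix.GeneralLinearGroup n F}

theorem coe_pow_eq_one {R : Type*} [CommRing R] {k : ℕ} (ρ : W →* Matrix.GeneralLinearGroup n R) {w : W}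
    (hw : w ^ k = 1) : (ρ w : Matrix n n R) ^ k = 1 := by
  rw [← Units.val_pow_eq_pow_val, ← map_pow, hw, map_one, Units.val_one]

theorem charpoly_conj_eq {K : Type*} [Field K] (g : Matrix.GeneralLinearGroup n K) (A : Matrix n n K) :
    ((g : Matrix n n K) * A * ((g⁻¹ : Matrix.GeneralLinearGroup n K) : Matrix n n K)).charpoly = A.charpoly := by
  rw [Matrix.charpoly_mul_comm, ← mul_assoc, ← Units.val_mul, inv_mul_cancel, Units.val_one, one_mul]

theorem IsReal.charpoly_iff [IsDomain O] (hζ : IsPrimitiveRoot ζ (2 ^ L)) (h : IsReal L ζ ρ τ)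
    (hW : ∀ w : W, w ^ 2 ^ L = 1) (w w' : W) :
    (τ w : Matrix n n F).charpoly = (τ w' : Matrix n n F).charpoly ↔
      (ρ w : Matrix n n O).charpoly = (ρ w' : Matrix n n O).charpoly := by
  obtain ⟨K, _, i, φ, g, hφ, hg⟩ := h
  have h1 : ∀ w, (τ w : Matrix n n F).charpoly.map i = (ρ w : Matrix n n O).charpoly.map φ := by
    intro w
    rw [← Matrix.charpoly_map, hg, charpoly_conj_eq, Matrix.charpoly_map]
  constructor
  · intro h2
    refine charpoly_eq_of_map hζ hφ (coe_pow_eq_one ρ (hW w)) (coe_pow_eq_one ρ (hW w')) ?_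
    rw [Matrix.charpoly_map, Matrix.charpoly_map, ← h1, ← h1, h2]
  · intro h2
    apply Polynomial.map_injective i i.injective
    rw [h1, h1, h2]

theorem IsReal.det_iff [IsDomain O] (hζ : IsPrimitiveRoot ζ (2 ^ L)) (h : IsReal L ζ ρ τ)
    (hW : ∀ w : W, w ^ 2 ^ L = 1) (w : W) :
    (τ w : Matrix n n F).det = 1 ↔ (ρ w : Matrix n n O).det = 1 := by
  obtain ⟨K, _, i, φ, g, hφ, hg⟩ := h
  rw [← det_eq_one_iff_of_map hζ hφ (coe_pow_eq_one ρ (hW w))]
  have h1 : ((τ w : Matrix n n F).map i).det = i (τ w : Matrix n n F).det := by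
    rw [RingHom.map_det]
    rfl
  have h2 : ((τ w : Matrix n n F).map i).det = ((ρ w : Matrix n n O).map φ).det := by
    rw [hg, Matrix.det_mul, Matrix.det_mul, mul_right_comm, ← Matrix.det_mul, ← Units.val_mul, mul_inv_cancel,
      Units.val_one, Matrix.det_one, one_mul]
  rw [← h2, h1]
  constructor
  · intro h3
    rw [h3, map_one]
  · intro h3
    exact i.injective (by rw [h3, map_one])

/-- The comparison of the fusion in two groups of matrices. -/
theorem subFus_of_isReal [IsDomain O] (hζ : IsPrimitiveRoot ζ (2 ^ L)) (hW : ∀ w : W, w ^ 2 ^ L = 1) [Finite W]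
    {G G' : Type*} [Group G] [Group G'] {F' : Type v} [Field F'] {c : G →* Matrix.GeneralLinearGroup n F}
    {c' : G' →* Matrix.GeneralLinearGroup n F'} {σ : W →* G} {σ' : W →* G'} (hσ : Function.Injective σ)
    (h : IsReal L ζ ρ (c.comp σ)) (h' : IsReal L ζ ρ (c'.comp σ'))
    (crit : ∀ (P : Subgroup W) (a b : P →* G'), (∀ x, (c' (a x) : Matrix n n F').charpoly =
      (c' (b x) : Matrix n n F').charpoly) → ∃ k : G', ∀ x, b x = k * a x * k⁻¹) : SubFus σ σ' := by
  intro P f g hg
  have hf1 : f 1 = 1 := by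
    apply hσ
    rw [hg 1 P.one_mem, map_one]
    group
  have hf : ∀ x y : P, f ((x * y : P) : W) = f x * f y := by
    intro x y
    apply hσ
    rw [map_mul, hg _ (x * y).2, hg _ x.2, hg _ y.2, Subgroup.coe_mul, map_mul]
    group
  let a : P →* G' := σ'.comp P.subtype
  let b : P →* G' :=
    { toFun := fun x => σ' (f x)
      map_one' := by
        show σ' (f ((1 : P) : W)) = 1
        rw [Subgroup.coe_one, hf1, map_one]
      map_mul' := fun x y => by
        show σ' (f ((x * y : P) : W)) = σ' (f x) * σ' (f y)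
        rw [hf, map_mul] }
  obtain ⟨k, hk⟩ := crit P a b (fun x => by
    show (c' (σ' x) : Matrix n n F').charpoly = (c' (σ' (f x)) : Matrix n n F').charpoly
    have h1 := (h'.charpoly_iff hζ hW x (f x)).2
    refine h1 ((h.charpoly_iff hζ hW x (f x)).1 ?_)
    show (c (σ x) : Matrix n n F).charpoly = (c (σ (f x)) : Matrix n n F).charpoly
    rw [hg x x.2, map_mul, map_mul, map_inv]
    exact (charpoly_conj_eq _ _).symm)
  exact ⟨k, fun x hx => hk ⟨x, hx⟩⟩

end Cfsg.Agent.H751
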